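import Cfsg.Agent.H383.Pi.GoodSU
import Cfsg.Agent.H952.RcSp
import Cfsg.Agent.H823.NfTwF_m3
import Cfsg.Agent.LieClassical.OrthFourPlus
import Cfsg.Agent.LieClassical.OrthFourMinus
import Mathlib
import Cfsg.Agent.AutOrth.Main
import Cfsg.Agent.ClassicalGeometry.OrthAut3
import Cfsg.Agent.H952.Alt
import Cfsg.Agent.H621.Pi.OrdO_m3
import Cfsg.Agent.H440.Bs.Rec_m3
import Cfsg.Agent.BpLin.Descent
import Cfsg.Agent.H826.Geo.Minus
import Cfsg.Agent.H826.Geo.Uni
import Cfsg.Agent.H542.Pi.G2Cases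
import Cfsg.Agent.H104.Closed_m3
import Cfsg.Agent.H110.Fpr.Small
import Cfsg.Agent.H107.FixThreeRows_m3
import Cfsg.Agent.CTwoTab.Base
import Cfsg.Agent.AutOrth.Final
import Cfsg.Agent.H478.RadTools_m3
import Cfsg.Agent.ClassicalGeometry.Sp4GraphAut
import Cfsg.Agent.ClassicalGeometry.SympAutSylow
import Cfsg.Agent.ClassicalGeometry.SympAutCentral
import Cfsg.Agent.LieClassical.SympCount
import Cfsg.Agent.BpCl.Rows
import Cfsg.Agent.BenderMod.Arith
import Cfsg.Agent.ClassicalGeometry.OrthAutRoot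
import Cfsg.Agent.ClassicalGeometry.OrthSemi
import Cfsg.Agent.H365.PiFi.Base_mg
import Cfsg.Agent.H383.R23.J3_mg_m3
import Cfsg.Agent.H216.Rad3.SpSix_m3
import Cfsg.Agent.H436.HeFive_m3
import Cfsg.Agent.PermParts.Consumer_m3
import Cfsg.Agent.FastGrp
import Cfsg.Agent.Prune
set_option linter.all false

section
prune_inst 0x7fbdacfbbbe869dedfff7e3fa694cdfdf5aa3fffa4dff9cbffe061ef0bdf4b00c9c123858bea10fc1ec2421410e87b43f9ffeeffe06bd87ffffd1df41ffbff8fedf7b50851968c340fb80fff03f0778e7f3fffffffffffffffffffffffffffbeffbfffffffff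

-- part: H809/Pi/GoodSp
section
prune_inst 0x253044412162120000040016b02000a1580004b00003000088c108000901e0204d80864012902003520200814001002001100030425000000e20840000050000048010049008010042000e000880000000000000000000000000000000000000000000000
set_option linter.all false
open scoped Cfsg.Agent.FastGrp

/-!
# S4324: the symplectic groups are good (helper809)

* `sgood_of_dichG`, `le_center_of_card_two` : criteria;
* `semiGood_sp`, `sgood_sp`.
-/

set_option autoImplicit false
set_option linter.unusedSectionVars false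

namespace Cfsg.Agent.H809.Sec

open Subgroup Cfsg Cfsg.Agent.H216.Pi
open Cfsg.Agent.BpCl (Semi Iso)

universe u v

section Tools

variable {F : Type u} {W : Type v} [Field F] [AddCommGroup W] [Module F W]

/-- normal subgroups central or containing a nonscalar element of order `s` -/
theorem sgood_of_dichG {s : ℕ} (hs : s.Prime) {Y : Subgroup (W ≃ₗ[F] W)}
    (hlin : ∀ g : W ≃ₗ[F] W, (∀ y ∈ Y, ∃ c : F, ∀ v, g (y v) = c • y (g v)) → IsSc F (⇑g))
    (hd : ∀ N : Subgroup ↥Y, N.Normal → N ≤ center ↥Y ∨ ∃ y ∈ N, y ^ s = 1 ∧ y ≠ 1)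
    (hsc : ∀ y ∈ Y, y ^ s = 1 → IsSc F (⇑y) → y = 1) : SGood s Y := by
  refine sgood_of_dich hs hlin fun N hN hn => ?_
  have hN' : (N.subgroupOf Y).Normal := by
    refine ⟨fun n hnn y => ?_⟩
    rw [mem_subgroupOf] at hnn ⊢
    exact hn y y.2 n hnn
  rcases hd _ hN' with h | ⟨y, hy, hys, hy1⟩
  · left
    intro n hnN
    have h1 : (⟨n, hN hnN⟩ : ↥Y) ∈ center ↥Y := h (mem_subgroupOf.2 hnN)
    apply isSc_of_central hlin
    intro y hyY
    exact (congrArg Subtype.val (mem_center_iff.1 h1 ⟨y, hyY⟩)).symm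
  · right
    have h1 : (y : W ≃ₗ[F] W) ^ s = 1 := congrArg Subtype.val hys
    refine ⟨y, mem_subgroupOf.1 hy, h1, fun h => hy1 ?_⟩
    exact Subtype.ext (hsc y y.2 h1 h)

/-- a normal subgroup of order at most 2 is central -/
theorem le_center_of_card_two {G : Type*} [Group G] {N : Subgroup G} (hN : N.Normal) [Finite ↥N]
    (h2 : Nat.card ↥N ≤ 2) : N ≤ center G := by
  intro n hnN
  rw [mem_center_iff]
  intro y
  by_cases hn1 : n = 1
  · rw [hn1, one_mul, mul_one]
  · have h7 := hN.conj_mem n hnN y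
    by_contra hne'
    have hne : y * n * y⁻¹ ≠ n := fun h => hne' (mul_inv_eq_iff_eq_mul.1 h)
    have hne1 : y * n * y⁻¹ ≠ 1 := by
      intro h9
      apply hn1
      have : n = y⁻¹ * (y * n * y⁻¹) * y := by group
      rw [this, h9]; group
    let f : Fin 3 → ↥N := ![⟨1, N.one_mem⟩, ⟨n, hnN⟩, ⟨y * n * y⁻¹, h7⟩]
    have hf : Function.Injective f := by
      intro i j hij
      have h10 := congrArg Subtype.val hij
      fin_cases i <;> fin_cases j <;> first | rfl | (exfalso; revert h10; simp only [f, _root_.Fin.zero_eta, _root_.Fin.isValue, _root_.Matrix.cons_val_zero, _root_.Fin.mk_one, _root_.Matrix.cons_val_one, _root_.imp_false, _root_.Fin.reduceFinMk, _root_.Matrix.cons_val, _root_.conj_eq_one_iff]; (clear * - G n hn1 hne1 hne; tauto))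
    have h9 := Nat.card_le_card_of_injective f hf
    rw [Nat.card_eq_fintype_card, Fintype.card_fin] at h9
    omega

/-- transport of a property of normal subgroups -/
theorem dich_congr {G H : Type*} [Group G] [Group H] (e : G ≃* H) {s : ℕ}
    (h : ∀ N : Subgroup G, N.Normal → N ≤ center G ∨ ∃ y ∈ N, y ^ s = 1 ∧ y ≠ 1) :
    ∀ N : Subgroup H, N.Normal → N ≤ center H ∨ ∃ y ∈ N, y ^ s = 1 ∧ y ≠ 1 := by
  intro N hN
  rcases h (N.comap e.toMonoidHom) (hN.comap _) with h1 | ⟨y, hy, hys, hy1⟩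
  · left
    intro n hn
    rw [mem_center_iff]
    intro a
    have h2 : e.symm n ∈ center G := h1 (by rw [mem_comap]; simpa using hn)
    have h3 := congrArg e (mem_center_iff.1 h2 (e.symm a))
    simpa only [_root_.map_mul, _root_.MulEquiv.apply_symm_apply] using h3
  · right
    refine ⟨e y, hy, by rw [← map_pow, hys, map_one], fun h2 => hy1 ?_⟩
    exact (map_eq_one_iff e e.injective).1 h2

/-- `S_6` -/
theorem dich_perm_six {s : ℕ} (hs : s.Prime) (h : s = 3 ∨ s = 5) (N : Subgroup (Equiv.Perm (Fin 6))) (hN : N.Normal) :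
    N ≤ center (Equiv.Perm (Fin 6)) ∨ ∃ y ∈ N, y ^ s = 1 ∧ y ≠ 1 := by
  have hsi : IsSimpleGroup (alternatingGroup (Fin 6)) := alternatingGroup.isSimpleGroup (by simp)
  have hcard : Nat.card ↥(alternatingGroup (Fin 6)) = 360 := by
    have h1 := nat_card_alternatingGroup (α := Fin 6)
    rw [h1]
    simp [Nat.factorial]
  rcases (hN.subgroupOf (alternatingGroup (Fin 6))).eq_bot_or_eq_top with h1 | h1
  · left
    have h2 : N ⊓ alternatingGroup (Fin 6) = ⊥ := by
      rw [← Subgroup.subgroupOf_map_subtype, h1, Subgroup.map_bot]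
    refine le_center_of_card_two hN ?_
    -- `N` embeds in the units
    let f : ↥N → ℤˣ := fun n => Equiv.Perm.sign (n : Equiv.Perm (Fin 6))
    have hf : Function.Injective f := by
      intro a b hab
      have h3 : (a * b⁻¹ : ↥N).1 ∈ N ⊓ alternatingGroup (Fin 6) := by
        refine ⟨(a * b⁻¹).2, Equiv.Perm.mem_alternatingGroup.2 ?_⟩
        change Equiv.Perm.sign (a.1 * b.1⁻¹) = 1
        rw [map_mul, map_inv]
        change f a * (f b)⁻¹ = 1
        rw [hab, mul_inv_cancel]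
      rw [h2, mem_bot] at h3
      have h4 : a * b⁻¹ = 1 := Subtype.ext h3
      exact mul_inv_eq_one.1 h4
    have h3 := Nat.card_le_card_of_injective f hf
    rw [Nat.card_eq_fintype_card (α := ℤˣ), Fintype.card_units_int] at h3
    exact h3
  · right
    have hsF : Fact s.Prime := ⟨hs⟩
    have h2 : s ∣ Nat.card ↥(alternatingGroup (Fin 6)) := by
      rw [hcard]
      rcases h with rfl | rfl <;> norm_num
    obtain ⟨y, hy⟩ := exists_prime_orderOf_dvd_card' s h2
    have h3 : y ∈ N.subgroupOf (alternatingGroup (Fin 6)) := by rw [h1]; exact mem_top y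
    refine ⟨y, mem_subgroupOf.1 h3, ?_, ?_⟩
    · have := pow_orderOf_eq_one y
      rw [hy] at this
      exact congrArg Subtype.val this
    · intro h4
      have h5 : y = 1 := Subtype.ext h4
      rw [h5, orderOf_one] at hy
      exact hs.one_lt.ne hy

end Tools

section Sp

variable {F : Type u} {W : Type v} [Field F] [AddCommGroup W] [Module F W] {B : LinearMap.BilinForm F W}

theorem semiGood_sp (hA : B.IsAlt) (hnd : ∀ u, (∀ v, B u v = 0) → u = 0)
    (h2 : 2 ≤ Module.finrank F W) (φ : F ≃+* F) : SemiGood (Iso fun u v => B u v) φ := by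
  intro g hg h
  apply isSc_of_eig h2 hg.add
  intro u
  by_cases hu : u = 0
  · exact ⟨0, by rw [hu, hg.zero, smul_zero]⟩
  obtain ⟨w, hw⟩ := H952.Rc.exists_ne_sp hA hnd hu
  obtain ⟨c, hc⟩ := h _ (H952.Rc.tv_mem hA (Γ := Iso fun u v => B u v) (fun _ => Iff.rfl) u)
  have e1 : ∀ v, g (v + B v u • u) = c • (g v + B (g v) u • u) := by
    intro v
    have := hc v
    rwa [H952.Rc.tv_apply, H952.Rc.tv_apply] at this
  by_cases hc1 : c = 1
  · have e2 := e1 w
    rw [hc1, one_smul, hg.add, add_right_inj, hg.smul] at e2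
    refine ⟨(φ (B w u))⁻¹ * B (g w) u, ?_⟩
    rw [mul_smul, ← e2, smul_smul, inv_mul_cancel₀, one_smul]
    simpa only [_root_.ne_eq, _root_.EmbeddingLike.map_eq_zero_iff] using hw
  · have e2 := e1 u
    rw [hA u, zero_smul, add_zero, smul_add] at e2
    have e3 : (1 - c) • g u = (c * B (g u) u) • u := by
      rw [sub_smul, one_smul, mul_smul]
      nth_rw 1 [e2]
      abel
    refine ⟨(1 - c)⁻¹ * (c * B (g u) u), ?_⟩
    rw [mul_smul, ← e3, smul_smul, inv_mul_cancel₀ (sub_ne_zero.2 (Ne.symm hc1)), one_smul]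

theorem lin_sp (hA : B.IsAlt) (hnd : ∀ u, (∀ v, B u v = 0) → u = 0) (h2 : 2 ≤ Module.finrank F W) (g : W ≃ₗ[F] W)
    (h : ∀ y ∈ Iso fun u v => B u v, ∃ c : F, ∀ v, g (y v) = c • y (g v)) : IsSc F (⇑g) :=
  semiGood_sp hA hnd h2 (RingEquiv.refl F) g.toEquiv ⟨fun u v => map_add g u v, fun a v => map_smul g a v⟩ h

/-- scalar isometries have order at most 2 -/
theorem sc_sp (hA : B.IsAlt) (hnd : ∀ u, (∀ v, B u v = 0) → u = 0) (h2 : 2 ≤ Module.finrank F W) {s : ℕ}
    (hs : s.Prime) (h3 : 3 ≤ s) {y : W ≃ₗ[F] W} (hy : y ∈ Iso fun u v => B u v) (hys : y ^ s = 1)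
    (hsc : IsSc F (⇑y)) : y = 1 := by
  obtain ⟨c, hc⟩ := hsc
  have hW : Nontrivial W := Module.nontrivial_of_finrank_pos (R := F) (by omega)
  obtain ⟨u, hu⟩ := exists_ne (0 : W)
  obtain ⟨w, hw⟩ := H952.Rc.exists_ne_sp hA hnd hu
  have h1 : c * c = 1 := by
    have h4 : B (y w) (y u) = B w u := hy w u
    rw [hc, hc, map_smul, map_smul, LinearMap.smul_apply, smul_eq_mul, smul_eq_mul, ← mul_assoc] at h4
    have h5 : (c * c - 1) * B w u = 0 := by rw [sub_mul, one_mul, h4, sub_self]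
    exact sub_eq_zero.1 ((mul_eq_zero.1 h5).resolve_right hw)
  have h4 : y ^ 2 = 1 := by
    apply LinearEquiv.ext
    intro v
    rw [pow_two]
    change y (y v) = v
    rw [hc, hc, smul_smul, h1, one_smul]
  have hodd : Odd s := hs.odd_of_ne_two (by omega)
  exact H952.Rc.eq_one_of_two hodd h4 hys

/-- **The symplectic groups are good.** -/
theorem sgood_sp [Finite F] [FiniteDimensional F W] (hA : B.IsAlt) (hnd : ∀ u, (∀ v, B u v = 0) → u = 0) {s : ℕ}
    (hs : s.Prime) (h3 : 3 ≤ s) (h2 : 2 ≤ Module.finrank F W) {i : ℕ} (hi : 1 ≤ i) (hiw : 2 * i ≤ Module.finrank F W)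
    (hd : s ∣ Nat.card F ^ (2 * i) - 1) : SGood s (Iso fun u v => B u v) := by
  have : Fintype F := Fintype.ofFinite F
  obtain ⟨m, e, he⟩ := Cfsg.Agent.BpCl.exists_coords hA hnd
  obtain ⟨f⟩ := Cfsg.Agent.BpCl.nonempty_symp e he
  have hw : Module.finrank F W = 2 * m := by
    rw [← LinearEquiv.finrank_eq e]
    simp only [two_mul, _root_.Module.finrank_fintype_fun_eq_card, _root_.Fintype.card_sum, _root_.Fintype.card_fin, _root_.Nat.add_left_cancel_iff]
  have hcard := LieClassical.SympCount.card_symplecticGroup (F := F) m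
  have him : i ≤ m := by omega
  have hdvd : s ∣ Nat.card (Matrix.symplecticGroup (Fin m) F) := by
    rw [hcard]
    refine dvd_mul_of_dvd_right (dvd_trans ?_ (Finset.dvd_prod_of_mem _ (Finset.mem_range.2 (show i - 1 < m by omega)))) _
    rw [← Nat.card_eq_fintype_card, Nat.sub_add_cancel hi]
    exact hd
  have hsF : Fact s.Prime := ⟨hs⟩
  have hfin : Finite ↥(Matrix.symplecticGroup (Fin m) F) := Subtype.finite
  refine sgood_of_dichG hs (lin_sp hA hnd h2) (dich_congr f ?_) (fun y hy hys hsc => sc_sp hA hnd h2 hs h3 hy hys hsc)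
  intro N hN
  by_cases h : 3 ≤ m ∨ (m = 2 ∧ 3 ≤ Fintype.card F) ∨ 4 ≤ Fintype.card F
  · by_cases hle : N ≤ center _
    · exact Or.inl hle
    · right
      have hperf := LieClassical.SympPerfect.commutator_eq_top h
      have hgen : ClassicalGeometry.SympBasic.transvGroup m F = ⊤ := Cfsg.Agent.S0765.result m
      have h4 := LieClassical.SympSimple.commutator_le_of_not_le_center hgen N hle
      rw [hperf] at h4
      obtain ⟨y, hy⟩ := exists_prime_orderOf_dvd_card' s hdvd
      refine ⟨y, h4 (mem_top y), ?_, ?_⟩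
      · rw [← hy]; exact pow_orderOf_eq_one y
      · rintro rfl
        rw [orderOf_one] at hy
        exact hs.one_lt.ne hy
  push Not at h
  obtain ⟨h1, h4, h5⟩ := h
  have hq : 2 ≤ Fintype.card F := Fintype.one_lt_card
  rw [Nat.card_eq_fintype_card] at hd
  by_cases hm : m = 1
  · subst hm
    have hi1 : i = 1 := by omega
    subst hi1
    have hq2 : Fintype.card F = 2 ∧ s = 3 := by
      generalize Fintype.card F = q at *
      have h6 : q = 2 ∨ q = 3 := by omega
      rcases h6 with rfl | rfl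
      · have := Nat.le_of_dvd (by norm_num) hd
        exact ⟨rfl, by omega⟩
      · exfalso
        have h8 : s ∣ 2 ^ 3 := by simpa using hd
        have := Nat.le_of_dvd (by norm_num) (hs.dvd_of_dvd_pow h8)
        omega
    obtain ⟨hq2, rfl⟩ := hq2
    have h6 : Nat.card ↥(Matrix.symplecticGroup (Fin 1) F) = 6 := by
      rw [hcard, hq2]; simp only [_root_.one_pow, _root_.pow_one, _root_.Finset.range_one, _root_.Finset.prod_singleton, _root_.zero_add, _root_.mul_one, _root_.Nat.reducePow, _root_.Nat.add_one_sub_one, _root_.Nat.reduceMul]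
    by_cases h7 : 3 ∣ Nat.card ↥N
    · right
      obtain ⟨y, hy⟩ := exists_prime_orderOf_dvd_card' 3 h7
      refine ⟨y, y.2, ?_, ?_⟩
      · have := pow_orderOf_eq_one y
        rw [hy] at this
        exact congrArg Subtype.val this
      · intro h8
        have h9 : y = 1 := Subtype.ext h8
        rw [h9, orderOf_one] at hy
        norm_num at hy
    · left
      refine le_center_of_card_two hN ?_
      have h8 : Nat.card ↥N ∣ 6 := h6 ▸ N.card_subgroup_dvd_card
      have h9 := Nat.le_of_dvd (by norm_num) h8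
      generalize Nat.card ↥N = k at *
      interval_cases k <;> omega
  · have hm2 : m = 2 := by omega
    subst hm2
    have hq2 : Fintype.card F = 2 := by have := h4 rfl; omega
    obtain ⟨ε⟩ := LieClassical.SpFourTwo.nonempty_equiv_perm hq2
    refine dich_congr ε.symm (dich_perm_six hs ?_) N hN
    rw [hq2] at hd
    have h6 : i = 1 ∨ i = 2 := by omega
    rcases h6 with rfl | rfl
    · have := Nat.le_of_dvd (by norm_num) hd; left; omega
    · have h7 : s ∣ 3 * 5 := by simpa using hd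
      rcases hs.dvd_mul.1 h7 with h8 | h8
      · left; exact (Nat.prime_dvd_prime_iff_eq hs (by norm_num)).1 h8
      · right; exact (Nat.prime_dvd_prime_iff_eq hs (by norm_num)).1 h8

end Sp

end Cfsg.Agent.H809.Sec
end

-- part: H809/Pi/GoodO4m_mg
section
prune_inst 0x421100001096210000004000080200081100004200040000000010000000000400d820001003000135200800100010060000000000000000000200000000501000000020000000000420000000000000000000000000000000000000000000000000000000
set_option linter.all false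
open scoped Cfsg.Agent.FastGrp

-- part: H809/Pi/GoodO
section
/-!
# S4324: the groups `Ω(W) = E Q` are good (helper809)

* `siegel_commute` : a semilinear map which commutes with a Siegel transformation up to a scalar commutes with it;
* `semiGood_omega` (dimension `≥ 4`), `sgood_omega_five` (dimension `≥ 5`).
-/

set_option autoImplicit false
set_option linter.unusedSectionVars false

namespace Cfsg.Agent.H809.Sec

open Subgroup Cfsg Cfsg.Agent.H216.Pi QuadraticMap
open Cfsg.Agent.BpCl (Semi Iso)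
open Cfsg.Agent.LieClassical.OrthCore Cfsg.Agent.LieClassical.OrthTrans

universe u v

variable {F : Type u} {W : Type v} [Field F] [AddCommGroup W] [Module F W] {Q : QuadraticForm F W}

theorem semi_neg {g : Equiv.Perm W} {φ : F ≃+* F} (hg : Semi φ g) (v : W) : g (-v) = -g v := by
  have := hg.add v (-v)
  rw [add_neg_cancel, hg.zero] at this
  exact (neg_eq_of_add_eq_zero_right this.symm).symm

theorem semi_sub {g : Equiv.Perm W} {φ : F ≃+* F} (hg : Semi φ g) (u v : W) : g (u - v) = g u - g v := by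
  rw [sub_eq_add_neg, hg.add, semi_neg hg, ← sub_eq_add_neg]

theorem siegel_self {u w : W} (hu : Q u = 0) (hw : polar Q u w = 0) : siegel Q u w hu hw u = u := by
  rw [siegel_apply, polar_self_of_sing hu, polar_zero_of_comm hw]
  simp

/-- Siegel transformations have only the eigenvalue `1` -/
theorem siegel_eig {u w x : W} (hu : Q u = 0) (hw : polar Q u w = 0) (hx : x ≠ 0) {c : F}
    (h : siegel Q u w hu hw x = c • x) : c = 1 := by
  by_contra hc
  have h1 : polar Q u (siegel Q u w hu hw x) = polar Q u x := by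
    have h2 := polar_map (E_le_O (siegel_mem_E hu hw)) u x
    rwa [siegel_self] at h2
  rw [h, polar_smul_right, smul_eq_mul] at h1
  have h2 : polar Q u x = 0 := by
    have h3 : (c - 1) * polar Q u x = 0 := by rw [sub_mul, one_mul, h1, sub_self]
    exact (mul_eq_zero.1 h3).resolve_left (sub_ne_zero.2 hc)
  rw [siegel_apply, h2, zero_smul, mul_zero, zero_smul, add_zero, sub_zero] at h
  -- `x - B(w,x) u = c x`
  have h3 : (c - 1) • x = -(polar Q w x • u) := by
    rw [sub_smul, one_smul, ← h]; abel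
  have h4 : siegel Q u w hu hw ((c - 1) • x) = (c - 1) • x := by
    rw [h3, map_neg, map_smul, siegel_self]
  rw [map_smul, siegel_apply, h2, zero_smul, mul_zero, zero_smul, add_zero, sub_zero, h] at h4
  have h5 : (c - 1) • ((c - 1) • x) = 0 := by
    have h6 : (c - 1) • (c • x) - (c - 1) • x = 0 := by rw [h4, sub_self]
    rw [← smul_sub] at h6
    have h7 : c • x - x = (c - 1) • x := by rw [sub_smul, one_smul]
    rwa [h7] at h6
  rcases smul_eq_zero.1 h5 with h6 | h6
  · exact hc (sub_eq_zero.1 h6)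
  · rcases smul_eq_zero.1 h6 with h7 | h7
    · exact hc (sub_eq_zero.1 h7)
    · exact hx h7

/-- commuting with Siegel transformations up to a scalar is commuting -/
theorem siegel_commute {g : Equiv.Perm W} {φ : F ≃+* F} (hg : Semi φ g) {u w : W} (hu : Q u = 0)
    (hw : polar Q u w = 0) (hu0 : u ≠ 0) (h : ∃ c : F, ∀ v, g (siegel Q u w hu hw v) = c • siegel Q u w hu hw (g v))
    (v : W) : g (siegel Q u w hu hw v) = siegel Q u w hu hw (g v) := by
  obtain ⟨c, hc⟩ := h
  have hgu : g u ≠ 0 := by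
    intro h0
    apply hu0
    apply g.injective
    rw [h0, hg.zero]
  have hc0 : c ≠ 0 := by
    rintro rfl
    have h1 := hc u
    rw [zero_smul, siegel_self] at h1
    exact hgu h1
  have h1 := hc u
  rw [siegel_self] at h1
  have h2 : siegel Q u w hu hw (g u) = c⁻¹ • g u := by
    nth_rw 2 [h1]
    rw [smul_smul, inv_mul_cancel₀ hc0, one_smul]
  have h3 := siegel_eig hu hw hgu h2
  rw [hc, inv_eq_one.1 h3, one_smul]

/-- the singular points are fixed -/
theorem fix_sing [FiniteDimensional F W] (hQ : Nondeg Q) (h4 : 4 ≤ Module.finrank F W) {g : Equiv.Perm W}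
    {φ : F ≃+* F} (hg : Semi φ g)
    (h : ∀ u w (hu : Q u = 0) (hw : polar Q u w = 0), u ≠ 0 → ∀ v, g (siegel Q u w hu hw v) = siegel Q u w hu hw (g v))
    {u : W} (hu : Q u = 0) (hu0 : u ≠ 0) : ∃ c : F, g u = c • u := by
  obtain ⟨y, hy⟩ := exists_hyp hQ hu hu0
  obtain ⟨a, c, hua, hya, huc, hyc, hac⟩ := exists_perp2 hQ (by omega) hy
  obtain ⟨w, hw0, hw⟩ := exists_perp_ne (Q := Q) ![u, y, c] (by omega)
  have huw : polar Q u w = 0 := hw 0
  have hyw : polar Q y w = 0 := hw 1
  have hcw : polar Q c w = 0 := hw 2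
  have key : ∀ b (hb : polar Q u b = 0), φ (polar Q b c) • g u = -(polar Q u (g c) • b) +
      (polar Q b (g c) + Q b * polar Q u (g c)) • u := by
    intro b hb
    have h1 := h u b hu hb hu0 c
    rw [siegel_apply, siegel_apply, huc, zero_smul, mul_zero, zero_smul, add_zero, sub_zero, semi_sub hg, hg.smul] at h1
    have h2 : φ (polar Q b c) • g u = g c - (g c - φ (polar Q b c) • g u) := by abel
    rw [h2, h1, add_smul]
    abel
  have e1 := key a hua
  rw [hac, map_one, one_smul] at e1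
  have e2 := key w huw
  rw [polar_comm Q w c, hcw, map_zero, zero_smul] at e2
  -- `α w ∈ F u`
  have hα : polar Q u (g c) = 0 := by
    by_contra hα
    apply hw0
    have h3 : polar Q u (g c) • w = (polar Q w (g c) + Q w * polar Q u (g c)) • u := by
      have h4 : polar Q u (g c) • w = polar Q u (g c) • w + 0 := by rw [add_zero]
      rw [h4, e2]; abel
    have h4 : polar Q y (polar Q u (g c) • w) = 0 := by rw [polar_smul_right, hyw, smul_zero]
    rw [h3, polar_smul_right, hy.pair', smul_eq_mul, mul_one] at h4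
    rw [h4, zero_smul] at h3
    exact (smul_eq_zero.1 h3).resolve_left hα
  refine ⟨polar Q a (g c) + Q a * polar Q u (g c), ?_⟩
  rw [e1, hα, zero_smul, neg_zero, zero_add]

/-- **Only scalars commute with `Ω(W)`**, among the semilinear maps. -/
theorem semiGood_omega [Finite F] [FiniteDimensional F W] (hQ : ∀ u, (∀ v, polar Q u v = 0) → u = 0)
    (h4 : 4 ≤ Module.finrank F W) (φ : F ≃+* F) : SemiGood (E Q) φ := by
  intro g hg h
  have hnd : Nondeg Q := hQ
  have hcomm : ∀ u w (hu : Q u = 0) (hw : polar Q u w = 0), u ≠ 0 → ∀ v,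
      g (siegel Q u w hu hw v) = siegel Q u w hu hw (g v) :=
    fun u w hu hw hu0 => siegel_commute hg hu hw hu0 (h _ (siegel_mem_E hu hw))
  obtain ⟨x, hx0, hx, -⟩ := Cfsg.Agent.LieClassical.OrthFinite.exists_sing_perp (Q := Q) (n := 0) ![] (by omega)
  obtain ⟨y, hxy⟩ := exists_hyp hnd hx hx0
  obtain ⟨α, hα⟩ := fix_sing hnd h4 hg hcomm hx hx0
  obtain ⟨β, hβ⟩ := fix_sing hnd h4 hg hcomm hxy.right hxy.right_ne
  have key : ∀ {x y : W} (hxy : Hyp Q x y) {α β : F} (_ : g x = α • x) (_ : g y = β • y) (w : W)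
      (_ : polar Q x w = 0) (_ : polar Q y w = 0), g w = β • w + (φ (Q w) * α - β * Q w) • x := by
    intro x y hxy α β hα hβ w hxw hyw
    have h1 := hcomm x w hxy.left hxw hxy.left_ne y
    rw [hβ, map_smul, siegel_apply, hxy.pair, polar_comm Q w y, hyw, zero_smul, sub_zero, one_smul, mul_one,
      semi_sub hg, hg.add, hg.smul, hα, hβ, smul_sub, smul_add, smul_smul, smul_smul] at h1
    have h2 : g w = (β • y + g w - (φ (Q w) * α) • x) - β • y + (φ (Q w) * α) • x := by abel
    rw [h2, h1, sub_smul]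
    abel
  obtain ⟨a, c, hxa, hya, hxc, hyc, hac⟩ := exists_perp2 hnd (by omega) hxy
  have hαβ : α = β := by
    have e1 := key hxy hα hβ a hxa hya
    have e2 := key hxy.symm hβ hα a hya hxa
    have h1 : polar Q c (g a) = β := by
      rw [e1, polar_add_right, polar_smul_right, polar_smul_right, polar_comm Q c x, hxc, polar_comm Q c a, hac]
      simp
    have h2 : polar Q c (g a) = α := by
      rw [e2, polar_add_right, polar_smul_right, polar_smul_right, polar_comm Q c y, hyc, polar_comm Q c a, hac]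
      simp
    rw [← h1, h2]
  subst hαβ
  have hw : ∀ w, polar Q x w = 0 → polar Q y w = 0 → g w = α • w := by
    intro w hxw hyw
    have e1 := key hxy hα hβ w hxw hyw
    have e2 := key hxy.symm hβ hα w hyw hxw
    have h1 : polar Q y (g w) = φ (Q w) * α - α * Q w := by
      rw [e1, polar_add_right, polar_smul_right, polar_smul_right, hyw, hxy.pair']
      simp
    have h2 : polar Q y (g w) = 0 := by
      rw [e2, polar_add_right, polar_smul_right, polar_smul_right, hyw, hxy.polar_right]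
      simp
    rw [e1, ← h1, h2, zero_smul, add_zero]
  have hα0 : α ≠ 0 := by
    rintro rfl
    rw [zero_smul] at hα
    exact hx0 (g.injective (hα.trans hg.zero.symm))
  have ha0 : a ≠ 0 := by
    rintro rfl
    rw [polar_zero_left] at hac
    exact zero_ne_one hac
  have hφ : ∀ r, φ r = r := by
    intro r
    have h1 := hw (r • a) (by rw [polar_smul_right, hxa, smul_zero]) (by rw [polar_smul_right, hya, smul_zero])
    rw [hg.smul, hw a hxa hya, smul_smul, smul_smul] at h1
    have h2 : (φ r * α - α * r) • a = 0 := by rw [sub_smul, h1, sub_self]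
    have h3 := (smul_eq_zero.1 h2).resolve_right ha0
    have h4 : α * (φ r - r) = 0 := by rw [← h3]; ring
    exact sub_eq_zero.1 ((mul_eq_zero.1 h4).resolve_left hα0)
  refine ⟨α, fun v => ?_⟩
  have hv : v = LieClassical.OrthTrans.proj Q x y v + polar Q y v • x + polar Q x v • y := by
    unfold LieClassical.OrthTrans.proj; abel
  have h1 : g v = g (LieClassical.OrthTrans.proj Q x y v + polar Q y v • x + polar Q x v • y) := congrArg g hv
  have h2 : α • v = α • (LieClassical.OrthTrans.proj Q x y v + polar Q y v • x + polar Q x v • y) :=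
    congrArg (α • ·) hv
  rw [h1, h2, hg.add, hg.add, hg.smul, hg.smul, hφ, hφ, hα, hβ,
    hw _ (polar_proj_left hxy v) (polar_proj_right hxy v), smul_add, smul_add, smul_comm α (polar Q y v),
    smul_comm α (polar Q x v)]

theorem lin_omega [Finite F] [FiniteDimensional F W] (hQ : ∀ u, (∀ v, polar Q u v = 0) → u = 0)
    (h4 : 4 ≤ Module.finrank F W) (g : W ≃ₗ[F] W) (h : ∀ y ∈ E Q, ∃ c : F, ∀ v, g (y v) = c • y (g v)) :
    IsSc F (⇑g) :=
  semiGood_omega hQ h4 (RingEquiv.refl F) g.toEquiv ⟨fun u v => map_add g u v, fun a v => map_smul g a v⟩ h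

/-- scalar isometries have order at most 2 -/
theorem sc_omega [Finite F] [FiniteDimensional F W] (hQ : ∀ u, (∀ v, polar Q u v = 0) → u = 0)
    (h4 : 4 ≤ Module.finrank F W) {s : ℕ} (hs : s.Prime) (h3 : 3 ≤ s) {y : W ≃ₗ[F] W} (hy : y ∈ O Q)
    (hys : y ^ s = 1) (hsc : IsSc F (⇑y)) : y = 1 := by
  obtain ⟨c, hc⟩ := hsc
  have hnd : Nondeg Q := hQ
  obtain ⟨x, hx0, hx, -⟩ := Cfsg.Agent.LieClassical.OrthFinite.exists_sing_perp (Q := Q) (n := 0) ![] (by omega)
  obtain ⟨z, hxz⟩ := exists_hyp hnd hx hx0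
  have h1 : c * c = 1 := by
    have h5 := polar_map hy x z
    rw [hc, hc, polar_smul_left, polar_smul_right, hxz.pair, smul_eq_mul, smul_eq_mul, mul_one] at h5
    exact h5
  have h5 : y ^ 2 = 1 := by
    apply LinearEquiv.ext
    intro v
    rw [pow_two]
    change y (y v) = v
    rw [hc, hc, smul_smul, h1, one_smul]
  have hodd : Odd s := hs.odd_of_ne_two (by omega)
  exact H952.Rc.eq_one_of_two hodd h5 hys

/-- an element of order `s` -/
theorem exists_omega [Finite F] [FiniteDimensional F W] (hQ : ∀ u, (∀ v, polar Q u v = 0) → u = 0)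
    (h4 : 4 ≤ Module.finrank F W) {s : ℕ} (hs : s.Prime) (h3 : 3 ≤ s) (hd : s ∣ Nat.card ↥(E Q)) :
    ∃ y ∈ E Q, y ^ s = 1 ∧ ¬ IsSc F (⇑y) := by
  have hsF : Fact s.Prime := ⟨hs⟩
  have hfin : Finite W := Module.finite_of_finite F
  have : Finite (W ≃ₗ[F] W) := Finite.of_injective (fun h : W ≃ₗ[F] W => (h : W → W)) DFunLike.coe_injective
  obtain ⟨y, hy⟩ := exists_prime_orderOf_dvd_card' s hd
  have hys : (y : W ≃ₗ[F] W) ^ s = 1 := by
    have := pow_orderOf_eq_one y
    rw [hy] at this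
    exact congrArg Subtype.val this
  refine ⟨y, y.2, hys, fun hsc => ?_⟩
  have h6 := sc_omega hQ h4 hs h3 (E_le_O y.2) hys hsc
  have h7 : y = 1 := Subtype.ext h6
  rw [h7, orderOf_one] at hy
  exact hs.one_lt.ne hy

/-- dimension at least five -/
theorem sgood_omega_five [Finite F] [FiniteDimensional F W] (hQ : ∀ u, (∀ v, polar Q u v = 0) → u = 0)
    {s : ℕ} (hs : s.Prime) (h3 : 3 ≤ s) (h5 : 5 ≤ Module.finrank F W) (hd : s ∣ Nat.card ↥(E Q)) : SGood s (E Q) := by
  refine sgood_of_dich hs (lin_omega hQ (by omega)) fun N hN hn => ?_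
  rcases Cfsg.Agent.LieClassical.OrthSimple.good_normal_dichotomy
    (Cfsg.Agent.LieClassical.OrthFinite.good_of_finite hQ h5) hN hn with h | h
  · exact Or.inl h
  · right
    rw [h]
    exact exists_omega hQ (by omega) hs h3 hd

end Cfsg.Agent.H809.Sec
end

-- part: H809/Pi/GoodO4
section
/-!
# S4324: the groups `Ω(W) = E Q` are good, dimension 4, plus type (helper809)
-/

set_option autoImplicit false
set_option linter.unusedSectionVars false
set_option linter.unnecessarySeqFocus false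

namespace Cfsg.Agent.H809.Sec

open Subgroup Cfsg Cfsg.Agent.H216.Pi QuadraticMap
open Cfsg.Agent.BpCl (Semi Iso)
open Cfsg.Agent.LieClassical.OrthCore
open Cfsg.Agent.LieClassical.OrthFourCommon (isom mem_isom)
open scoped MatrixGroups

universe u v

variable {F : Type u} {W : Type v} [Field F] [AddCommGroup W] [Module F W] {Q : QuadraticForm F W}

/-! ### `2 × 2` matrices -/

section SLTwo

variable {L : Type u} [Field L]

/-- the linear map of a matrix -/
noncomputable def lm (A : GL (Fin 2) L) : (Fin 2 → L) ≃ₗ[L] (Fin 2 → L) :=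
  LinearMap.GeneralLinearGroup.generalLinearEquiv L (Fin 2 → L) (Matrix.GeneralLinearGroup.toLin A)

theorem lm_apply (A : GL (Fin 2) L) (v : Fin 2 → L) : lm A v = (A : Matrix (Fin 2) (Fin 2) L).mulVec v := rfl

theorem isSc_lm {A : GL (Fin 2) L} : IsSc L (⇑(lm A)) ↔ ∃ c : L, (A : Matrix (Fin 2) (Fin 2) L) = c • 1 := by
  constructor
  · rintro ⟨c, hc⟩
    refine ⟨c, ?_⟩
    apply Matrix.ext_of_mulVec_single
    intro i
    rw [← lm_apply, hc, Matrix.smul_mulVec, Matrix.one_mulVec]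
  · rintro ⟨c, hc⟩
    refine ⟨c, fun v => ?_⟩
    rw [lm_apply, hc, Matrix.smul_mulVec, Matrix.one_mulVec]

/-- **A group of pairs**: a subgroup `S` of `SL_2(L)` normalised by `SL_2(L)` such that every element has a scalar power
prime to `s`, is scalar. -/
theorem sl_two_core [Finite L] {s : ℕ} (hs : s.Prime) (h3 : 3 ≤ s) {i : ℕ} (hi : 1 ≤ i) (hi2 : i ≤ 2)
    (hd : s ∣ Nat.card L ^ i - 1) (S : Subgroup SL(2, L)) (hS : S.Normal)
    (hp : ∀ a ∈ S, ∃ k : ℕ, ¬ s ∣ k ∧ ∃ c : L, (a ^ k : SL(2, L)).1 = c • 1) {a : SL(2, L)} (ha : a ∈ S) :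
    ∃ c : L, a.1 = c • 1 := by
  have h2 : Module.finrank L (Fin 2 → L) = 2 := by simp
  have hG := sgood_sl (F := L) (W := Fin 2 → L) hs h3 (by omega) hi (by omega) hd
  have hr := slHom_range (LinearEquiv.refl L (Fin 2 → L))
  have happ : ∀ (a : SL(2, L)) (v : Fin 2 → L), slHom (LinearEquiv.refl L (Fin 2 → L)) a v = a.1.mulVec v := fun _ _ => rfl
  have hsc : ∀ a : SL(2, L), IsSc L (⇑(slHom (LinearEquiv.refl L (Fin 2 → L)) a)) ↔ ∃ c : L, a.1 = c • 1 := by
    intro a
    constructor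
    · rintro ⟨c, hc⟩
      refine ⟨c, ?_⟩
      apply Matrix.ext_of_mulVec_single
      intro i
      rw [← happ, hc, Matrix.smul_mulVec, Matrix.one_mulVec]
    · rintro ⟨c, hc⟩
      refine ⟨c, fun v => ?_⟩
      rw [happ, hc, Matrix.smul_mulVec, Matrix.one_mulVec]
  rw [← hsc]
  refine hG.core (S.map (slHom (LinearEquiv.refl L (Fin 2 → L)))) ?_ ?_ ?_ _ ⟨a, ha, rfl⟩
  · rw [← hr]
    rintro _ ⟨b, -, rfl⟩
    exact ⟨b, rfl⟩
  · intro y hy
    rw [← hr] at hy
    obtain ⟨b, rfl⟩ := hy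
    rintro _ ⟨c, hc, rfl⟩
    exact ⟨b * c * b⁻¹, hS.conj_mem c hc b, by rw [map_mul, map_mul, map_inv]⟩
  · rintro _ ⟨c, hc, rfl⟩
    obtain ⟨k, hk, h⟩ := hp c hc
    refine ⟨k, hk, ?_⟩
    rw [← map_pow, hsc]
    exact h

/-- a matrix commuting with `SL_2(L)` modulo scalars is scalar -/
theorem gl_two_lin (A : GL (Fin 2) L) (h : ∀ a : SL(2, L), ∃ c : L,
    (A : Matrix (Fin 2) (Fin 2) L) * a.1 = c • (a.1 * (A : Matrix (Fin 2) (Fin 2) L))) :
    ∃ c : L, (A : Matrix (Fin 2) (Fin 2) L) = c • 1 := by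
  rw [← isSc_lm]
  have hr := slHom_range (LinearEquiv.refl L (Fin 2 → L))
  refine lin_sl (by simp) _ ?_
  intro y hy
  rw [← hr] at hy
  obtain ⟨a, rfl⟩ := hy
  obtain ⟨c, hc⟩ := h a
  refine ⟨c, fun v => ?_⟩
  change (A : Matrix (Fin 2) (Fin 2) L).mulVec (a.1.mulVec v) =
    c • (a.1.mulVec ((A : Matrix (Fin 2) (Fin 2) L).mulVec v))
  rw [Matrix.mulVec_mulVec, hc, Matrix.smul_mulVec, Matrix.mulVec_mulVec]

/-- transvections generate -/
theorem sl_two_gen (S : Subgroup SL(2, L)) (h : ∀ (i j : Fin 2) (hij : i ≠ j) (c : L),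
    Matrix.SpecialLinearGroup.transvection hij c ∈ S) (a : SL(2, L)) : a ∈ S := by
  have h1 : (⊤ : Subgroup SL(2, L)) ≤ S := by
    rw [← Cfsg.Agent.LieClassical.SLGen.closure_transvections, closure_le]
    rintro _ ⟨i, j, hij, c, rfl⟩
    exact h i j hij c
  exact h1 (mem_top a)

end SLTwo

/-! ### Plus type -/

section Plus

open Cfsg.Agent.LieClassical.OrthFourPlus

variable {e : W ≃ₗ[F] M F} {μ : F}

/-- the isometries on `W` -/
noncomputable def psiW (e : W ≃ₗ[F] M F) : isom (dt F) →* (W ≃ₗ[F] W) := (cjE e.symm).comp (isom (dt F)).subtype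

theorem psiW_apply (g : isom (dt F)) (w : W) : psiW e g w = e.symm (g.1 (e w)) := rfl

theorem psiW_injective : Function.Injective (psiW e) := by
  intro a b h
  apply Subtype.ext
  apply LinearEquiv.ext
  intro X
  have h1 := LinearEquiv.congr_fun h (e.symm X)
  rw [psiW_apply, psiW_apply, e.apply_symm_apply] at h1
  exact e.symm.injective h1

theorem polar_plus (hQ : ∀ w, Q w = μ * (e w).det) (u v : W) : polar Q u v =
    μ * (e u 0 0 * e v 1 1 + e v 0 0 * e u 1 1 - e u 0 1 * e v 1 0 - e v 0 1 * e u 1 0) := by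
  unfold polar
  rw [hQ, hQ, hQ, map_add, Matrix.det_fin_two, Matrix.det_fin_two, Matrix.det_fin_two]
  simp only [Matrix.add_apply]
  ring

theorem phi_mem_plus (hQ : ∀ w, Q w = μ * (e w).det) (hμ : μ ≠ 0) (a b : SL(2, F)) : psiW e (phi (a, b)) ∈ E Q := by
  have hmul : (a, b) = ((a, 1) : SL(2, F) × SL(2, F)) * ((1, b) : SL(2, F) × SL(2, F)) := by simp
  have happ : ∀ (a b : SL(2, F)) (X : M F), (phi (a, b)).1 X = a.1 * X * (b⁻¹ : SL(2, F)).1 := by
    intro a b X
    rfl
  rw [hmul, map_mul, map_mul]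
  refine mul_mem ?_ ?_
  · refine sl_two_gen ((E Q).comap ((psiW e).comp (phi.comp (MonoidHom.inl _ _)))) ?_ a
    intro i j hij c
    rw [mem_comap]
    change psiW e (phi (Matrix.SpecialLinearGroup.transvection hij c, 1)) ∈ E Q
    have key : ∀ (U V : M F) (hU : Q (e.symm U) = 0) (hV : polar Q (e.symm U) (e.symm V) = 0),
        (∀ X : M F, (Matrix.SpecialLinearGroup.transvection hij c).1 * X = X +
          (polar Q (e.symm U) (e.symm X)) • V - (polar Q (e.symm V) (e.symm X)) • U -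
          (Q (e.symm V) * polar Q (e.symm U) (e.symm X)) • U) →
        psiW e (phi (Matrix.SpecialLinearGroup.transvection hij c, 1)) ∈ E Q := by
      intro U V hU hV h
      have h1 : psiW e (phi (Matrix.SpecialLinearGroup.transvection hij c, 1)) =
          siegel Q (e.symm U) (e.symm V) hU hV := by
        apply LinearEquiv.ext
        intro w
        rw [psiW_apply, happ, inv_one, Matrix.SpecialLinearGroup.coe_one, mul_one, h, siegel_apply]
        simp only [_root_.LinearEquiv.symm_apply_apply, _root_.map_sub, _root_.map_add, _root_.map_smul]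
      rw [h1]
      exact siegel_mem_E hU hV
    fin_cases i <;> fin_cases j
    · exact absurd rfl hij
    · refine key !![1, 0; 0, 0] !![0, c * μ⁻¹; 0, 0] ?_ ?_ ?_
      · rw [hQ, e.apply_symm_apply]; simp
      · rw [polar_plus hQ, e.apply_symm_apply, e.apply_symm_apply]; simp
      · intro X
        rw [hQ, polar_plus hQ, polar_plus hQ, e.apply_symm_apply, e.apply_symm_apply, e.apply_symm_apply,
          Matrix.SpecialLinearGroup.transvection_coe]
        (refine And.elim (fun cj1 => And.elim fun cj2 => And.elim fun cj3 cj4 => by ext a b; fin_cases a <;> fin_cases b; exacts [cj1, cj2, cj3, cj4]) ?_; simp only [Matrix.mul_apply, Fin.sum_univ_two, Matrix.single_apply, _root_.Fin.zero_eta, _root_.Fin.isValue, _root_.Fin.mk_one, _root_.Matrix.add_apply, _root_.true_and, _root_.Matrix.one_apply_eq, _root_.one_ne_zero, ↓ _root_.reduceIte, _root_.add_zero, _root_.one_mul, _root_.ne_eq, _root_.zero_ne_one, _root_.not_false_eq_true, _root_.Matrix.one_apply_ne,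 _root_.zero_add, _root_.Matrix.of_apply, _root_.Matrix.cons_val', _root_.Matrix.cons_val_zero, _root_.Matrix.cons_val_fin_one, _root_.Matrix.cons_val_one, _root_.MulZeroClass.mul_zero, _root_.MulZeroClass.zero_mul, _root_.sub_zero, _root_.Matrix.smul_of, _root_.Matrix.smul_cons, _root_.smul_eq_mul, _root_.Matrix.smul_empty, _root_.zero_sub, _root_.mul_neg, _root_.neg_smul, _root_.mul_one, _root_.Matrix.neg_of, _root_.Matrix.neg_cons, _root_.neg_zero, _root_.Matrix.neg_empty, _root_.Matrix.det_fin_two_of, _root_.sub_self, _root_.zero_smul, _root_.Matrix.sub_apply, _root_.sub_neg_eq_add, _root_.Matrix.zero_apply, _root_.add_right_inj, _root_.false_and, _root_.Matrix.single_apply_of_ne, _root_.and_self, _root_.and_true] <;> and_intros <;> field_simp)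
    · refine key !![0, 0; 0, 1] !![0, 0; c * μ⁻¹, 0] ?_ ?_ ?_
      · rw [hQ, e.apply_symm_apply]; simp
      · rw [polar_plus hQ, e.apply_symm_apply, e.apply_symm_apply]; simp
      · intro X
        rw [hQ, polar_plus hQ, polar_plus hQ, e.apply_symm_apply, e.apply_symm_apply, e.apply_symm_apply,
          Matrix.SpecialLinearGroup.transvection_coe]
        (refine And.elim (fun cj1 => And.elim fun cj2 => And.elim fun cj3 cj4 => by ext a b; fin_cases a <;> fin_cases b; exacts [cj1, cj2, cj3, cj4]) ?_; simp only [Matrix.mul_apply, Fin.sum_univ_two, Matrix.single_apply, _root_.Fin.mk_one, _root_.Fin.isValue, _root_.Fin.zero_eta, _root_.Matrix.add_apply, _root_.one_ne_zero, _root_.false_and, _root_.not_false_eq_true, _root_.Matrix.single_apply_of_ne, _root_.add_zero, _root_.Matrix.one_apply_eq, _root_.one_mul, _root_.ne_eq, _root_.zero_ne_one, _root_.Matrix.one_apply_ne, _root_.MulZeroClass.zero_mul, _root_.Matrix.of_apply, _root_.Matrix.cons_val', _root_.Matrix.cons_val_zero,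 _root_.Matrix.cons_val_fin_one, _root_.Matrix.cons_val_one, _root_.mul_one, _root_.zero_add, _root_.sub_zero, _root_.MulZeroClass.mul_zero, _root_.Matrix.smul_of, _root_.Matrix.smul_cons, _root_.smul_eq_mul, _root_.Matrix.smul_empty, _root_.sub_self, _root_.zero_sub, _root_.mul_neg, _root_.neg_smul, _root_.Matrix.neg_of, _root_.Matrix.neg_cons, _root_.neg_zero, _root_.Matrix.neg_empty, _root_.Matrix.det_fin_two_of, _root_.zero_smul, _root_.Matrix.sub_apply, _root_.Matrix.zero_apply, _root_.true_and, ↓ _root_.reduceIte, _root_.sub_neg_eq_add] <;> and_intros <;> field_simp <;> ring)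
    · exact absurd rfl hij
  · refine sl_two_gen ((E Q).comap ((psiW e).comp (phi.comp (MonoidHom.inr _ _)))) ?_ b
    intro i j hij c
    rw [mem_comap]
    change psiW e (phi (1, Matrix.SpecialLinearGroup.transvection hij c)) ∈ E Q
    have hinv : (Matrix.SpecialLinearGroup.transvection hij c)⁻¹ = Matrix.SpecialLinearGroup.transvection hij (-c) := by
      rw [inv_eq_iff_mul_eq_one]
      apply Cfsg.Agent.LieClassical.SLGen.smul_ext
      intro v
      rw [mul_smul, Cfsg.Agent.LieClassical.SLGen.transvection_smul,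
        Cfsg.Agent.LieClassical.SLGen.transvection_smul]
      simp [hij.symm]
    have key : ∀ (U V : M F) (hU : Q (e.symm U) = 0) (hV : polar Q (e.symm U) (e.symm V) = 0),
        (∀ X : M F, X * (Matrix.SpecialLinearGroup.transvection hij (-c)).1 = X +
          (polar Q (e.symm U) (e.symm X)) • V - (polar Q (e.symm V) (e.symm X)) • U -
          (Q (e.symm V) * polar Q (e.symm U) (e.symm X)) • U) →
        psiW e (phi (1, Matrix.SpecialLinearGroup.transvection hij c)) ∈ E Q := by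
      intro U V hU hV h
      have h1 : psiW e (phi (1, Matrix.SpecialLinearGroup.transvection hij c)) =
          siegel Q (e.symm U) (e.symm V) hU hV := by
        apply LinearEquiv.ext
        intro w
        rw [psiW_apply, happ, hinv, Matrix.SpecialLinearGroup.coe_one, one_mul, h, siegel_apply]
        simp only [_root_.LinearEquiv.symm_apply_apply, _root_.map_sub, _root_.map_add, _root_.map_smul]
      rw [h1]
      exact siegel_mem_E hU hV
    fin_cases i <;> fin_cases j
    · exact absurd rfl hij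
    · refine key !![0, 0; 0, 1] !![0, -(c * μ⁻¹); 0, 0] ?_ ?_ ?_
      · rw [hQ, e.apply_symm_apply]; simp
      · rw [polar_plus hQ, e.apply_symm_apply, e.apply_symm_apply]; simp
      · intro X
        rw [hQ, polar_plus hQ, polar_plus hQ, e.apply_symm_apply, e.apply_symm_apply, e.apply_symm_apply,
          Matrix.SpecialLinearGroup.transvection_coe]
        (refine And.elim (fun cj1 => And.elim fun cj2 => And.elim fun cj3 cj4 => by ext a b; fin_cases a <;> fin_cases b; exacts [cj1, cj2, cj3, cj4]) ?_; simp only [Matrix.mul_apply, Fin.sum_univ_two, Matrix.single_apply, _root_.Fin.zero_eta, _root_.Fin.isValue, _root_.Fin.mk_one, _root_.Matrix.add_apply, _root_.one_ne_zero, _root_.and_false, _root_.not_false_eq_true, _root_.Matrix.single_apply_of_ne, _root_.add_zero, _root_.Matrix.one_apply_eq, _root_.mul_one, _root_.ne_eq, _root_.Matrix.one_apply_ne, _root_.MulZeroClass.mul_zero, _root_.Matrix.of_apply, _root_.Matrix.cons_val', _root_.Matrix.cons_val_zero,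 _root_.Matrix.cons_val_fin_one, _root_.MulZeroClass.zero_mul, _root_.Matrix.cons_val_one, _root_.zero_add, _root_.sub_zero, _root_.Matrix.smul_of, _root_.Matrix.smul_cons, _root_.smul_eq_mul, _root_.mul_neg, _root_.Matrix.smul_empty, _root_.neg_mul, _root_.sub_neg_eq_add, _root_.Matrix.det_fin_two_of, _root_.sub_self, _root_.zero_smul, _root_.Matrix.sub_apply, _root_.Matrix.zero_apply, _root_.and_true, _root_.zero_ne_one, ↓ _root_.reduceIte, _root_.true_and] <;> and_intros <;> field_simp <;> ring)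
    · refine key !![1, 0; 0, 0] !![0, 0; -(c * μ⁻¹), 0] ?_ ?_ ?_
      · rw [hQ, e.apply_symm_apply]; simp
      · rw [polar_plus hQ, e.apply_symm_apply, e.apply_symm_apply]; simp
      · intro X
        rw [hQ, polar_plus hQ, polar_plus hQ, e.apply_symm_apply, e.apply_symm_apply, e.apply_symm_apply,
          Matrix.SpecialLinearGroup.transvection_coe]
        (refine And.elim (fun cj1 => And.elim fun cj2 => And.elim fun cj3 cj4 => by ext a b; fin_cases a <;> fin_cases b; exacts [cj1, cj2, cj3, cj4]) ?_; simp only [Matrix.mul_apply, Fin.sum_univ_two, Matrix.single_apply, _root_.Fin.mk_one, _root_.Fin.isValue, _root_.Fin.zero_eta, _root_.Matrix.add_apply, _root_.and_true, _root_.Matrix.one_apply_eq, _root_.one_ne_zero, ↓ _root_.reduceIte, _root_.add_zero, _root_.mul_one, _root_.ne_eq, _root_.not_false_eq_true, _root_.Matrix.one_apply_ne, _root_.zero_add, _root_.mul_neg, _root_.Matrix.of_apply, _root_.Matrix.cons_val', _root_.Matrix.cons_val_zero, _root_.Matrix.cons_val_fin_one,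 _root_.one_mul, _root_.Matrix.cons_val_one, _root_.MulZeroClass.mul_zero, _root_.MulZeroClass.zero_mul, _root_.sub_zero, _root_.Matrix.smul_of, _root_.Matrix.smul_cons, _root_.smul_eq_mul, _root_.Matrix.smul_empty, _root_.sub_self, _root_.sub_neg_eq_add, _root_.Matrix.det_fin_two_of, _root_.neg_zero, _root_.zero_smul, _root_.Matrix.sub_apply, _root_.Matrix.zero_apply, _root_.zero_ne_one, _root_.and_false, _root_.Matrix.single_apply_of_ne, _root_.add_right_inj, _root_.neg_inj, _root_.true_and] <;> and_intros <;> field_simp <;> ring)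
    · exact absurd rfl hij

theorem mem_isom_of_O (hQ : ∀ w, Q w = μ * (e w).det) (hμ : μ ≠ 0) {n : W ≃ₗ[F] W} (hn : n ∈ O Q) :
    ∃ g : isom (dt F), n = psiW e g := by
  refine ⟨⟨cjE e n, fun X => ?_⟩, ?_⟩
  · have h1 := hn (e.symm X)
    rw [hQ, hQ, e.apply_symm_apply] at h1
    exact mul_left_cancel₀ hμ h1
  · apply LinearEquiv.ext
    intro w
    rw [psiW_apply]
    change n w = e.symm (cjE e n (e w))
    rw [cjE_apply, e.symm_apply_apply, e.symm_apply_apply]

/-- an element of odd order lies in the image of `SL_2 × SL_2` -/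
theorem dvd_of_range {S O : Type*} [Group S] [Finite S] [Group O] (f : S →* O) (hsq : ∀ y : O, y ^ 2 ∈ f.range) {s : ℕ}
    (hs : s.Prime) (h3 : 3 ≤ s) {g : O} (hg : g ^ s = 1) (hg1 : g ≠ 1) : s ∣ Nat.card S := by
  have hodd : Odd s := hs.odd_of_ne_two (by omega)
  obtain ⟨k, hk⟩ := hodd
  have h1 : g = (g ^ 2) ^ (k + 1) := by
    rw [← pow_mul, show 2 * (k + 1) = s + 1 by omega, pow_succ, hg, one_mul]
  have h2 : g ∈ f.range := by rw [h1]; exact pow_mem (hsq g) _
  have h4 : orderOf g = s := by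
    have : Fact s.Prime := ⟨hs⟩
    exact orderOf_eq_prime hg hg1
  have h5 : s ∣ Nat.card f.range := by
    have h6 := _root_.orderOf_dvd_natCard (⟨g, h2⟩ : f.range)
    rw [← Subgroup.orderOf_coe] at h6
    rwa [h4] at h6
  exact h5.trans (Subgroup.card_range_dvd f)

/-- the order of `SL_2` -/
theorem dvd_sl_two {L : Type*} [Field L] [Finite L] {s : ℕ} (hs : s.Prime) (hL : ¬ s ∣ Nat.card L)
    (h : s ∣ Nat.card SL(2, L)) : s ∣ Nat.card L ^ 2 - 1 := by
  have : Fintype L := Fintype.ofFinite L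
  rw [Cfsg.Agent.S0276.card_sl_two (F := L) rfl] at h
  rw [Nat.card_eq_fintype_card] at hL ⊢
  exact (hs.dvd_mul.1 h).resolve_left hL

/-- a scalar multiple of `phi (a, 1)` -/
theorem sc_left {a : SL(2, F)} (h : IsSc F (⇑(psiW e (phi (a, 1))))) : ∃ c : F, a.1 = c • 1 := by
  obtain ⟨c, hc⟩ := h
  refine ⟨c, ?_⟩
  have h1 := hc (e.symm 1)
  rw [psiW_apply, e.apply_symm_apply, ← map_smul] at h1
  have h2 := e.symm.injective h1
  have h3 : (phi (a, 1)).1 1 = a.1 * 1 * ((1 : SL(2, F))⁻¹ : SL(2, F)).1 := rfl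
  rw [h3, inv_one, Matrix.SpecialLinearGroup.coe_one, mul_one, mul_one] at h2
  exact h2

theorem sc_right {a : SL(2, F)} (h : IsSc F (⇑(psiW e (phi (1, a))))) : ∃ c : F, a.1 = c • 1 := by
  obtain ⟨c, hc⟩ := h
  have h1 := hc (e.symm a.1)
  rw [psiW_apply, e.apply_symm_apply, ← map_smul] at h1
  have h2 := e.symm.injective h1
  have h3 : (phi (1, a)).1 a.1 = (1 : SL(2, F)).1 * a.1 * (a⁻¹ : SL(2, F)).1 := rfl
  have h4 : a.1 * (a⁻¹ : SL(2, F)).1 = 1 := congrArg Subtype.val (mul_inv_cancel a)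
  rw [h3, Matrix.SpecialLinearGroup.coe_one, one_mul, h4] at h2
  have hc0 : c ≠ 0 := by
    rintro rfl
    rw [zero_smul] at h2
    exact one_ne_zero h2
  refine ⟨c⁻¹, ?_⟩
  rw [h2, smul_smul, inv_mul_cancel₀ hc0, one_smul]

/-- plus type, dimension 4 -/
theorem sgood_plus [Finite F] [FiniteDimensional F W] (hnd : ∀ u, (∀ v, polar Q u v = 0) → u = 0)
    (h4 : 4 ≤ Module.finrank F W) (hQ : ∀ w, Q w = μ * (e w).det) (hμ : μ ≠ 0) {s : ℕ} (hs : s.Prime) (h3 : 3 ≤ s)
    (hsF : ¬ s ∣ Nat.card F) (hd : s ∣ Nat.card ↥(E Q)) : SGood s (E Q) := by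
  have hlin := lin_omega hnd h4
  -- `s ∣ q ^ 2 - 1`
  have hdi : s ∣ Nat.card F ^ 2 - 1 := by
    apply dvd_sl_two hs hsF
    obtain ⟨y, hy, hys, hy1⟩ := exists_omega hnd h4 hs h3 hd
    obtain ⟨g, rfl⟩ := mem_isom_of_O hQ hμ (E_le_O hy)
    have hgs : g ^ s = 1 := psiW_injective (e := e) (by rw [map_pow, hys, map_one])
    have hg1 : g ≠ 1 := by
      rintro rfl
      apply hy1
      rw [map_one]
      exact ⟨1, fun v => (one_smul F v).symm⟩
    have h5 := dvd_of_range phi H952.Rc.sq_mem_plus hs h3 hgs hg1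
    rw [Nat.card_prod] at h5
    exact (hs.dvd_mul.1 h5).elim id id
  refine ⟨fun N hN hn hp => ?_, hlin⟩
  have hphi := phi_mem_plus hQ hμ
  -- the two factors
  have hS1 : ∀ a : SL(2, F), psiW e (phi (a, 1)) ∈ N → ∃ c : F, a.1 = c • 1 := by
    intro a ha
    refine sl_two_core (L := F) hs h3 (i := 2) (by norm_num) le_rfl hdi
      (N.comap ((psiW e).comp (phi.comp (MonoidHom.inl _ _)))) ?_ ?_ (a := a) ha
    · refine ⟨fun b hb c => ?_⟩
      have h5 := hn _ (hphi c 1) _ hb
      rw [mem_comap, map_mul, map_mul, map_inv]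
      exact h5
    · intro b hb
      obtain ⟨k, hk, h5⟩ := hp _ hb
      refine ⟨k, hk, ?_⟩
      apply sc_left (e := e)
      rw [← map_pow] at h5
      exact h5
  have hS2 : ∀ a : SL(2, F), psiW e (phi (1, a)) ∈ N → ∃ c : F, a.1 = c • 1 := by
    intro a ha
    refine sl_two_core (L := F) hs h3 (i := 2) (by norm_num) le_rfl hdi
      (N.comap ((psiW e).comp (phi.comp (MonoidHom.inr _ _)))) ?_ ?_ (a := a) ha
    · refine ⟨fun b hb c => ?_⟩
      have h5 := hn _ (hphi 1 c) _ hb
      rw [mem_comap, map_mul, map_mul, map_inv]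
      exact h5
    · intro b hb
      obtain ⟨k, hk, h5⟩ := hp _ hb
      refine ⟨k, hk, ?_⟩
      apply sc_right (e := e)
      rw [← map_pow] at h5
      exact h5
  -- commutators
  have hcom : ∀ n ∈ N, ∀ t : SL(2, F) × SL(2, F), n * psiW e (phi t) * n⁻¹ * (psiW e (phi t))⁻¹ ∈ N := by
    intro n hnN t
    have h5 : n * psiW e (phi t) * n⁻¹ * (psiW e (phi t))⁻¹ = n * (psiW e (phi t) * n⁻¹ * (psiW e (phi t))⁻¹) := by
      group
    rw [h5]
    exact N.mul_mem hnN (hn _ (hphi t.1 t.2) _ (N.inv_mem hnN))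
  have hfirst : ∀ p : Gam F, psiW e (psi p) ∈ N → (∃ c : F, (p.1.1 : Matrix (Fin 2) (Fin 2) F) = c • 1) ∧
      ∃ c : F, (p.1.2 : Matrix (Fin 2) (Fin 2) F) = c • 1 := by
    intro p hpN
    have key : ∀ t : SL(2, F) × SL(2, F), ∃ b : SL(2, F) × SL(2, F), inc b = p * inc t * p⁻¹ * (inc t)⁻¹ ∧
        psiW e (phi b) ∈ N := by
      intro t
      have h5 : p * inc t * p⁻¹ * (inc t)⁻¹ ∈ Gam0 F := by
        have h6 : inc t ∈ Gam0 F := by rw [← inc_range]; exact ⟨t, rfl⟩
        exact mul_mem (instNormalGam0.conj_mem _ h6 p) (inv_mem h6)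
      rw [← inc_range] at h5
      obtain ⟨b, hb⟩ := h5
      refine ⟨b, hb, ?_⟩
      have h6 := hcom _ hpN t
      have h7 : psiW e (phi b) = psiW e (psi p) * psiW e (phi t) * (psiW e (psi p))⁻¹ * (psiW e (phi t))⁻¹ := by
        change psiW e (psi (inc b)) = psiW e (psi p) * psiW e (psi (inc t)) * (psiW e (psi p))⁻¹ * (psiW e (psi (inc t)))⁻¹
        rw [hb]
        simp only [_root_.map_mul, _root_.map_inv]
      rw [h7]
      exact h6
    refine ⟨?_, ?_⟩
    · apply gl_two_lin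
      intro a
      obtain ⟨b, hb, hbN⟩ := key (a, 1)
      have h1 : b.1.toGL = p.1.1 * a.toGL * p.1.1⁻¹ * a.toGL⁻¹ := congrArg (fun z => z.1.1) hb
      have h2 : b.2.toGL = 1 := by
        have h6 : b.2.toGL = p.1.2 * (1 : SL(2, F)).toGL * p.1.2⁻¹ * (1 : SL(2, F)).toGL⁻¹ :=
          congrArg (fun z => z.1.2) hb
        rw [h6, map_one]
        group
      have h5 : b = (b.1, 1) := Prod.ext rfl (Matrix.SpecialLinearGroup.toGL_injective (by rw [h2, map_one]))
      rw [h5] at hbN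
      obtain ⟨c, hc⟩ := hS1 _ hbN
      refine ⟨c, ?_⟩
      have h6 : p.1.1 * a.toGL = b.1.toGL * (a.toGL * p.1.1) := by rw [h1]; group
      have h7 := congrArg Units.val h6
      rw [Units.val_mul, Units.val_mul, Units.val_mul] at h7
      change (p.1.1 : Matrix (Fin 2) (Fin 2) F) * a.1 = b.1.1 * (a.1 * _) at h7
      rw [h7, hc, smul_mul_assoc, one_mul]
    · apply gl_two_lin
      intro a
      obtain ⟨b, hb, hbN⟩ := key (1, a)
      have h1 : b.2.toGL = p.1.2 * a.toGL * p.1.2⁻¹ * a.toGL⁻¹ := congrArg (fun z => z.1.2) hb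
      have h2 : b.1.toGL = 1 := by
        have h6 : b.1.toGL = p.1.1 * (1 : SL(2, F)).toGL * p.1.1⁻¹ * (1 : SL(2, F)).toGL⁻¹ :=
          congrArg (fun z => z.1.1) hb
        rw [h6, map_one]
        group
      have h5 : b = (1, b.2) := Prod.ext (Matrix.SpecialLinearGroup.toGL_injective (by rw [h2, map_one])) rfl
      rw [h5] at hbN
      obtain ⟨c, hc⟩ := hS2 _ hbN
      refine ⟨c, ?_⟩
      have h6 : p.1.2 * a.toGL = b.2.toGL * (a.toGL * p.1.2) := by rw [h1]; group
      have h7 := congrArg Units.val h6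
      rw [Units.val_mul, Units.val_mul, Units.val_mul] at h7
      change (p.1.2 : Matrix (Fin 2) (Fin 2) F) * a.1 = b.2.1 * (a.1 * _) at h7
      rw [h7, hc, smul_mul_assoc, one_mul]
  intro n hnN
  obtain ⟨g, rfl⟩ := mem_isom_of_O hQ hμ (E_le_O (hN hnN))
  obtain ⟨p, hg | hg⟩ := exists_eq g
  · subst hg
    obtain ⟨⟨c, hc⟩, ⟨d, hd'⟩⟩ := hfirst p hnN
    have hd2 : ((p.1.2⁻¹ : GL (Fin 2) F) : Matrix (Fin 2) (Fin 2) F) = d⁻¹ • 1 := by
      have h5 : (p.1.2 : Matrix (Fin 2) (Fin 2) F) * ((p.1.2⁻¹ : GL (Fin 2) F) : Matrix (Fin 2) (Fin 2) F) = 1 :=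
        Units.mul_inv _
      rw [hd', smul_mul_assoc, one_mul] at h5
      have hd0 : d ≠ 0 := by
        rintro rfl
        rw [zero_smul] at h5
        exact zero_ne_one h5
      rw [← h5, smul_smul, inv_mul_cancel₀ hd0, one_smul]
    refine ⟨c * d⁻¹, fun w => ?_⟩
    rw [psiW_apply, psi_apply, hc, hd2]
    simp [smul_smul, mul_comm]
  · exfalso
    subst hg
    -- an element `(a⁻¹, b)` for every `a`
    have h5 : ∀ a : SL(2, F), ∃ c : F, a.1 = c • 1 := by
      intro a
      have h6 := hcom _ hnN (a⁻¹, 1)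
      have h7 : psi p * tau * phi (a⁻¹, 1) * (psi p * tau)⁻¹ * (phi (a⁻¹, 1))⁻¹ =
          psi (p * sw (inc (a⁻¹, 1)) * p⁻¹ * (inc (a⁻¹, 1))⁻¹) := by
        simp only [map_mul, map_mul, map_mul, ← tau_conj, map_inv, map_inv]
        change _ = psi p * (tau * psi (inc (a⁻¹, 1)) * tau⁻¹) * (psi p)⁻¹ * (psi (inc (a⁻¹, 1)))⁻¹
        change psi p * tau * psi (inc (a⁻¹, 1)) * (psi p * tau)⁻¹ * (psi (inc (a⁻¹, 1)))⁻¹ = _
        group
      ((conv at h6 => enter [@5, @5, @6]; rw [← map_inv]); simp +singlePass only [← map_inv] at h6; (conv at h6 => enter [@5, @5, @5]; rw [← map_mul]); (conv at h6 => enter [@5, @5]; rw [← map_mul]); rewrite [← map_mul, h7] at h6)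
      obtain ⟨⟨c, hc⟩, -⟩ := hfirst _ h6
      have h8 : (p * sw (inc (a⁻¹, 1)) * p⁻¹ * (inc (a⁻¹, 1))⁻¹).1.1 = a.toGL := by
        change p.1.1 * (1 : SL(2, F)).toGL * p.1.1⁻¹ * ((a⁻¹).toGL)⁻¹ = _
        rw [map_one, map_inv, inv_inv]
        group
      rw [h8] at hc
      exact ⟨c, hc⟩
    obtain ⟨c, hc⟩ := h5 (Matrix.SpecialLinearGroup.transvection (i := (0 : Fin 2)) (j := 1) (by decide) 1)
    rw [Matrix.SpecialLinearGroup.transvection_coe] at hc
    have h6 := congrFun (congrFun hc 0) 1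
    simp at h6

end Plus

end Cfsg.Agent.H809.Sec
end

-- part: H809/Pi/GoodO4m
section
/-!
# S4324: the groups `Ω(W) = E Q` are good, dimension 4, minus type (helper809)

* `sgood_minus`, `sgood_omega`.
-/

set_option autoImplicit false
set_option linter.unusedSectionVars false

namespace Cfsg.Agent.H809.Sec

open Subgroup Cfsg Cfsg.Agent.H216.Pi QuadraticMap
open Cfsg.Agent.BpCl (Semi Iso)
open Cfsg.Agent.LieClassical.OrthCore (O E_le_O siegel siegel_apply siegel_mem_E)
open Cfsg.Agent.LieClassical.OrthFourCommon (isom mem_isom)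
open scoped MatrixGroups

universe u v

variable {F : Type u} {W : Type v} [Field F] [AddCommGroup W] [Module F W] {Q : QuadraticForm F W}

/-! ### Minus type -/

section Minus

open Cfsg.Agent.LieClassical.OrthFourMinus QuadraticAlgebra

variable {c d : F} {e : W ≃ₗ[F] V F c d} {μ : F}

/-- the isometries on `W` -/
noncomputable def psiM (e : W ≃ₗ[F] V F c d) : isom (LieClassical.OrthFourMinus.Q c d) →* (W ≃ₗ[F] W) :=
  (cjE e.symm).comp (isom (LieClassical.OrthFourMinus.Q c d)).subtype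

theorem psiM_apply (g : isom (LieClassical.OrthFourMinus.Q c d)) (w : W) : psiM e g w = e.symm (g.1 (e w)) := rfl

theorem psiM_injective : Function.Injective (psiM e) := by
  intro a b h
  apply Subtype.ext
  apply LinearEquiv.ext
  intro X
  have h1 := LinearEquiv.congr_fun h (e.symm X)
  rw [psiM_apply, psiM_apply, e.apply_symm_apply] at h1
  exact e.symm.injective h1

theorem polar_minus (hQ : ∀ w, Q w = μ * LieClassical.OrthFourMinus.Q c d (e w)) (u v : W) : polar Q u v =
    μ * ((e u).1 * (e v).2.1 + (e v).1 * (e u).2.1 + trace ((e u).2.2 * star (e v).2.2)) := by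
  unfold polar
  rw [hQ, hQ, hQ, map_add]
  unfold LieClassical.OrthFourMinus.Q
  have h1 : _root_.QuadraticAlgebra.norm ((e u).2.2 + (e v).2.2) = norm (e u).2.2 + norm (e v).2.2 + trace ((e u).2.2 * star (e v).2.2) := by
    simp only [norm_def, trace_def, re_add, im_add, re_mul, im_mul, re_star, im_star]
    ring
  rw [Prod.fst_add, Prod.snd_add, Prod.fst_add, Prod.snd_add, h1]
  ring

theorem genE [hab : Fact (∀ r : F, r ^ 2 ≠ c + d * r)] (S : Subgroup SL(2, E F c d))
    (h : ∀ (i j : Fin 2) (hij : i ≠ j) (z : E F c d), Matrix.SpecialLinearGroup.transvection hij z ∈ S)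
    (a : SL(2, E F c d)) : a ∈ S := sl_two_gen (L := E F c d) S h a

theorem phi_mem_minus [hab : Fact (∀ r : F, r ^ 2 ≠ c + d * r)]
    (hQ : ∀ w, Q w = μ * LieClassical.OrthFourMinus.Q c d (e w)) (hμ : μ ≠ 0) (a : SL(2, E F c d)) :
    psiM e (phi a) ∈ LieClassical.OrthCore.E Q := by
  have h0 := genE ((LieClassical.OrthCore.E Q).comap ((psiM e).comp (phi (F := F) (c := c) (d := d)))) ?_ a
  · exact h0
  intro i j hij z
  rw [mem_comap]
  change psiM e (phi (Matrix.SpecialLinearGroup.transvection hij z)) ∈ LieClassical.OrthCore.E Q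
  have key : ∀ (U V : V F c d) (hU : Q (e.symm U) = 0) (hV : polar Q (e.symm U) (e.symm V) = 0),
      (∀ X : LieClassical.OrthFourMinus.V F c d, actFun (Matrix.SpecialLinearGroup.transvection hij z).1 X = X +
        (polar Q (e.symm U) (e.symm X)) • V - (polar Q (e.symm V) (e.symm X)) • U -
        (Q (e.symm V) * polar Q (e.symm U) (e.symm X)) • U) →
      psiM e (phi (Matrix.SpecialLinearGroup.transvection hij z)) ∈ LieClassical.OrthCore.E Q := by
    intro U V hU hV h
    have h1 : psiM e (phi (Matrix.SpecialLinearGroup.transvection hij z)) =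
        siegel Q (e.symm U) (e.symm V) hU hV := by
      apply LinearEquiv.ext
      intro w
      rw [psiM_apply, phi_apply, h, siegel_apply]
      simp only [_root_.LinearEquiv.symm_apply_apply, _root_.map_sub, _root_.map_add, _root_.map_smul]
    rw [h1]
    exact siegel_mem_E hU hV
  fin_cases i <;> fin_cases j
  · exact absurd rfl hij
  · refine key (1, 0, 0) (0, 0, -(μ⁻¹ • z)) ?_ ?_ ?_
    · rw [hQ, e.apply_symm_apply]; simp [LieClassical.OrthFourMinus.Q]
    · rw [polar_minus hQ, e.apply_symm_apply, e.apply_symm_apply]; simp only [_root_.MulZeroClass.mul_zero, _root_.add_zero, _root_.star_neg, _root_.mul_neg, _root_.MulZeroClass.zero_mul, _root_.neg_zero, _root_.map_zero]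
    · rintro ⟨x, y, w⟩
      rw [hQ, polar_minus hQ, polar_minus hQ, e.apply_symm_apply, e.apply_symm_apply, e.apply_symm_apply,
        Matrix.SpecialLinearGroup.transvection_coe]
      unfold actFun LieClassical.OrthFourMinus.Q
      refine Prod.ext ?_ (Prod.ext ?_ ?_)
      · simp only [norm_def, trace_def, _root_.Fin.zero_eta, _root_.Fin.isValue, _root_.Fin.mk_one, _root_.Matrix.add_apply, _root_.Matrix.one_apply_eq, _root_.one_ne_zero, _root_.and_false, _root_.not_false_eq_true, _root_.Matrix.single_apply_of_ne, _root_.add_zero, _root_.QuadraticAlgebra.re_one, _root_.mul_one, _root_.QuadraticAlgebra.im_one, _root_.MulZeroClass.mul_zero, _root_.sub_zero, _root_.one_mul, _root_.ne_eq, _root_.zero_ne_one, _root_.Matrix.one_apply_ne, _root_.Matrix.single_apply_same, _root_.zero_add, _root_.QuadraticAlgebra.re_mul, _root_.QuadraticAlgebra.re_star, _root_.QuadraticAlgebra.im_star, _root_.mul_neg, _root_.neg_mul, _root_.QuadraticAlgebra.im_mul, _root_.MulZeroClass.zero_mul,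 _root_.QuadraticAlgebra.re_zero, _root_.QuadraticAlgebra.im_zero, _root_.Prod.smul_mk, _root_.smul_eq_mul, _root_.smul_neg, _root_.Prod.mk_add_mk, _root_.Algebra.smul_mul_assoc, _root_.QuadraticAlgebra.re_neg, _root_.QuadraticAlgebra.re_smul, _root_.QuadraticAlgebra.im_neg, _root_.QuadraticAlgebra.im_smul, _root_.smul_zero, _root_.Prod.mk_sub_mk, _root_.neg_neg]
        field_simp
        ring
      · simp only [norm_def, trace_def, _root_.Fin.zero_eta, _root_.Fin.isValue, _root_.Fin.mk_one, _root_.Matrix.add_apply, _root_.Matrix.one_apply_eq, _root_.zero_ne_one, _root_.and_true, _root_.not_false_eq_true, _root_.Matrix.single_apply_of_ne, _root_.add_zero, _root_.QuadraticAlgebra.re_one, _root_.mul_one, _root_.QuadraticAlgebra.im_one, _root_.MulZeroClass.mul_zero, _root_.sub_zero, _root_.one_mul, _root_.ne_eq, _root_.one_ne_zero, _root_.Matrix.one_apply_ne, _root_.and_self, _root_.QuadraticAlgebra.re_zero, _root_.QuadraticAlgebra.im_zero, _root_.sub_self, _root_.MulZeroClass.zero_mul,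 _root_.star_one, _root_.Prod.smul_mk, _root_.smul_eq_mul, _root_.smul_neg, _root_.Prod.mk_add_mk, _root_.neg_mul, _root_.Algebra.smul_mul_assoc, _root_.QuadraticAlgebra.re_neg, _root_.QuadraticAlgebra.re_smul, _root_.QuadraticAlgebra.re_mul, _root_.QuadraticAlgebra.re_star, _root_.QuadraticAlgebra.im_star, _root_.mul_neg, _root_.QuadraticAlgebra.im_neg, _root_.QuadraticAlgebra.im_smul, _root_.QuadraticAlgebra.im_mul, _root_.zero_add, _root_.smul_zero, _root_.Prod.mk_sub_mk, _root_.neg_neg]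
      · ext
        · simp only [norm_def, trace_def, _root_.Fin.zero_eta, _root_.Fin.isValue, _root_.Fin.mk_one, _root_.Matrix.add_apply, _root_.Matrix.one_apply_eq, _root_.one_ne_zero, _root_.and_false, _root_.not_false_eq_true, _root_.Matrix.single_apply_of_ne, _root_.add_zero, _root_.ne_eq, _root_.Matrix.one_apply_ne, _root_.zero_ne_one, _root_.and_self, _root_.star_zero, _root_.MulZeroClass.mul_zero, _root_.MulZeroClass.zero_mul, _root_.Matrix.single_apply_same, _root_.zero_add, _root_.and_true, _root_.star_one, _root_.mul_one, _root_.zero_sub, _root_.one_mul, _root_.QuadraticAlgebra.re_add, _root_.QuadraticAlgebra.re_neg, _root_.QuadraticAlgebra.re_mul, _root_.QuadraticAlgebra.algebraMap_re, _root_.QuadraticAlgebra.algebraMap_im, _root_.QuadraticAlgebra.re_zero, _root_.QuadraticAlgebra.im_zero, _root_.Prod.smul_mk, _root_.smul_eq_mul, _root_.smul_neg, _root_.Prod.mk_add_mk, _root_.neg_mul, _root_.Algebra.smul_mul_assoc, _root_.QuadraticAlgebra.re_smul,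 _root_.QuadraticAlgebra.re_star, _root_.QuadraticAlgebra.im_star, _root_.mul_neg, _root_.QuadraticAlgebra.im_neg, _root_.QuadraticAlgebra.im_smul, _root_.QuadraticAlgebra.im_mul, _root_.smul_zero, _root_.Prod.mk_sub_mk, _root_.sub_zero, _root_.neg_neg]
          field_simp
          ring
        · simp only [norm_def, trace_def, _root_.Fin.zero_eta, _root_.Fin.isValue, _root_.Fin.mk_one, _root_.Matrix.add_apply, _root_.Matrix.one_apply_eq, _root_.one_ne_zero, _root_.and_false, _root_.not_false_eq_true, _root_.Matrix.single_apply_of_ne, _root_.add_zero, _root_.ne_eq, _root_.Matrix.one_apply_ne, _root_.zero_ne_one, _root_.and_self, _root_.star_zero, _root_.MulZeroClass.mul_zero, _root_.MulZeroClass.zero_mul, _root_.Matrix.single_apply_same, _root_.zero_add, _root_.and_true, _root_.star_one, _root_.mul_one, _root_.zero_sub, _root_.one_mul, _root_.QuadraticAlgebra.im_add, _root_.QuadraticAlgebra.im_neg, _root_.QuadraticAlgebra.im_mul, _root_.QuadraticAlgebra.algebraMap_im,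 _root_.QuadraticAlgebra.algebraMap_re, _root_.QuadraticAlgebra.re_zero, _root_.QuadraticAlgebra.im_zero, _root_.Prod.smul_mk, _root_.smul_eq_mul, _root_.smul_neg, _root_.Prod.mk_add_mk, _root_.neg_mul, _root_.Algebra.smul_mul_assoc, _root_.QuadraticAlgebra.re_neg, _root_.QuadraticAlgebra.re_smul, _root_.QuadraticAlgebra.re_mul, _root_.QuadraticAlgebra.re_star, _root_.QuadraticAlgebra.im_star, _root_.mul_neg, _root_.QuadraticAlgebra.im_smul, _root_.smul_zero, _root_.Prod.mk_sub_mk, _root_.sub_zero, _root_.neg_neg]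
          field_simp
          ring
  · refine key (0, 1, 0) (0, 0, μ⁻¹ • star z) ?_ ?_ ?_
    · rw [hQ, e.apply_symm_apply]; simp [LieClassical.OrthFourMinus.Q]
    · rw [polar_minus hQ, e.apply_symm_apply, e.apply_symm_apply]; simp only [_root_.MulZeroClass.mul_zero, _root_.mul_one, _root_.add_zero, _root_.MulZeroClass.zero_mul, _root_.map_zero]
    · rintro ⟨x, y, w⟩
      rw [hQ, polar_minus hQ, polar_minus hQ, e.apply_symm_apply, e.apply_symm_apply, e.apply_symm_apply,
        Matrix.SpecialLinearGroup.transvection_coe]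
      unfold actFun LieClassical.OrthFourMinus.Q
      refine Prod.ext ?_ (Prod.ext ?_ ?_)
      · simp only [norm_def, trace_def, _root_.Fin.mk_one, _root_.Fin.isValue, _root_.Fin.zero_eta, _root_.Matrix.add_apply, _root_.Matrix.one_apply_eq, _root_.one_ne_zero, _root_.and_true, _root_.not_false_eq_true, _root_.Matrix.single_apply_of_ne, _root_.add_zero, _root_.QuadraticAlgebra.re_one, _root_.mul_one, _root_.QuadraticAlgebra.im_one, _root_.MulZeroClass.mul_zero, _root_.sub_zero, _root_.one_mul, _root_.ne_eq, _root_.zero_ne_one, _root_.Matrix.one_apply_ne, _root_.and_self, _root_.QuadraticAlgebra.re_zero, _root_.QuadraticAlgebra.im_zero, _root_.sub_self, _root_.MulZeroClass.zero_mul, _root_.star_zero, _root_.zero_add, _root_.Prod.smul_mk, _root_.smul_eq_mul, _root_.Prod.mk_add_mk, _root_.Algebra.smul_mul_assoc, _root_.map_smul, _root_.QuadraticAlgebra.re_mul, _root_.QuadraticAlgebra.re_star, _root_.QuadraticAlgebra.im_star, _root_.mul_neg, _root_.neg_mul, _root_.neg_neg,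 _root_.QuadraticAlgebra.im_mul, _root_.smul_zero, _root_.Prod.mk_sub_mk, _root_.QuadraticAlgebra.re_smul, _root_.QuadraticAlgebra.im_smul]
      · simp only [norm_def, trace_def, _root_.Fin.mk_one, _root_.Fin.isValue, _root_.Fin.zero_eta, _root_.Matrix.add_apply, _root_.Matrix.one_apply_eq, _root_.zero_ne_one, _root_.and_false, _root_.not_false_eq_true, _root_.Matrix.single_apply_of_ne, _root_.add_zero, _root_.QuadraticAlgebra.re_one, _root_.mul_one, _root_.QuadraticAlgebra.im_one, _root_.MulZeroClass.mul_zero, _root_.sub_zero, _root_.one_mul, _root_.ne_eq, _root_.one_ne_zero, _root_.Matrix.one_apply_ne, _root_.Matrix.single_apply_same, _root_.zero_add, _root_.star_one, _root_.QuadraticAlgebra.re_mul, _root_.QuadraticAlgebra.im_mul, _root_.MulZeroClass.zero_mul, _root_.QuadraticAlgebra.re_zero, _root_.QuadraticAlgebra.im_zero, _root_.Prod.smul_mk, _root_.smul_eq_mul, _root_.Prod.mk_add_mk, _root_.Algebra.smul_mul_assoc, _root_.map_smul, _root_.QuadraticAlgebra.re_star,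 _root_.QuadraticAlgebra.im_star, _root_.mul_neg, _root_.neg_mul, _root_.neg_neg, _root_.smul_zero, _root_.Prod.mk_sub_mk, _root_.QuadraticAlgebra.re_smul, _root_.QuadraticAlgebra.im_smul]
        field_simp
        ring
      · ext
        · simp only [norm_def, trace_def, _root_.Fin.mk_one, _root_.Fin.isValue, _root_.Fin.zero_eta, _root_.Matrix.add_apply, _root_.Matrix.one_apply_eq, _root_.one_ne_zero, _root_.and_true, _root_.not_false_eq_true, _root_.Matrix.single_apply_of_ne, _root_.add_zero, _root_.ne_eq, _root_.Matrix.one_apply_ne, _root_.Matrix.single_apply_same, _root_.zero_add, _root_.one_mul, _root_.zero_ne_one, _root_.and_self, _root_.and_false, _root_.star_one, _root_.mul_one, _root_.MulZeroClass.zero_mul, _root_.sub_zero, _root_.QuadraticAlgebra.re_add, _root_.QuadraticAlgebra.re_mul, _root_.QuadraticAlgebra.re_star, _root_.QuadraticAlgebra.algebraMap_re, _root_.QuadraticAlgebra.im_star, _root_.mul_neg, _root_.QuadraticAlgebra.algebraMap_im, _root_.MulZeroClass.mul_zero,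 _root_.QuadraticAlgebra.re_zero, _root_.QuadraticAlgebra.im_zero, _root_.Prod.smul_mk, _root_.smul_eq_mul, _root_.Prod.mk_add_mk, _root_.Algebra.smul_mul_assoc, _root_.map_smul, _root_.neg_mul, _root_.neg_neg, _root_.QuadraticAlgebra.im_mul, _root_.smul_zero, _root_.Prod.mk_sub_mk, _root_.QuadraticAlgebra.re_smul, _root_.QuadraticAlgebra.im_smul]
          field_simp
          ring
        · simp only [norm_def, trace_def, _root_.Fin.mk_one, _root_.Fin.isValue, _root_.Fin.zero_eta, _root_.Matrix.add_apply, _root_.Matrix.one_apply_eq, _root_.one_ne_zero, _root_.and_true, _root_.not_false_eq_true, _root_.Matrix.single_apply_of_ne, _root_.add_zero, _root_.ne_eq, _root_.Matrix.one_apply_ne, _root_.Matrix.single_apply_same, _root_.zero_add, _root_.one_mul, _root_.zero_ne_one, _root_.and_self, _root_.and_false, _root_.star_one, _root_.mul_one, _root_.MulZeroClass.zero_mul, _root_.sub_zero, _root_.QuadraticAlgebra.im_add, _root_.QuadraticAlgebra.im_mul, _root_.QuadraticAlgebra.re_star,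 _root_.QuadraticAlgebra.algebraMap_im, _root_.MulZeroClass.mul_zero, _root_.QuadraticAlgebra.im_star, _root_.QuadraticAlgebra.algebraMap_re, _root_.neg_mul, _root_.mul_neg, _root_.QuadraticAlgebra.re_zero, _root_.QuadraticAlgebra.im_zero, _root_.Prod.smul_mk, _root_.smul_eq_mul, _root_.Prod.mk_add_mk, _root_.Algebra.smul_mul_assoc, _root_.map_smul, _root_.QuadraticAlgebra.re_mul, _root_.neg_neg, _root_.smul_zero, _root_.Prod.mk_sub_mk, _root_.QuadraticAlgebra.re_smul, _root_.QuadraticAlgebra.im_smul]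
          field_simp
          ring
  · exact absurd rfl hij

theorem mem_isom_of_O_minus (hQ : ∀ w, Q w = μ * LieClassical.OrthFourMinus.Q c d (e w)) (hμ : μ ≠ 0)
    {n : W ≃ₗ[F] W} (hn : n ∈ O Q) : ∃ g : isom (LieClassical.OrthFourMinus.Q c d), n = psiM e g := by
  refine ⟨⟨cjE e n, fun X => ?_⟩, ?_⟩
  · have h1 := hn (e.symm X)
    rw [hQ, hQ, e.apply_symm_apply] at h1
    exact mul_left_cancel₀ hμ h1
  · apply LinearEquiv.ext
    intro w
    rw [psiM_apply]
    change n w = e.symm (cjE e n (e w))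
    rw [cjE_apply, e.symm_apply_apply, e.symm_apply_apply]

theorem sc_phi [hab : Fact (∀ r : F, r ^ 2 ≠ c + d * r)] {a : SL(2, E F c d)} (h : IsSc F (⇑(psiM e (phi a)))) :
    ∃ z : E F c d, a.1 = z • 1 := by
  obtain ⟨r, hr⟩ := h
  have happ : ∀ X : V F c d, actFun a.1 X = r • X := by
    intro X
    have h1 := hr (e.symm X)
    rw [psiM_apply, e.apply_symm_apply, ← map_smul] at h1
    exact (e.symm.injective h1 :)
  have h1 := happ (1, 0, 0)
  have h2 := happ (0, 1, 0)
  have h3 := happ (0, 0, 1)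
  simp only [actFun, Prod.smul_mk, Prod.mk.injEq, mul_one, mul_zero, map_zero, map_one, zero_sub, sub_zero,
    add_zero, neg_eq_zero, zero_add, smul_eq_mul, smul_zero] at h1 h2 h3
  obtain ⟨h11, h12, h13⟩ := h1
  obtain ⟨h21, h22, h23⟩ := h2
  obtain ⟨h31, h32, h33⟩ := h3
  have hc : a.1 1 0 = 0 := norm_eq_zero_iff_eq_zero.1 h12
  have hb : a.1 0 1 = 0 := norm_eq_zero_iff_eq_zero.1 h21
  have hd : a.1 0 0 * a.1 1 1 = 1 := by
    have := a.2
    rw [Matrix.det_fin_two, hb, zero_mul, sub_zero] at this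
    exact this
  have ha : a.1 0 0 * star (a.1 0 0) = algebraMap F _ r := by
    rw [← algebraMap_norm_eq_mul_star, h11]
  rw [hc, star_zero, mul_zero, zero_mul, add_zero] at h33
  have ha0 : a.1 0 0 ≠ 0 := left_ne_zero_of_mul_eq_one hd
  have h34 : a.1 0 0 * star (a.1 1 1) = algebraMap F _ r := by
    rw [h33, Algebra.algebraMap_eq_smul_one]
  have e1 : star (a.1 0 0) = star (a.1 1 1) := mul_left_cancel₀ ha0 (ha.trans h34.symm)
  have e2 : a.1 0 0 = a.1 1 1 := star_injective e1
  refine ⟨a.1 0 0, ?_⟩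
  ext1 i j
  fin_cases i <;> fin_cases j
  · simp
  · simpa using hb
  · simpa using hc
  · simpa using e2.symm

/-- conjugation and a matrix -/
theorem star_lin [Finite F] [hab : Fact (∀ r : F, r ^ 2 ≠ c + d * r)] (p : GL (Fin 2) (E F c d))
    (h : ∀ a : SL(2, E F c d), ∃ z : E F c d, (p : ME F c d) * a.1.map star = z • (a.1 * (p : ME F c d))) : False := by
  let L := E F c d
  have h2 : Module.finrank L (Fin 2 → L) = 2 := by simp
  let st : Equiv.Perm (Fin 2 → L) := Function.Involutive.toPerm (fun v => fun i => star (v i))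
    (fun v => funext fun i => star_star (v i))
  have hst : ∀ v i, st v i = star (v i) := fun _ _ => rfl
  let g : Equiv.Perm (Fin 2 → L) := st.trans (lm (L := L) p).toEquiv
  have hg : ∀ v, g v = (p : ME F c d).mulVec (st v) := fun _ => rfl
  have hst2 : ∀ (A : ME F c d) (v : Fin 2 → L), st (A.mulVec v) = (A.map star).mulVec (st v) := by
    intro A v
    funext i
    rw [hst, Matrix.mulVec, Matrix.mulVec, dotProduct, dotProduct, star_sum]
    refine Finset.sum_congr rfl fun j _ => ?_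
    rw [star_mul, Matrix.map_apply, hst, mul_comm]
  have hsemi : Semi (starRingAut : L ≃+* L) g := by
    refine ⟨fun u v => ?_, fun a v => ?_⟩
    · rw [hg, hg, hg, ← Matrix.mulVec_add]
      congr 1
      funext i
      rw [Pi.add_apply, hst, hst, hst, Pi.add_apply, star_add]
    · rw [hg, hg, ← Matrix.mulVec_smul]
      congr 1
      funext i
      rw [Pi.smul_apply, hst, hst, Pi.smul_apply, smul_eq_mul, smul_eq_mul, star_mul, mul_comm]
      rfl
  obtain ⟨r, hr⟩ := semiGood_sl (F := L) (W := Fin 2 → L) (by omega) _ g hsemi (by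
    intro y hy
    rw [← slHom_range (LinearEquiv.refl L (Fin 2 → L))] at hy
    obtain ⟨a, rfl⟩ := hy
    obtain ⟨z, hz⟩ := h a
    refine ⟨z, fun v => ?_⟩
    change g (a.1.mulVec v) = z • (a.1.mulVec (g v))
    rw [hg, hg, hst2, Matrix.mulVec_mulVec, hz, Matrix.smul_mulVec, Matrix.mulVec_mulVec])
  have hr0 : r ≠ 0 := by
    rintro rfl
    have h3 := hr 1
    rw [zero_smul] at h3
    have h4 : (1 : Fin 2 → L) = 0 := g.injective (h3.trans hsemi.zero.symm)
    exact one_ne_zero (congrFun h4 0)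
  have hstar : ∀ z : L, star z = z := by
    intro z
    have h3 := hsemi.smul z 1
    rw [hr, hr] at h3
    have h4 := congrFun h3 0
    simp only [Pi.smul_apply, Pi.one_apply, smul_eq_mul, mul_one] at h4
    have h5 : (starRingAut : L ≃+* L) z = star z := rfl
    rw [h5, mul_comm] at h4
    exact (mul_right_cancel₀ hr0 h4).symm
  have h3 := hstar ⟨0, 1⟩
  rw [star_mk] at h3
  have h4 : (-1 : F) = 1 := congrArg QuadraticAlgebra.im h3
  have h5 : (0 : F) + d * 1 = 0 := congrArg QuadraticAlgebra.re h3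
  have hd0 : d = 0 := by simpa using h5
  have hchar : ringChar F = 2 := by
    by_contra hne
    exact Ring.neg_one_ne_one_of_char_ne_two hne h4
  obtain ⟨r, hr⟩ := FiniteField.isSquare_of_char_two hchar c
  apply hab.out r
  rw [hr, hd0, zero_mul, add_zero, pow_two]

/-- minus type, dimension 4 -/
theorem sgood_minus [Finite F] [FiniteDimensional F W] [hab : Fact (∀ r : F, r ^ 2 ≠ c + d * r)]
    (hnd : ∀ u, (∀ v, polar Q u v = 0) → u = 0)
    (h4 : 4 ≤ Module.finrank F W) (hQ : ∀ w, Q w = μ * LieClassical.OrthFourMinus.Q c d (e w)) (hμ : μ ≠ 0) {s : ℕ}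
    (hs : s.Prime) (h3 : 3 ≤ s) (hsF : ¬ s ∣ Nat.card F) (hd : s ∣ Nat.card ↥(LieClassical.OrthCore.E Q)) :
    SGood s (LieClassical.OrthCore.E Q) := by
  have hlin := lin_omega hnd h4
  have hfinE : Finite (E F c d) := Finite.of_equiv _ (QuadraticAlgebra.equivProd c d).symm
  have hgen : ∀ g : isom (LieClassical.OrthFourMinus.Q c d), ∃ p : Gam F c d, g = psi p ∨ g = psi p * tau :=
    exists_eq norm_surjective
  have hcardE : Nat.card (E F c d) = Nat.card F ^ 2 := by
    rw [Nat.card_congr (QuadraticAlgebra.equivProd c d), Nat.card_prod, pow_two]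
  -- `s ∣ q ^ 4 - 1`
  have hdi : s ∣ Nat.card (E F c d) ^ 2 - 1 := by
    apply dvd_sl_two (L := E F c d) hs
    · rw [hcardE]
      exact fun h => hsF (hs.dvd_of_dvd_pow h)
    obtain ⟨y, hy, hys, hy1⟩ := exists_omega hnd h4 hs h3 hd
    obtain ⟨g, rfl⟩ := mem_isom_of_O_minus hQ hμ (E_le_O hy)
    have hgs : g ^ s = 1 := psiM_injective (e := e) (by rw [map_pow, hys, map_one])
    have hg1 : g ≠ 1 := by
      rintro rfl
      apply hy1
      rw [map_one]
      exact ⟨1, fun v => (one_smul F v).symm⟩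
    exact dvd_of_range phi (H952.Rc.sq_mem_minus hgen) hs h3 hgs hg1
  refine ⟨fun N hN hn hp => ?_, hlin⟩
  have hphi := phi_mem_minus hQ hμ
  have hS : ∀ a : SL(2, E F c d), psiM e (phi a) ∈ N → ∃ z : E F c d, a.1 = z • 1 := by
    intro a ha
    refine sl_two_core (L := E F c d) hs h3 (i := 2) (by norm_num) le_rfl hdi
      (N.comap ((psiM e).comp phi)) ?_ ?_ (a := a) ha
    · refine ⟨fun b hb c => ?_⟩
      have h5 := hn _ (hphi c) _ hb
      rw [mem_comap, map_mul, map_mul, map_inv]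
      exact h5
    · intro b hb
      obtain ⟨k, hk, h5⟩ := hp _ hb
      refine ⟨k, hk, ?_⟩
      apply sc_phi (e := e)
      rw [← map_pow] at h5
      exact h5
  have hcom : ∀ n ∈ N, ∀ t : SL(2, E F c d), n * psiM e (phi t) * n⁻¹ * (psiM e (phi t))⁻¹ ∈ N := by
    intro n hnN t
    have h5 : n * psiM e (phi t) * n⁻¹ * (psiM e (phi t))⁻¹ = n * (psiM e (phi t) * n⁻¹ * (psiM e (phi t))⁻¹) := by
      group
    rw [h5]
    exact N.mul_mem hnN (hn _ (hphi t) _ (N.inv_mem hnN))
  have hfirst : ∀ p : Gam F c d, psiM e (psi p) ∈ N → ∃ z : E F c d, (p.1 : ME F c d) = z • 1 := by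
    intro p hpN
    apply gl_two_lin (L := E F c d)
    intro a
    have h5 : p * inc a * p⁻¹ * (inc a)⁻¹ ∈ Gam0 F c d := by
      have h6 : inc a ∈ Gam0 F c d := by rw [← inc_range]; exact ⟨a, rfl⟩
      exact mul_mem (instNormalGam0.conj_mem _ h6 p) (inv_mem h6)
    rw [← inc_range] at h5
    obtain ⟨b, hb⟩ := h5
    have hbN : psiM e (phi b) ∈ N := by
      have h7 : psiM e (phi b) = psiM e (psi p) * psiM e (phi a) * (psiM e (psi p))⁻¹ * (psiM e (phi a))⁻¹ := by
        change psiM e (psi (inc b)) = psiM e (psi p) * psiM e (psi (inc a)) * (psiM e (psi p))⁻¹ *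
          (psiM e (psi (inc a)))⁻¹
        simp only [hb]
        simp only [_root_.map_mul, _root_.map_inv]
      rw [h7]
      exact hcom _ hpN a
    obtain ⟨z, hz⟩ := hS _ hbN
    refine ⟨z, ?_⟩
    have h1 : b.toGL = p.1 * a.toGL * p.1⁻¹ * a.toGL⁻¹ := congrArg (fun z => z.1) hb
    have h6 : p.1 * a.toGL = b.toGL * (a.toGL * p.1) := by rw [h1]; group
    have h7 := congrArg Units.val h6
    rw [Units.val_mul, Units.val_mul, Units.val_mul] at h7
    change (p.1 : ME F c d) * a.1 = b.1 * (a.1 * _) at h7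
    rw [h7, hz, smul_mul_assoc, one_mul]
  intro n hnN
  obtain ⟨g, rfl⟩ := mem_isom_of_O_minus hQ hμ (E_le_O (hN hnN))
  obtain ⟨p, hg | hg⟩ := hgen g
  · subst hg
    obtain ⟨z, hz⟩ := hfirst p hnN
    refine ⟨norm z, fun w => ?_⟩
    rw [psiM_apply]
    apply e.injective
    rw [e.apply_symm_apply, map_smul]
    apply toM_injective
    rw [toM_psi, hz, Matrix.conjTranspose_smul, Matrix.conjTranspose_one, Matrix.smul_mul, Matrix.mul_smul, one_mul,
      mul_one, smul_smul, mul_comm, ← algebraMap_norm_eq_mul_star, map_smul, algebraMap_smul]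
  · exfalso
    subst hg
    apply star_lin p.1
    intro a
    have h6 := hcom _ hnN a
    have h7 : psi p * tau * phi a * (psi p * tau)⁻¹ * (phi a)⁻¹ = psi (p * sw (inc a) * p⁻¹ * (inc a)⁻¹) := by
      simp only [map_mul, map_mul, map_mul, ← tau_conj, map_inv, map_inv]
      change psi p * tau * psi (inc a) * (psi p * tau)⁻¹ * (psi (inc a))⁻¹ = _
      group
    ((conv at h6 => enter [@5, @5, @6]; rw [← map_inv]); simp +singlePass only [← map_inv] at h6; (conv at h6 => enter [@5, @5, @5]; rw [← map_mul]); (conv at h6 => enter [@5, @5]; rw [← map_mul]); rewrite [← map_mul] at h6; simp only [h7] at h6)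
    obtain ⟨z, hz⟩ := hfirst _ h6
    refine ⟨z, ?_⟩
    have h8 : p.1 * (sw (inc a)).1 = (p * sw (inc a) * p⁻¹ * (inc a)⁻¹).1 * (a.toGL * p.1) := by
      change p.1 * (sw (inc a)).1 = (p.1 * (sw (inc a)).1 * p.1⁻¹ * a.toGL⁻¹) * (a.toGL * p.1)
      group
    have h9 := congrArg Units.val h8
    rw [Units.val_mul, Units.val_mul, Units.val_mul, hz, smul_mul_assoc, one_mul] at h9
    exact h9

end Minus

/-- **The groups `Ω(W)`, `dim W ≥ 4`, are good.** -/
theorem sgood_omega [Finite F] [FiniteDimensional F W] (hnd : ∀ u, (∀ v, polar Q u v = 0) → u = 0) {s : ℕ}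
    (hs : s.Prime) (h3 : 3 ≤ s) (hsF : ¬ s ∣ Nat.card F) (h4 : 4 ≤ Module.finrank F W)
    (hd : s ∣ Nat.card ↥(LieClassical.OrthCore.E Q)) : SGood s (LieClassical.OrthCore.E Q) := by
  by_cases h5 : 5 ≤ Module.finrank F W
  · exact sgood_omega_five hnd hs h3 h5 hd
  have hd4 : Module.finrank F W = 4 := by omega
  have hN := GenOrth.normal_form (Module.finrank F W) (Q := Q) hnd rfl
  rw [hd4] at hN
  rcases hN with ⟨k, hk, -⟩ | ⟨k, hk, μ, hμ, j, hj⟩ | ⟨k, hk, a, b, hab, μ, hμ, j, hj⟩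
  · omega
  · have hk1 : k = 2 := by omega
    subst hk1
    refine sgood_plus (e := j.symm.trans (LieClassical.OrthFourPlus.coord F)) hnd h4 (μ := μ) ?_ hμ hs h3 hsF hd
    intro w
    obtain ⟨v, rfl⟩ := j.surjective w
    rw [hj, LinearEquiv.trans_apply, j.symm_apply_apply, ← LieClassical.OrthFourPlus.coord_det]
  · have hk1 : k = 1 := by omega
    subst hk1
    have : Fact (∀ r : F, r ^ 2 ≠ -b + a * r) := ⟨fun r hr => by
      have := (hab (-r) 1 (by linear_combination hr)).2
      exact one_ne_zero this⟩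
    refine sgood_minus (c := -b) (d := a) (e := j.symm.trans (LieClassical.OrthFourMinus.coord F (-b) a)) hnd h4
      (μ := μ) ?_ hμ hs h3 hsF hd
    intro w
    obtain ⟨v, rfl⟩ := j.surjective w
    rw [hj, LinearEquiv.trans_apply, j.symm_apply_apply, LieClassical.OrthFourMinus.Q_coord]

end Cfsg.Agent.H809.Sec
end

-- part: H566/Pi/TriA
section
/-!
# S4324, triality automorphisms of order three, part 1 (helper566)

Intersection of the two families; size of the unipotent radical of the stabiliser of a totally singular 4-space.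
-/

set_option autoImplicit false
set_option linter.unusedSectionVars false

namespace Cfsg.Agent.H566.Pi.Tri

open QuadraticMap Cfsg.Agent.LieClassical.OrthCore Cfsg.Agent.LieClassical.OrthTrans
  Cfsg.Agent.LieClassical.OrthSimple Cfsg.Agent.ClassicalGeometry.OrthAut1
  Cfsg.Agent.ClassicalGeometry.OrthAut2 Cfsg.Agent.ClassicalGeometry.OrthAut2b
  Cfsg.Agent.ClassicalGeometry.OrthAut3 Cfsg.Agent.ClassicalGeometry.OrthAutCard
  Cfsg.Agent.LieClassical.QuadForms Cfsg.Agent.ClassicalGeometry.TrialityOct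
  Cfsg.Agent.ClassicalGeometry.TrialitySpaces Cfsg.Agent.ClassicalGeometry.TrialityIndex

/-! ### the two families meet -/

section Fam

variable {F : Type*} [Field F]

theorem omul_lin' (x z c : Fin 4 ⊕ Fin 4 → F) :
    omul z (omul (oconj x) c) + omul x (omul (oconj z) c) = polar (plusForm 4 F) x z • c := by
  coord8

/-- spaces of different families have a nontrivial intersection -/
theorem leftSp_inf_rightSp {x y : Fin 4 ⊕ Fin 4 → F} (hx : plusForm 4 F x = 0) (hx0 : x ≠ 0)
    (hy : plusForm 4 F y = 0) (hy0 : y ≠ 0) : leftSp x ⊓ rightSp y ≠ ⊥ := by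
  intro hbot
  have hzero : ∀ v, v ∈ leftSp x → v ∈ rightSp y → v = 0 := by
    intro v h1 h2
    have h3 : v ∈ leftSp x ⊓ rightSp y := ⟨h1, h2⟩
    rwa [hbot, Submodule.mem_bot] at h3
  have hxy : omul x y = 0 := hzero _ ⟨y, rfl⟩ ⟨x, rfl⟩
  -- `y = x̄ c`
  have hker : y ∈ LinearMap.range (leftMul (oconj x)) := by
    have hle : LinearMap.range (leftMul (oconj x)) ≤ LinearMap.ker (leftMul x) := by
      rintro _ ⟨c, rfl⟩
      show omul x (omul (oconj x) c) = 0
      rw [omul_oconj_omul, hx, zero_smul]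
    have h1 : Module.finrank F (LinearMap.range (leftMul (oconj x))) = 4 :=
      finrank_leftSp (by rw [norm_oconj]; exact hx) (oconj_ne_zero hx0)
    have h2 : Module.finrank F (LinearMap.range (leftMul x)) = 4 := finrank_leftSp hx hx0
    have h3 := LinearMap.finrank_range_add_finrank_ker (leftMul x)
    have h4 : Module.finrank F (Fin 4 ⊕ Fin 4 → F) = 8 := by simp
    have h5 := Submodule.eq_of_le_of_finrank_eq hle (by omega)
    rw [h5]
    exact hxy
  obtain ⟨c, hc⟩ := hker
  have hc' : omul (oconj x) c = y := hc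
  -- `z ⊥ x` gives `z y ∈ x𝕆 ∩ 𝕆y`
  have hall : LinearMap.ker (polarBilin (plusForm 4 F) x) ≤ LinearMap.ker (rightMul y) := by
    intro z hz
    have hz' : polar (plusForm 4 F) x z = 0 := hz
    show omul z y = 0
    have h1 := omul_lin' x z c
    rw [hc', hz', zero_smul] at h1
    have h2 : omul z y = omul x (-(omul (oconj z) c)) := by
      rw [eq_neg_of_add_eq_zero_left h1]
      exact ((leftMul x).map_neg _).symm
    exact hzero _ ⟨_, h2.symm⟩ ⟨z, rfl⟩
  have h1 := Submodule.finrank_mono hall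
  have h2 := LinearMap.finrank_range_add_finrank_ker (rightMul y)
  have h3 : Module.finrank F (LinearMap.range (rightMul y)) = 4 := finrank_rightSp hy hy0
  have h4 := LinearMap.finrank_range_add_finrank_ker (polarBilin (plusForm 4 F) x)
  have h5 := Submodule.finrank_le (LinearMap.range (polarBilin (plusForm 4 F) x))
  have h6 : Module.finrank F (Fin 4 ⊕ Fin 4 → F) = 8 := by simp
  rw [Module.finrank_self] at h5
  omega

/-- left multiplication of families: `E` is transitive on the spaces `x𝕆` -/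
theorem exists_map_left (hG : Good (plusForm 4 F)) {x y : Fin 4 ⊕ Fin 4 → F} (hx : plusForm 4 F x = 0) (hx0 : x ≠ 0)
    (hy : plusForm 4 F y = 0) (hy0 : y ≠ 0) : ∃ g ∈ E (plusForm 4 F), mapHom g (leftSp x) = leftSp y := by
  obtain ⟨g₁, hg₁, h⟩ := hG.trans_sing hx hy hx0 hy0
  obtain ⟨g, g₂, hg⟩ := ClassicalGeometry.Triality.exists_triple₁ hG hg₁
  refine ⟨g, hg.1.1, ?_⟩
  have := ClassicalGeometry.Triality.mapHom_xO hg.2 x
  rw [h] at this
  exact this

theorem exists_map_right (hG : Good (plusForm 4 F)) {x y : Fin 4 ⊕ Fin 4 → F} (hx : plusForm 4 F x = 0) (hx0 : x ≠ 0)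
    (hy : plusForm 4 F y = 0) (hy0 : y ≠ 0) : ∃ g ∈ E (plusForm 4 F), mapHom g (rightSp x) = rightSp y := by
  obtain ⟨g₂, hg₂, h⟩ := hG.trans_sing hx hy hx0 hy0
  obtain ⟨g, g₁, hg⟩ := ClassicalGeometry.Triality.exists_triple₂ hG hg₂
  refine ⟨g, hg.1.1, ?_⟩
  have := ClassicalGeometry.Triality.mapHom_Ox hg.2 x
  rw [h] at this
  exact this

end Fam

/-! ### the size of the radical -/

section Card

variable {F V : Type*} [Field F] [AddCommGroup V] [Module F V] {Q : QuadraticForm F V}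

theorem card_le [Finite F] [FiniteDimensional F V] (hQ : Nondeg Q) (W : Submodule F V)
    (hW : ∀ w ∈ W, Q w = 0) {k : ℕ} (hk : Module.finrank F W = k) (hk5 : 4 ≤ k) :
    Nat.card F ^ (2 * k - 2) ≤ Nat.card (Subgroup.closure {g : V ≃ₗ[F] V |
      ∃ (u w : V) (hu : Q u = 0) (hw : polar Q u w = 0), u ∈ W ∧ w ∈ W ∧
        g = siegel Q u w hu hw}) := by
  have hpos : ∀ U : Submodule F V, 1 ≤ Module.finrank F U → ∃ e ∈ U, e ≠ 0 := fun U hU => by
    have : Nontrivial U := Module.nontrivial_of_finrank_pos (R := F) (by omega)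
    obtain ⟨x, hx⟩ := exists_ne (0 : U)
    exact ⟨x, x.2, fun h => hx (Subtype.ext h)⟩
  -- the vectors
  obtain ⟨e₁, he₁, he₁0⟩ := hpos W (by omega)
  obtain ⟨f₁, h11⟩ := hQ.exists_polar_eq he₁0 1
  have d1 := finrank_cut (Q := Q) W f₁
  obtain ⟨e₂, he₂, he₂0⟩ := hpos (cut Q W f₁) (by omega)
  obtain ⟨f₂', h22'⟩ := hQ.exists_polar_eq he₂0 1
  have he₂' := mem_cut.1 he₂
  have h21 : polar Q e₂ f₁ = 0 := by rw [polar_comm]; exact he₂'.2
  obtain ⟨f₂, hf₂⟩ : ∃ f₂, f₂ = f₂' - polar Q e₁ f₂' • f₁ := ⟨_, rfl⟩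
  have h12 : polar Q e₁ f₂ = 0 := by
    rw [hf₂, polar_sub_right, polar_smul_right, h11]; simp
  have h22 : polar Q e₂ f₂ = 1 := by
    rw [hf₂, polar_sub_right, polar_smul_right, h21, h22']; simp
  have d2 := finrank_cut (Q := Q) (cut Q W f₁) f₂
  obtain ⟨e₃, he₃, he₃0⟩ := hpos (cut Q (cut Q W f₁) f₂) (by omega)
  obtain ⟨f₃', h33'⟩ := hQ.exists_polar_eq he₃0 1
  have he₃' := mem_cut.1 he₃
  have he₃'' := mem_cut.1 he₃'.1
  have h31 : polar Q e₃ f₁ = 0 := by rw [polar_comm]; exact he₃''.2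
  have h32 : polar Q e₃ f₂ = 0 := by rw [polar_comm]; exact he₃'.2
  obtain ⟨f₃, hf₃⟩ : ∃ f₃, f₃ = f₃' - polar Q e₁ f₃' • f₁ - polar Q e₂ f₃' • f₂ := ⟨_, rfl⟩
  have h13 : polar Q e₁ f₃ = 0 := by
    rw [hf₃, polar_sub_right, polar_sub_right, polar_smul_right, polar_smul_right, h11, h12]; simp
  have h23 : polar Q e₂ f₃ = 0 := by
    rw [hf₃, polar_sub_right, polar_sub_right, polar_smul_right, polar_smul_right, h21, h22]; simp
  have h33 : polar Q e₃ f₃ = 1 := by
    rw [hf₃, polar_sub_right, polar_sub_right, polar_smul_right, polar_smul_right, h31, h32, h33']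
    simp
  have d3 := finrank_cut (Q := Q) (cut Q (cut Q W f₁) f₂) f₃
  set W₁ := cut Q W f₁ with hW₁
  set! W₂ := cut Q W₁ f₂ with hW₂; rewrite [← hW₂] at d3 he₃ d2
  set! W₃ := cut Q W₂ f₃ with hW₃; rewrite [← hW₃] at d3
  have m1 : ∀ w ∈ W₁, w ∈ W ∧ polar Q w f₁ = 0 := fun w hw => by
    rw [polar_comm]; exact mem_cut.1 hw
  have m2 : ∀ w ∈ W₂, w ∈ W ∧ polar Q w f₁ = 0 ∧ polar Q w f₂ = 0 := fun w hw => by
    have h := mem_cut.1 hw
    have h' := m1 w h.1
    refine ⟨h'.1, h'.2, ?_⟩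
    rw [polar_comm]; exact h.2
  have m3 : ∀ w ∈ W₃, w ∈ W ∧ polar Q w f₁ = 0 ∧ polar Q w f₂ = 0 ∧ polar Q w f₃ = 0 :=
    fun w hw => by
    have h := mem_cut.1 hw
    have h' := m2 w h.1
    refine ⟨h'.1, h'.2.1, h'.2.2, ?_⟩
    rw [polar_comm]; exact h.2
  have z : ∀ {u w : V}, u ∈ W → w ∈ W → polar Q u w = 0 := fun hu hw =>
    polar_eq_zero_of_sing hW hu hw
  -- the map
  let g : W₁ × W₂ × W₃ → (V ≃ₗ[F] V) := fun x =>
    siegel Q e₁ x.1 (hW _ he₁) (z he₁ (m1 _ x.1.2).1) *
      (siegel Q e₂ x.2.1 (hW _ he₂'.1) (z he₂'.1 (m2 _ x.2.1.2).1) *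
        siegel Q e₃ x.2.2 (hW _ he₃''.1) (z he₃''.1 (m3 _ x.2.2.2).1))
  have hg : ∀ x, g x ∈ Subgroup.closure {g : V ≃ₗ[F] V |
      ∃ (u w : V) (hu : Q u = 0) (hw : polar Q u w = 0), u ∈ W ∧ w ∈ W ∧
        g = siegel Q u w hu hw} := fun x => by
    refine mul_mem (Subgroup.subset_closure ⟨_, _, _, _, he₁, (m1 _ x.1.2).1, rfl⟩)
      (mul_mem (Subgroup.subset_closure ⟨_, _, _, _, he₂'.1, (m2 _ x.2.1.2).1, rfl⟩)
        (Subgroup.subset_closure ⟨_, _, _, _, he₃''.1, (m3 _ x.2.2.2).1, rfl⟩))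
  have happ : ∀ x v, g x v = v + (polar Q e₃ v • (x.2.2 : V) - polar Q x.2.2 v • e₃) +
      (polar Q e₂ v • (x.2.1 : V) - polar Q x.2.1 v • e₂) +
      (polar Q e₁ v • (x.1 : V) - polar Q x.1 v • e₁) := fun x v => by
    have a1 := (m1 _ x.1.2).1
    have a2 := (m2 _ x.2.1.2).1
    have a3 := (m3 _ x.2.2.2).1
    show siegel Q e₁ x.1 (hW _ he₁) (z he₁ (m1 _ x.1.2).1)
      (siegel Q e₂ x.2.1 (hW _ he₂'.1) (z he₂'.1 (m2 _ x.2.1.2).1)
        (siegel Q e₃ x.2.2 (hW _ he₃''.1) (z he₃''.1 (m3 _ x.2.2.2).1) v)) = _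
    rw [siegel_apply_of_mem hW _ _ a1, siegel_apply_of_mem hW _ _ a2,
      siegel_apply_of_mem hW _ _ a3]
    simp only [polar_add_right, polar_sub_right, polar_smul_right, z he₁ a2, z he₁ a3,
      z he₁ he₂'.1, z he₁ he₃''.1, z he₂'.1 a3, z he₂'.1 he₃''.1, z a1 a2, z a1 a3, z a1 he₂'.1,
      z a1 he₃''.1, z a2 a3, z a2 he₃''.1, smul_eq_mul, mul_zero, sub_zero, add_zero]
  have hinj : Function.Injective g := by
    intro x y hxy
    have e1 := DFunLike.congr_fun hxy f₁
    rw [happ, happ, h11, h21, h31, (m1 _ x.1.2).2, (m2 _ x.2.1.2).2.1, (m3 _ x.2.2.2).2.1,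
      (m1 _ y.1.2).2, (m2 _ y.2.1.2).2.1, (m3 _ y.2.2.2).2.1] at e1
    simp only [zero_smul, sub_zero, add_zero, one_smul, add_right_inj] at e1
    have e2 := DFunLike.congr_fun hxy f₂
    rw [happ, happ, h12, h22, h32, (m2 _ x.2.1.2).2.2, (m3 _ x.2.2.2).2.2.1,
      (m2 _ y.2.1.2).2.2, (m3 _ y.2.2.2).2.2.1, e1] at e2
    simp only [zero_smul, sub_zero, add_zero, one_smul, add_left_inj, add_right_inj] at e2
    have e3 := DFunLike.congr_fun hxy f₃
    rw [happ, happ, h13, h23, h33, (m3 _ x.2.2.2).2.2.2, (m3 _ y.2.2.2).2.2.2, e1, e2] at e3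
    simp only [zero_smul, sub_zero, one_smul, add_left_inj, add_right_inj] at e3
    exact Prod.ext (Subtype.ext e1) (Prod.ext (Subtype.ext e2) (Subtype.ext e3))
  have : Finite V := Module.finite_of_finite F
  have hfin : Finite (V ≃ₗ[F] V) := Finite.of_injective (fun f : V ≃ₗ[F] V => (f : V → V))
    DFunLike.coe_injective
  have hle : Nat.card (W₁ × W₂ × W₃) ≤ Nat.card (Subgroup.closure {g : V ≃ₗ[F] V |
      ∃ (u w : V) (hu : Q u = 0) (hw : polar Q u w = 0), u ∈ W ∧ w ∈ W ∧
        g = siegel Q u w hu hw}) :=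
    Nat.card_le_card_of_injective (fun x => ⟨g x, hg x⟩)
      (fun x y h => hinj (congrArg Subtype.val h))
  refine le_trans ?_ hle
  rw [Nat.card_prod, Nat.card_prod]
  have c1 : Nat.card F ^ (k - 1) ≤ Nat.card W₁ := pow_le_card_cut (by omega)
  have c2 : Nat.card F ^ (k - 2) ≤ Nat.card W₂ := pow_le_card_cut (by omega)
  have c3 : Nat.card F ^ (k - 3) ≤ Nat.card W₃ := pow_le_card_cut (by omega)
  calc Nat.card F ^ (2 * k - 2) ≤ Nat.card F ^ ((k - 1) + ((k - 2) + (k - 3))) :=
        Nat.pow_le_pow_right Nat.card_pos (by omega)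
    _ = Nat.card F ^ (k - 1) * (Nat.card F ^ (k - 2) * Nat.card F ^ (k - 3)) := by
        rw [pow_add, pow_add]
    _ ≤ _ := Nat.mul_le_mul c1 (Nat.mul_le_mul c2 c3)

/-- Lower bound for `UP W`, `W` totally singular of dimension at least four. -/
theorem le_card_UP [Finite F] [FiniteDimensional F V] (hG : Good Q) {W : Submodule F V}
    (hW : TS Q W) (hk5 : 4 ≤ Module.finrank F W) :
    Nat.card F ^ (2 * Module.finrank F W - 2) ≤ Nat.card (UP Q W) := by
  have h1 := card_le hG.nondeg W hW rfl hk5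
  refine le_trans h1 ?_
  set C := Subgroup.closure {g : V ≃ₗ[F] V | ∃ (u w : V) (hu : Q u = 0) (hw : polar Q u w = 0),
    u ∈ W ∧ w ∈ W ∧ g = siegel Q u w hu hw} with hC
  have hCE : C ≤ E Q := by
    rw [hC, Subgroup.closure_le]
    rintro _ ⟨u, w, hu, hw, -, -, rfl⟩
    exact siegel_mem_E hu hw
  have hCU : ∀ g (hg : g ∈ C), (⟨g, hCE hg⟩ : ↥(E Q)) ∈ U Q W := by
    have h2 : C ≤ (U Q W).map (E Q).subtype := by
      rw [hC, Subgroup.closure_le]
      rintro _ ⟨u, w, hu, hw, huW, hwW, rfl⟩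
      exact ⟨sg u w hu hw, sg_mem_U hW huW (fun v hv => hW.polar hwW hv) hu hw, rfl⟩
    intro g hg
    obtain ⟨g', hg', e⟩ := h2 hg
    have : g' = ⟨g, hCE hg⟩ := Subtype.ext e
    rw [← this]; exact hg'
  have hfinP : Finite (P Q) := finite_P
  have hW0 : ∃ w ∈ W, w ≠ 0 := by
    have : Nontrivial W := Module.nontrivial_of_finrank_pos (R := F) (by omega)
    obtain ⟨x, hx⟩ := exists_ne (0 : W)
    exact ⟨x, x.2, fun h => hx (Subtype.ext h)⟩
  obtain ⟨w0, hw0, hw00⟩ := hW0
  let φ : C → UP Q W := fun g => ⟨((⟨g, hCE g.2⟩ : ↥(E Q)) : P Q), ⟨_, hCU g g.2, rfl⟩⟩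
  have hφ : Function.Injective φ := by
    rintro ⟨g, hg⟩ ⟨g', hg'⟩ h
    have h2 : ((⟨g, hCE hg⟩ : ↥(E Q)) : P Q) = ((⟨g', hCE hg'⟩ : ↥(E Q)) : P Q) :=
      congrArg Subtype.val h
    rw [QuotientGroup.eq] at h2
    obtain ⟨c, hc⟩ := center_scalar hG h2
    have h3 : g.symm (g' w0) = c • w0 := hc w0
    have h4 : g' w0 = w0 := (hCU g' hg').1 w0 hw0
    have h5 : g w0 = w0 := (hCU g hg).1 w0 hw0
    rw [h4, LinearEquiv.symm_apply_eq, map_smul, h5] at h3
    have h6 : c = 1 := by
      have h7 : (1 - c) • w0 = 0 := by rw [sub_smul, one_smul, ← h3, sub_self]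
      rcases smul_eq_zero.1 h7 with h8 | h8
      · exact (sub_eq_zero.1 h8).symm
      · exact absurd h8 hw00
    apply Subtype.ext
    ext v
    have h7 : g.symm (g' v) = c • v := hc v
    rw [h6, one_smul, LinearEquiv.symm_apply_eq] at h7
    exact h7.symm
  exact Nat.card_le_card_of_injective φ hφ

/-- the image of the radical of a point -/
theorem map_UP_eq_four [Finite F] [FiniteDimensional F V] (hG : Good Q) (h8 : Module.finrank F V = 8)
    (α : MulAut (P Q)) {x : V} (hx : Q x = 0) (hx0 : x ≠ 0) {W : Submodule F V} (hW : TS Q W)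
    (hW4 : Module.finrank F W = 4)
    (h : (stab hG (Submodule.span F {x})).map α.toMonoidHom = stab hG W) :
    (UP Q (Submodule.span F {x})).map α.toMonoidHom = UP Q W := by
  have hfinP : Finite (P Q) := finite_P
  have h1 := map_symm_UP_le hG (by omega) α hx hx0 h
  have h2 : UP Q W ≤ (UP Q (Submodule.span F {x})).map α.toMonoidHom := by
    intro t ht
    exact ⟨_, h1 ⟨t, ht, rfl⟩, α.apply_symm_apply t⟩
  symm
  apply Subgroup.eq_of_le_of_card_ge h2
  rw [Subgroup.card_map_of_injective α.injective]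
  have h3 := card_UP_span_le hG hx hx0
  have h4 := le_card_UP hG hW (by omega)
  rw [h8] at h3
  rw [hW4] at h4
  exact h3.trans h4

end Card

end Cfsg.Agent.H566.Pi.Tri
end

-- part: H566/Pi/TriB
section
/-!
# S4324, triality automorphisms of order three, part 2 (helper566)

An automorphism `α` of `PΩ₈⁺(q)` with `α³ = 1` which maps no point stabiliser to a point stabiliser has an absolute
point: a singular point `L` contained in the 4-space `A L` whose stabiliser is the image of the stabiliser of `L`.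
-/

set_option autoImplicit false
set_option linter.unusedSectionVars false

namespace Cfsg.Agent.H566.Pi.Tri

open QuadraticMap Cfsg.Agent.LieClassical.OrthCore Cfsg.Agent.LieClassical.OrthTrans
  Cfsg.Agent.LieClassical.OrthSimple Cfsg.Agent.ClassicalGeometry.OrthAut1
  Cfsg.Agent.ClassicalGeometry.OrthAut2 Cfsg.Agent.ClassicalGeometry.OrthAut2b
  Cfsg.Agent.ClassicalGeometry.OrthAut3 Cfsg.Agent.ClassicalGeometry.OrthAutCard
  Cfsg.Agent.LieClassical.QuadForms Cfsg.Agent.ClassicalGeometry.TrialityOct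
  Cfsg.Agent.ClassicalGeometry.TrialitySpaces Cfsg.Agent.ClassicalGeometry.TrialityIndex
open scoped LinearAlgebra.Projectivization

/-! ### points of a totally singular subspace -/

section Points

variable {F V : Type*} [Field F] [AddCommGroup V] [Module F V] {Q : QuadraticForm F V}

theorem span_eq_iff {u v : V} (hu : u ≠ 0) : Submodule.span F {u} = Submodule.span F {v} ↔ ∃ c : F, c ≠ 0 ∧ c • v = u := by
  constructor
  · intro h
    have h1 : u ∈ Submodule.span F {v} := by rw [← h]; exact Submodule.mem_span_singleton_self u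
    obtain ⟨c, hc⟩ := Submodule.mem_span_singleton.1 h1
    refine ⟨c, ?_, hc⟩
    rintro rfl
    rw [zero_smul] at hc
    exact hu hc.symm
  · rintro ⟨c, hc, rfl⟩
    exact Submodule.span_singleton_smul_eq (IsUnit.mk0 c hc) v

theorem card_points [Finite F] [FiniteDimensional F V] {W : Submodule F V} (hW : TS Q W) (hW0 : W ≠ ⊥) :
    (Nat.card {L : Pts Q // L.1 ≤ W} : F) = 1 := by
  have hne : Nontrivial W := Submodule.nontrivial_iff_ne_bot.2 hW0
  have hVf : Finite V := Module.finite_of_finite F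
  have hcoe : ∀ v : ℙ F W, ((v.rep : W) : V) ≠ 0 := fun v h => v.rep_nonzero (Subtype.ext h)
  let f : ℙ F W → {L : Pts Q // L.1 ≤ W} := fun v =>
    ⟨⟨Submodule.span F {((v.rep : W) : V)}, ((v.rep : W) : V), hcoe v, hW _ (v.rep : W).2, rfl⟩, by
      rw [Submodule.span_singleton_le_iff_mem]
      exact (v.rep : W).2⟩
  have hf : Function.Bijective f := by
    constructor
    · intro v v' h
      have h1 : Submodule.span F {((v.rep : W) : V)} = Submodule.span F {((v'.rep : W) : V)} :=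
        congrArg (fun z : {L : Pts Q // L.1 ≤ W} => z.1.1) h
      obtain ⟨c, hc, h2⟩ := (span_eq_iff (hcoe v)).1 h1
      rw [← v.mk_rep, ← v'.mk_rep, Projectivization.mk_eq_mk_iff]
      exact ⟨Units.mk0 c hc, Subtype.ext h2⟩
    · rintro ⟨⟨L, u, hu0, hu, rfl⟩, hL⟩
      have huW : u ∈ W := by rwa [Submodule.span_singleton_le_iff_mem] at hL
      have hu0' : (⟨u, huW⟩ : W) ≠ 0 := fun h => hu0 (congrArg Subtype.val h)
      refine ⟨Projectivization.mk F (⟨u, huW⟩ : W) hu0', ?_⟩
      apply Subtype.ext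
      apply Subtype.ext
      show Submodule.span F {(((Projectivization.mk F (⟨u, huW⟩ : W) hu0').rep : W) : V)} = Submodule.span F {u}
      obtain ⟨a, ha⟩ := Projectivization.exists_smul_eq_mk_rep F (⟨u, huW⟩ : W) hu0'
      rw [← ha]
      exact Submodule.span_singleton_smul_eq a.isUnit u
  have h1 := Projectivization.card' F W
  rw [Nat.card_congr (Equiv.ofBijective f hf)] at h1
  have h2 : (Nat.card W : F) = 0 := by
    obtain ⟨p, hp⟩ := CharP.exists F
    have : Fintype F := Fintype.ofFinite F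
    rw [Module.natCard_eq_pow_finrank (K := F) (V := W), Nat.cast_pow, Nat.card_eq_fintype_card,
      FiniteField.cast_card_eq_zero, zero_pow]
    have := Module.finrank_pos (R := F) (M := W)
    omega
  have h3 : ((Nat.card F - 1 : ℕ) : F) = -1 := by
    have : Fintype F := Fintype.ofFinite F
    have h4 : 1 ≤ Nat.card F := Nat.card_pos
    rw [Nat.cast_sub h4, Nat.card_eq_fintype_card, FiniteField.cast_card_eq_zero, Nat.cast_one, zero_sub]
  have h4 := congrArg (Nat.cast : ℕ → F) h1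
  rw [h2, Nat.cast_add, Nat.cast_mul, h3, Nat.cast_one] at h4
  linear_combination h4

/-! ### incidence -/

theorem perp_of_four [FiniteDimensional F V] (hG : Good Q) (h8 : Module.finrank F V = 8) {W : Submodule F V}
    (hW : TS Q W) (hW4 : Module.finrank F W = 4) {v : V} (h : ∀ w ∈ W, polar Q w v = 0) : v ∈ W := by
  have hnd : (polarBilin Q).Nondegenerate := by
    refine ⟨fun a ha => hG.nondeg a ha, fun a ha => hG.nondeg a fun b => ?_⟩
    rw [polar_comm]
    exact ha b
  have h1 := LinearMap.BilinForm.finrank_orthogonal hnd W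
  have h2 : W ≤ LinearMap.BilinForm.orthogonal (polarBilin Q) W := by
    intro w hw
    rw [LinearMap.BilinForm.mem_orthogonal_iff]
    intro v hv
    exact hW.polar hv hw
  have h3 := Submodule.eq_of_le_of_finrank_eq h2 (by omega)
  rw [h3, LinearMap.BilinForm.mem_orthogonal_iff]
  exact h

theorem UP_le_stab_of_mem [FiniteDimensional F V] (hG : Good Q) {W : Submodule F V} (hW : TS Q W) {u : V}
    (hu0 : u ≠ 0) (huW : u ∈ W) : UP Q (Submodule.span F {u}) ≤ stab hG W := by
  intro p hp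
  obtain ⟨w, hw, rfl⟩ := (mem_UP_span_iff hG.nondeg (hW u huW) hu0).1 hp
  apply mem_stab_of_map_le
  intro v hv
  rw [sg_apply, hW.polar huW hv]
  simp only [zero_smul, mul_zero, add_zero, sub_zero]
  exact W.sub_mem hv (W.smul_mem _ huW)

theorem mem_of_UP_le_stab' [FiniteDimensional F V] (hG : Good Q) (h8 : Module.finrank F V = 8) {W : Submodule F V}
    (hW : TS Q W) (hW4 : Module.finrank F W = 4) {u : V}
    (h : UP Q W ≤ stab hG (Submodule.span F {u})) : u ∈ W := by
  by_contra hcon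
  obtain ⟨v, hvW, hv⟩ : ∃ v ∈ W, polar Q v u ≠ 0 := by
    by_contra hc
    push Not at hc
    exact hcon (perp_of_four hG h8 hW hW4 hc)
  obtain ⟨w, hwW, hw0, hw⟩ : ∃ w ∈ W, w ≠ 0 ∧ polar Q w u = 0 := by
    have d1 := finrank_cut (Q := Q) W u
    have : Nontrivial (cut Q W u) := Module.nontrivial_of_finrank_pos (R := F) (by omega)
    obtain ⟨x, hx⟩ := exists_ne (0 : cut Q W u)
    have hx' := mem_cut.1 x.2
    exact ⟨x, hx'.1, fun h => hx (Subtype.ext h), by rw [polar_comm]; exact hx'.2⟩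
  have hsg : ((sg v w (hW v hvW) (hW.polar hvW hwW) : ↥(E Q)) : P Q) ∈ UP Q W :=
    ⟨_, sg_mem_U hW hvW (fun z hz => hW.polar hwW hz) _ _, rfl⟩
  have h2 := apply_mem_of_mem_stab (h hsg) (Submodule.mem_span_singleton_self u)
  rw [sg_apply, hw, hW w hwW, zero_smul, sub_zero, zero_mul, zero_smul, sub_zero] at h2
  obtain ⟨c, hc⟩ := Submodule.mem_span_singleton.1 h2
  have h3 : (c - 1) • u = polar Q v u • w := by
    rw [sub_smul, one_smul, hc]; abel
  by_cases hc1 : c - 1 = 0
  · rw [hc1, zero_smul] at h3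
    rcases smul_eq_zero.1 h3.symm with h4 | h4
    · exact hv h4
    · exact hw0 h4
  · apply hcon
    have : u = (c - 1)⁻¹ • (polar Q v u • w) := by
      rw [← h3, smul_smul, inv_mul_cancel₀ hc1, one_smul]
    rw [this]
    exact W.smul_mem _ (W.smul_mem _ hwW)

end Points

/-! ### triality automorphisms -/

section Tri

variable {F : Type*} [Field F] [Finite F]

/-- `α³ = 1` and `α` maps no point stabiliser to a point stabiliser -/
structure IsTri (hG : Good (plusForm 4 F)) (α : MulAut (P (plusForm 4 F))) : Prop where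
  cube : α ^ 3 = 1
  np : ∀ x y, plusForm 4 F x = 0 → x ≠ 0 → plusForm 4 F y = 0 → y ≠ 0 →
    (stab hG (Submodule.span F {x})).map α.toMonoidHom ≠ stab hG (Submodule.span F {y})

variable {hG : Good (plusForm 4 F)} {α : MulAut (P (plusForm 4 F))}

theorem finrank8 : Module.finrank F (Fin 4 ⊕ Fin 4 → F) = 8 := by simp

theorem IsTri.sq (h : IsTri hG α) : IsTri hG (α ^ 2) := by
  refine ⟨by simp only [← pow_mul α 2 3, mul_comm 2 3, pow_mul α 3 2, h.cube, one_pow 2], fun x y hx hx0 hy hy0 heq => ?_⟩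
  apply h.np y x hy hy0 hx hx0
  rw [← heq, ← map_mulAut_mul, ← pow_succ', h.cube, map_mulAut_one]

theorem IsTri.exists_sp (h : IsTri hG α) (L : Pts (plusForm 4 F)) :
    ∃ W : Submodule F (Fin 4 ⊕ Fin 4 → F), TS (plusForm 4 F) W ∧ Module.finrank F W = 4 ∧
      (stab hG L.1).map α.toMonoidHom = stab hG W := by
  obtain ⟨L, u, hu0, hu, rfl⟩ := L
  rcases dichotomy hG (by simp) α hu hu0 with ⟨y, hy, hy0, h1⟩ | ⟨-, W, hW, hW4, h1⟩
  · exact absurd h1 (h.np u y hu hu0 hy hy0)
  · exact ⟨W, hW, hW4, h1⟩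

/-- the 4-space of the image of the point `L` -/
noncomputable def IsTri.sp (h : IsTri hG α) (L : Pts (plusForm 4 F)) : Submodule F (Fin 4 ⊕ Fin 4 → F) :=
  (h.exists_sp L).choose

theorem IsTri.sp_ts (h : IsTri hG α) (L : Pts (plusForm 4 F)) : TS (plusForm 4 F) (h.sp L) :=
  (h.exists_sp L).choose_spec.1

theorem IsTri.sp_four (h : IsTri hG α) (L : Pts (plusForm 4 F)) : Module.finrank F (h.sp L) = 4 :=
  (h.exists_sp L).choose_spec.2.1

theorem IsTri.map_stab (h : IsTri hG α) (L : Pts (plusForm 4 F)) :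
    (stab hG L.1).map α.toMonoidHom = stab hG (h.sp L) :=
  (h.exists_sp L).choose_spec.2.2

theorem IsTri.map_UP (h : IsTri hG α) (L : Pts (plusForm 4 F)) :
    (UP (plusForm 4 F) L.1).map α.toMonoidHom = UP (plusForm 4 F) (h.sp L) := by
  have h1 := h.map_stab L
  have h2 := h.sp_ts L
  have h3 := h.sp_four L
  generalize h.sp L = W at h1 h2 h3 ⊢
  obtain ⟨L, u, hu0, hu, rfl⟩ := L
  exact map_UP_eq_four hG finrank8 α hu hu0 h2 h3 h1

theorem IsTri.map_stab_sp (h : IsTri hG α) (L : Pts (plusForm 4 F)) :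
    (stab hG (h.sp L)).map α.toMonoidHom = stab hG (h.sq.sp L) := by
  ((conv => enter [@2, @6]; rw [← h.map_stab]); (conv => enter [@3]; rw [← h.sq.map_stab]); (conv => enter [@2]; rw [← map_mulAut_mul]); (conv => enter [@3, @5, @5]; rw [pow_two]))

theorem IsTri.map_UP_sp (h : IsTri hG α) (L : Pts (plusForm 4 F)) :
    (UP (plusForm 4 F) (h.sp L)).map α.toMonoidHom = UP (plusForm 4 F) (h.sq.sp L) := by
  simp_rw [← h.map_UP, ← h.sq.map_UP, ← map_mulAut_mul, pow_two]

theorem IsTri.map_stab_sq (h : IsTri hG α) (L : Pts (plusForm 4 F)) :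
    (stab hG (h.sq.sp L)).map α.toMonoidHom = stab hG L.1 := by
  rw [← h.sq.map_stab, ← map_mulAut_mul, ← pow_succ', h.cube, map_mulAut_one]

theorem IsTri.map_UP_sq (h : IsTri hG α) (L : Pts (plusForm 4 F)) :
    (UP (plusForm 4 F) (h.sq.sp L)).map α.toMonoidHom = UP (plusForm 4 F) L.1 := by
  rw [← h.sq.map_UP, ← map_mulAut_mul, ← pow_succ', h.cube, map_mulAut_one]

/-- a point as a point: the image under an element of `P` -/
theorem exists_point (hG : Good (plusForm 4 F)) (p : P (plusForm 4 F)) (L : Pts (plusForm 4 F)) :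
    ∃ y, plusForm 4 F y = 0 ∧ y ≠ 0 ∧ pact hG p L.1 = Submodule.span F {y} := by
  let _ := ptsAct hG
  obtain ⟨y, hy0, hy, h⟩ := (p • L).2
  exact ⟨y, hy, hy0, h⟩

theorem IsTri.fam_ne (h : IsTri hG α) (L L' : Pts (plusForm 4 F)) (p : P (plusForm 4 F)) :
    pact hG p (h.sq.sp L') ≠ h.sp L := by
  intro heq
  have h1 : stab hG (h.sp L) = ((stab hG L'.1).map (α ^ 2).toMonoidHom).map (MulAut.conj p).toMonoidHom := by
    rw [h.sq.map_stab, map_conj_stab, heq]
  rw [← h.map_stab, ← map_mulAut_mul] at h1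
  have h2 := congrArg (fun K : Subgroup (P (plusForm 4 F)) => K.map (α⁻¹).toMonoidHom) h1
  simp only [map_mulAut_inv] at h2
  rw [← map_mulAut_mul] at h2
  have h3 : α⁻¹ * (MulAut.conj p * α ^ 2) = MulAut.conj (α⁻¹ p) * α := by
    simp only [← mul_assoc, mul_conj, mul_assoc, pow_two, ← mul_assoc α⁻¹, inv_mul_cancel, one_mul]
  rw [h3, map_mulAut_mul] at h2
  -- so `α` maps the point `L'` to a point
  have h4 : (stab hG L'.1).map α.toMonoidHom = stab hG ((pact hG (α⁻¹ p)⁻¹ L.1 :)) := by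
    (simp only [← map_conj_stab]; simp only [h2]; (conv => enter [@3]; rw [← map_mulAut_mul]); simp only [← map_mul]; simp only [inv_mul_cancel]; simp only [map_one]; simp only [map_mulAut_one])
  obtain ⟨y, hy, hy0, hy'⟩ := exists_point hG (α⁻¹ p)⁻¹ L
  obtain ⟨L', u, hu0, hu, rfl⟩ := L'
  rw [hy'] at h4
  exact h.np u y hu hu0 hy hy0 h4

theorem IsTri.fam (h : IsTri hG α) (L L' : Pts (plusForm 4 F)) :
    (IsLeft (h.sp L) ∧ IsRight (h.sq.sp L')) ∨ (IsRight (h.sp L) ∧ IsLeft (h.sq.sp L')) := by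
  obtain ⟨x, hx, hx0, h1⟩ := isOct_of_singular (h.sp_ts L) (h.sp_four L)
  obtain ⟨y, hy, hy0, h2⟩ := isOct_of_singular (h.sq.sp_ts L') (h.sq.sp_four L')
  rcases h1 with h1 | h1 <;> rcases h2 with h2 | h2
  · exfalso
    obtain ⟨g, hg, e⟩ := exists_map_left hG hy hy0 hx hx0
    exact h.fam_ne L L' ((⟨g, hg⟩ : ↥(E (plusForm 4 F))) : P (plusForm 4 F)) (by rw [pact_mk, h1, h2]; exact e)
  · exact Or.inl ⟨⟨x, hx, hx0, h1⟩, ⟨y, hy, hy0, h2⟩⟩
  · exact Or.inr ⟨⟨x, hx, hx0, h1⟩, ⟨y, hy, hy0, h2⟩⟩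
  · exfalso
    obtain ⟨g, hg, e⟩ := exists_map_right hG hy hy0 hx hx0
    exact h.fam_ne L L' ((⟨g, hg⟩ : ↥(E (plusForm 4 F))) : P (plusForm 4 F)) (by rw [pact_mk, h1, h2]; exact e)

theorem IsTri.meet (h : IsTri hG α) (L L' : Pts (plusForm 4 F)) : h.sp L ⊓ h.sq.sp L' ≠ ⊥ := by
  rcases h.fam L L' with ⟨⟨x, hx, hx0, h1⟩, ⟨y, hy, hy0, h2⟩⟩ | ⟨⟨x, hx, hx0, h1⟩, ⟨y, hy, hy0, h2⟩⟩
  · rw [h1, h2]
    exact leftSp_inf_rightSp hx hx0 hy hy0
  · rw [h1, h2, inf_comm]
    exact leftSp_inf_rightSp hy hy0 hx hx0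

theorem IsTri.sp_ne (h : IsTri hG α) (L L' : Pts (plusForm 4 F)) : h.sp L ≠ h.sq.sp L' := by
  intro heq
  refine (h.fam_ne L L' 1 ?_ :)
  rw [map_one, heq]
  rfl

/-- duality of the incidence relations of `α` and `α²` -/
theorem IsTri.dual (h : IsTri hG α) (L L' : Pts (plusForm 4 F)) : L.1 ≤ h.sp L' ↔ L'.1 ≤ h.sq.sp L := by
  constructor
  · intro h1
    have h2 : UP (plusForm 4 F) L.1 ≤ stab hG (h.sp L') := by
      obtain ⟨L, u, hu0, hu, rfl⟩ := L
      exact UP_le_stab_of_mem hG (h.sp_ts _) hu0 (by rwa [Submodule.span_singleton_le_iff_mem] at h1)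
    have h3 := Subgroup.map_mono (f := (α ^ 2).toMonoidHom) h2
    simp only [h.sq.map_UP, ← h.map_stab, ← map_mulAut_mul, ← pow_succ, h.cube, map_mulAut_one] at h3
    obtain ⟨L', u, hu0, hu, rfl⟩ := L'
    rw [Submodule.span_singleton_le_iff_mem]
    exact mem_of_UP_le_stab' hG finrank8 (h.sq.sp_ts _) (h.sq.sp_four _) h3
  · intro h1
    have h2 : UP (plusForm 4 F) L'.1 ≤ stab hG (h.sq.sp L) := by
      obtain ⟨L', u, hu0, hu, rfl⟩ := L'
      exact UP_le_stab_of_mem hG (h.sq.sp_ts _) hu0 (by rwa [Submodule.span_singleton_le_iff_mem] at h1)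
    have h3 := Subgroup.map_mono (f := α.toMonoidHom) h2
    rw [h.map_UP, h.map_stab_sq] at h3
    obtain ⟨L, u, hu0, hu, rfl⟩ := L
    rw [Submodule.span_singleton_le_iff_mem]
    exact mem_of_UP_le_stab' hG finrank8 (h.sp_ts _) (h.sp_four _) h3

/-- **There is an absolute point.** -/
theorem IsTri.exists_abs (h : IsTri hG α) : ∃ L : Pts (plusForm 4 F), L.1 ≤ h.sp L := by
  classical
  by_contra hcon
  push Not at hcon
  have hfin : Finite (Pts (plusForm 4 F)) := finite_Pts
  have : Fintype (Pts (plusForm 4 F)) := Fintype.ofFinite _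
  let C : Matrix (Pts (plusForm 4 F)) (Pts (plusForm 4 F)) F := fun L L' => if L.1 ≤ h.sp L' then 1 else 0
  let J : Matrix (Pts (plusForm 4 F)) (Pts (plusForm 4 F)) F := fun _ _ => 1
  have hsum : ∀ W : Submodule F (Fin 4 ⊕ Fin 4 → F), TS (plusForm 4 F) W → W ≠ ⊥ →
      ∑ L : Pts (plusForm 4 F), (if L.1 ≤ W then (1 : F) else 0) = 1 := by
    intro W hW hW0
    rw [Finset.sum_boole, ← card_points hW hW0, Nat.card_eq_fintype_card, Fintype.card_subtype]
  have h40 : ∀ {W : Submodule F (Fin 4 ⊕ Fin 4 → F)}, Module.finrank F W = 4 → W ≠ ⊥ := by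
    rintro W hW rfl
    rw [finrank_bot] at hW
    omega
  have hcard : (Fintype.card (Pts (plusForm 4 F)) : F) = 1 := by
    obtain ⟨p, hp⟩ := CharP.exists F
    have : Fact p.Prime := ⟨CharP.char_is_prime F p⟩
    have h1 := card_Pts_modEq hG p
    rw [Nat.card_eq_fintype_card] at h1
    have h2 := (CharP.natCast_eq_natCast F p).2 h1
    rwa [Nat.cast_one] at h2
  have hCJ : C * J = J := by
    ext L L'
    rw [Matrix.mul_apply]
    simp only [C, J, mul_one]
    have : ∀ L' : Pts (plusForm 4 F), (if L.1 ≤ h.sp L' then (1 : F) else 0) = if L'.1 ≤ h.sq.sp L then 1 else 0 := by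
      intro L'
      simp only [h.dual]
    simp only [this]
    exact hsum _ (h.sq.sp_ts _) (h40 (h.sq.sp_four _))
  have hJC : J * C = J := by
    ext L L'
    rw [Matrix.mul_apply]
    simp only [C, J, one_mul]
    exact hsum _ (h.sp_ts _) (h40 (h.sp_four _))
  have hJJ : J * J = J := by
    ext L L'
    rw [Matrix.mul_apply]
    simp only [J, mul_one, Finset.sum_const, Finset.card_univ, nsmul_eq_mul]
    exact hcard
  have hCC : C * C = J := by
    ext L L'
    rw [Matrix.mul_apply]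
    simp only [C, J]
    have : ∀ M : Pts (plusForm 4 F), (if L.1 ≤ h.sp M then (1 : F) else 0) * (if M.1 ≤ h.sp L' then 1 else 0) =
        if M.1 ≤ h.sp L' ⊓ h.sq.sp L then 1 else 0 := by
      intro M
      simp only [h.dual, le_inf_iff]
      split_ifs <;> simp_all only [_root_.ne_eq, _root_.Finset.sum_boole, _root_.mul_one, _root_.and_self, _root_.not_true_eq_false, _root_.and_true, _root_.not_false_eq_true, _root_.MulZeroClass.mul_zero, _root_.and_false]
    simp only [this]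
    refine hsum _ ?_ (h.meet _ _)
    intro w hw
    exact h.sp_ts _ w hw.1
  have hnil : IsNilpotent (C - J) := by
    refine ⟨2, ?_⟩
    rw [pow_two, sub_mul, mul_sub, mul_sub, hCC, hCJ, hJC, hJJ]
    simp
  have h1 := (Matrix.isNilpotent_trace_of_isNilpotent hnil).eq_zero
  rw [Matrix.trace_sub, sub_eq_zero] at h1
  have h2 : C.trace = 0 := by
    rw [Matrix.trace]
    apply Finset.sum_eq_zero
    intro L _
    rw [Matrix.diag_apply]
    simp only [C, hcon L, if_false]
  have h3 : J.trace = 1 := by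
    rw [Matrix.trace, ← hcard, Fintype.card_eq_sum_ones, Nat.cast_sum]
    apply Finset.sum_congr rfl
    intro L _
    rw [Matrix.diag_apply, Nat.cast_one]
  rw [h2, h3] at h1
  exact zero_ne_one h1

end Tri

end Cfsg.Agent.H566.Pi.Tri
end

-- part: H566/Pi/TriC
section
/-!
# S4324, triality automorphisms of order three, part 3 (helper566)

The Siegel transformation attached to an absolute point.
-/

set_option autoImplicit false
set_option linter.unusedSectionVars false

namespace Cfsg.Agent.H566.Pi.Tri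

open QuadraticMap Cfsg.Agent.LieClassical.OrthCore Cfsg.Agent.LieClassical.OrthTrans
  Cfsg.Agent.LieClassical.OrthSimple Cfsg.Agent.ClassicalGeometry.OrthAut1
  Cfsg.Agent.ClassicalGeometry.OrthAut2 Cfsg.Agent.ClassicalGeometry.OrthAut2b
  Cfsg.Agent.ClassicalGeometry.OrthAut3 Cfsg.Agent.ClassicalGeometry.OrthAutCard
  Cfsg.Agent.LieClassical.QuadForms Cfsg.Agent.ClassicalGeometry.TrialityOct
  Cfsg.Agent.ClassicalGeometry.TrialitySpaces Cfsg.Agent.ClassicalGeometry.TrialityIndex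

section

variable {F V : Type*} [Field F] [AddCommGroup V] [Module F V] {Q : QuadraticForm F V}

/-- a Siegel transformation in the radical of a 4-space -/
theorem mem_of_sg_mem_UP [FiniteDimensional F V] (hG : Good Q) (h8 : Module.finrank F V = 8) {W : Submodule F V}
    (hW : TS Q W) (hW4 : Module.finrank F W = 4) {u w : V} (hu : Q u = 0) (hw : polar Q u w = 0) (hu0 : u ≠ 0)
    (huW : u ∈ W) (h : ((sg u w hu hw : ↥(E Q)) : P Q) ∈ UP Q W) : w ∈ W := by
  obtain ⟨g, hg, hgs⟩ := h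
  have h2 : g⁻¹ * sg u w hu hw ∈ Subgroup.center ↥(E Q) := QuotientGroup.eq.1 hgs
  obtain ⟨c, hc⟩ := center_scalar hG h2
  have hc' : ∀ v, ((sg u w hu hw : ↥(E Q)) : V ≃ₗ[F] V) v = c • (g : V ≃ₗ[F] V) v := by
    intro v
    have h3 : (g : V ≃ₗ[F] V).symm (((sg u w hu hw : ↥(E Q)) : V ≃ₗ[F] V) v) = c • v := hc v
    rw [LinearEquiv.symm_apply_eq, map_smul] at h3
    exact h3
  have hc1 : c = 1 := by
    have h3 := hc' u
    rw [hg.1 u huW, sg_apply, polar_self_of_sing hu, zero_smul, mul_zero, zero_smul, polar_comm, hw, zero_smul] at h3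
    have h4 : (1 - c) • u = 0 := by
      rw [sub_smul, one_smul, ← h3]; abel
    rcases smul_eq_zero.1 h4 with h5 | h5
    · exact (sub_eq_zero.1 h5).symm
    · exact absurd h5 hu0
  apply perp_of_four hG h8 hW hW4
  intro b hb
  have h3 := hc' b
  rw [hc1, one_smul, hg.1 b hb, sg_apply, hW.polar huW hb, zero_smul, mul_zero, zero_smul] at h3
  have h4 : polar Q w b • u = 0 := by
    have : polar Q w b • u = b - (b + 0 - polar Q w b • u - 0) := by abel
    rw [this, h3, sub_self]
  rw [polar_comm]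
  exact (smul_eq_zero.1 h4).resolve_right hu0

end

section Tri

variable {F : Type*} [Field F] [Finite F] {hG : Good (plusForm 4 F)} {α : MulAut (P (plusForm 4 F))}

/-- **The Siegel transformation of an absolute point.** -/
theorem IsTri.exists_sg (h : IsTri hG α) : ∃ (a : P (plusForm 4 F)) (u w : Fin 4 ⊕ Fin 4 → F)
    (hu : plusForm 4 F u = 0) (hw : polar (plusForm 4 F) u w = 0), u ≠ 0 ∧ plusForm 4 F w ≠ 0 ∧
      a * (α ^ 2) a⁻¹ = ((sg u w hu hw : ↥(E (plusForm 4 F))) : P (plusForm 4 F)) := by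
  obtain ⟨L, hLA⟩ := h.exists_abs
  have hLB := (h.dual L L).1 hLA
  have e1 := h.map_UP L
  have e2 := h.map_UP_sp L
  have e3 := h.map_UP_sq L
  have f2 := h.map_stab_sp L
  have hAts := h.sp_ts L
  have hA4 := h.sp_four L
  have hBts := h.sq.sp_ts L
  have hB4 := h.sq.sp_four L
  have hne := h.sp_ne L L
  generalize h.sp L = A at *
  generalize h.sq.sp L = B at *
  obtain ⟨L, u, hu0, hu, rfl⟩ := L
  simp only at hLA hLB e1 e3
  rw [Submodule.span_singleton_le_iff_mem] at hLA hLB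
  -- `UP A ≤ stab B`
  have hUAB : UP (plusForm 4 F) A ≤ stab hG B := by
    have h1 := Subgroup.map_mono (f := α.toMonoidHom) (UP_le_stab_of_mem hG hAts hu0 hLA)
    rwa [e1, f2] at h1
  have key : ∀ b ∈ B, b ∉ A → ∀ a ∈ A, polar (plusForm 4 F) a b = 0 → a ∈ B := by
    intro b hb hbA a ha hab
    obtain ⟨v, hvA, hv⟩ : ∃ v ∈ A, polar (plusForm 4 F) v b ≠ 0 := by
      by_contra hc
      push Not at hc
      exact hbA (perp_of_four hG finrank8 hAts hA4 hc)
    have hsg : ((sg v a (hAts v hvA) (hAts.polar hvA ha) : ↥(E (plusForm 4 F))) : P (plusForm 4 F)) ∈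
        UP (plusForm 4 F) A := ⟨_, sg_mem_U hAts hvA (fun z hz => hAts.polar ha hz) _ _, rfl⟩
    have h2 := apply_mem_of_mem_stab (hUAB hsg) hb
    rw [sg_apply, hab, hAts a ha, zero_smul, sub_zero, zero_mul, zero_smul, sub_zero] at h2
    have h3 : a = (polar (plusForm 4 F) v b)⁻¹ • ((b + polar (plusForm 4 F) v b • a) - b) := by
      rw [add_sub_cancel_left, smul_smul, inv_mul_cancel₀ hv, one_smul]
    rw [h3]
    exact B.smul_mem _ (B.sub_mem h2 hb)
  obtain ⟨w, hwA, hwB⟩ : ∃ w ∈ A, w ∉ B := by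
    by_contra hc
    push Not at hc
    exact hne (Submodule.eq_of_le_of_finrank_eq hc (by omega))
  have huw : polar (plusForm 4 F) u w = 0 := hAts.polar hLA hwA
  set! a : P (plusForm 4 F) := ((sg u w hu huw : ↥(E (plusForm 4 F))) : P (plusForm 4 F)) with ha
  have haL : a ∈ UP (plusForm 4 F) (Submodule.span F {u}) := (mem_UP_span_iff hG.nondeg hu hu0).2 ⟨w, huw, rfl⟩
  have haA : a ∈ UP (plusForm 4 F) A := ⟨_, sg_mem_U hAts hLA (fun z hz => hAts.polar hwA hz) _ _, rfl⟩
  have hsq : ∀ b, (α ^ 2) b = α (α b) := by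
    intro b
    rw [pow_two, MulAut.mul_apply]
  have h1 : (α ^ 2) a ∈ UP (plusForm 4 F) (Submodule.span F {u}) := by
    rw [hsq, ← e3]
    refine ⟨α a, ?_, rfl⟩
    rw [← e2]
    exact ⟨a, haA, rfl⟩
  have h2 : (α ^ 2) a ∈ UP (plusForm 4 F) B := by
    rw [hsq, ← e2]
    refine ⟨α a, ?_, rfl⟩
    rw [← e1]
    exact ⟨a, haL, rfl⟩
  obtain ⟨w', huw', hw'⟩ := (mem_UP_span_iff hG.nondeg hu hu0).1 h1
  have hw'B : w' ∈ B := by
    rw [hw'] at h2
    exact mem_of_sg_mem_UP hG finrank8 hBts hB4 hu huw' hu0 hLB h2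
  have hw'A : w' ∉ A := by
    intro hcon
    have h3 : (α ^ 2) a ∈ UP (plusForm 4 F) A := by
      rw [hw']
      exact ⟨_, sg_mem_U hAts hLA (fun z hz => hAts.polar hcon hz) _ _, rfl⟩
    have h4 : α ((α ^ 2) a) ∈ UP (plusForm 4 F) B := by
      rw [← e2]
      exact ⟨_, h3, rfl⟩
    have h5 : α ((α ^ 2) a) = a := by
      rw [← MulAut.mul_apply, ← pow_succ', h.cube, MulAut.one_apply]
    rw [h5] at h4
    exact hwB (mem_of_sg_mem_UP hG finrank8 hBts hB4 hu huw hu0 hLB h4)
  have hpol : polar (plusForm 4 F) w w' ≠ 0 := fun h0 => hwB (key w' hw'B hw'A w hwA h0)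
  have huww : polar (plusForm 4 F) u (w - w') = 0 := by rw [polar_sub_right, huw, huw', sub_zero]
  refine ⟨a, u, w - w', hu, huww, hu0, ?_, ?_⟩
  · rw [sub_eq_add_neg, Q_add, QuadraticMap.map_neg, polar_neg_right, hAts w hwA, hBts w' hw'B, zero_add, zero_add]
    exact neg_ne_zero.2 hpol
  · rw [map_inv, hw', mul_inv_eq_iff_eq_mul, ha, ← QuotientGroup.mk_mul]
    congr 1
    have h3 : polar (plusForm 4 F) u ((w - w') + w') = 0 := by rw [sub_add_cancel]; exact huw
    rw [sg_mul hu huww huw' h3]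
    exact sg_congr hu huw h3 (sub_add_cancel w w').symm

end Tri

end Cfsg.Agent.H566.Pi.Tri
end

private theorem dce_e434d16ca1b1 : _root_.True := by
  try have : _root_.True := by simp only [_root_.Cfsg.Agent.H566.Pi.Tri.IsTri.sp.congr_simp]
  try have : _root_.True := by simp only [_root_.Cfsg.Agent.ClassicalGeometry.OrthAut1.stab.congr_simp]
  exact _root_.True.intro
end

-- part: H551/Pi/Semi
section
set_option linter.all false
open scoped Cfsg.Agent.FastGrp

/-!
# S4324: semilinear maps of prime order modulo scalars fix a point (helper551)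

* `exists_nrm` : surjectivity of the norm of a cyclic extension of prime degree of finite fields;
* `exists_scale` : if `g ^ p` is a scalar and `φ ≠ 1`, then some `t • g` has order dividing `p`;
* `exists_eigen` : `g` fixes a point.
-/

set_option autoImplicit false
set_option linter.unusedSectionVars false

namespace Cfsg.Agent.H551.PiSp

open Cfsg.Agent.BpCl

universe u v

variable {F : Type u} {V : Type v} [Field F] [AddCommGroup V] [Module F V]

/-- the norm is surjective -/
theorem exists_nrm [Finite F] {p : ℕ} (hp : p.Prime) {φ : F ≃+* F} (hφ : ∀ a, φ^[p] a = a) (hφ1 : φ ≠ RingEquiv.refl F)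
    {a : F} (ha : a ≠ 0) (hφa : φ a = a) : ∃ t : F, t ≠ 0 ∧ nrm φ t p = a := by
  let σ : Fˣ →* Fˣ := Units.map (φ : F →* F)
  let f : Fˣ →* Fˣ :=
    { toFun := fun t => t * (σ t)⁻¹
      map_one' := by rw [map_one, inv_one, mul_one]
      map_mul' := fun x y => by rw [map_mul, mul_inv]; exact mul_mul_mul_comm _ _ _ _ }
  let nu : Fˣ →* Fˣ :=
    { toFun := fun t => Units.mk0 (nrm φ t p) (nrm_ne_zero t.ne_zero p)
      map_one' := Units.ext (nrm_one φ p)
      map_mul' := fun x y => Units.ext (nrm_mul φ x y p) }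
  have hker : ∀ t : Fˣ, t ∈ f.ker ↔ φ t = t := by
    intro t
    rw [MonoidHom.mem_ker]
    change t * (σ t)⁻¹ = 1 ↔ _
    rw [mul_inv_eq_one, Units.ext_iff]
    exact eq_comm
  have h1 : nu.range ≤ f.ker := by
    rintro _ ⟨t, rfl⟩
    rw [hker]
    change φ (nrm φ t p) = nrm φ t p
    have h2 := nrm_succ φ (t : F) p
    rw [nrm_succ', hφ, mul_comm] at h2
    exact mul_right_cancel₀ t.ne_zero h2
  have h2 : nu.ker ≤ f.range := by
    intro t ht
    have ht1 : nrm φ (t : F) p = 1 := congrArg Units.val (MonoidHom.mem_ker.1 ht)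
    have hs : Semi (V := F) φ φ.toEquiv := ⟨fun u v => map_add φ u v, fun a u => map_mul φ a u⟩
    have hs' := hs.smulPerm t.ne_zero
    have hpow : ∀ (n : ℕ) (v : F), (φ.toEquiv ^ n : Equiv.Perm F) v = φ^[n] v := by
      intro n
      induction n with
      | zero => intro v; rfl
      | succ n ih =>
        intro v
        rw [pow_succ, Equiv.Perm.mul_apply, ih, Function.iterate_succ_apply]
        rfl
    have hp1 : (smulPerm (t : F) t.ne_zero φ.toEquiv : Equiv.Perm F) ^ p = 1 := by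
      ext v
      rw [hs.smulPerm_pow t.ne_zero, ht1, one_smul, hpow, hφ]
      rfl
    obtain ⟨u, hu0, hu⟩ := Cfsg.Agent.H952.Rc.exists_fixed hp hs' hp1 hφ hφ1
    refine ⟨Units.mk0 u hu0, ?_⟩
    apply Units.ext
    change u * ((σ (Units.mk0 u hu0))⁻¹ : Fˣ) = (t : F)
    rw [Units.val_inv_eq_inv_val]
    change u * (φ u)⁻¹ = (t : F)
    have h3 : (t : F) * φ u = u := hu
    have h4 : φ u ≠ 0 := by simpa using hu0
    rw [← h3, mul_assoc, h3, mul_inv_cancel₀ h4, mul_one]
  have h3 := nu.ker.card_mul_index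
  have h4 := f.ker.card_mul_index
  rw [Subgroup.index_ker] at h3 h4
  have h5 : Nat.card nu.ker ≤ Nat.card f.range := Nat.card_le_card_of_injective _ (Subgroup.inclusion_injective h2)
  have h6 : Nat.card nu.range ≤ Nat.card f.ker := Nat.card_le_card_of_injective _ (Subgroup.inclusion_injective h1)
  have h7 : Nat.card f.ker ≤ Nat.card nu.range := by
    have h8 : 0 < Nat.card f.range := Nat.card_pos
    by_contra hlt
    push Not at hlt
    have h9 : Nat.card nu.ker * Nat.card nu.range < Nat.card f.range * Nat.card f.ker :=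
      lt_of_le_of_lt (Nat.mul_le_mul_right _ h5) (Nat.mul_lt_mul_of_pos_left hlt h8)
    rw [h3, mul_comm, h4] at h9
    exact lt_irrefl _ h9
  have h8 : nu.range = f.ker := Subgroup.eq_of_le_of_card_ge h1 h7
  obtain ⟨t, ht⟩ : Units.mk0 a ha ∈ nu.range := by
    rw [h8, hker]
    exact hφa
  exact ⟨t, t.ne_zero, congrArg Units.val ht⟩

variable {g : Equiv.Perm V} {φ : F ≃+* F}

theorem iter_eq [Nontrivial V] (hg : Semi φ g) {p : ℕ} {a : F} (ha : a ≠ 0) (hga : ∀ v, (g ^ p) v = a • v) (b : F) :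
    φ^[p] b = b := by
  obtain ⟨w, hw⟩ := exists_ne (0 : V)
  have h1 := hg.pow_smul p b w
  rw [hga, hga, smul_smul, smul_smul] at h1
  have h2 := smul_left_injective F hw h1
  rw [mul_comm] at h2
  exact (mul_right_cancel₀ ha h2).symm

theorem map_scalar [Nontrivial V] (hg : Semi φ g) {p : ℕ} {a : F} (hga : ∀ v, (g ^ p) v = a • v) :
    φ a = a := by
  obtain ⟨w, hw⟩ := exists_ne (0 : V)
  have hgw : g w ≠ 0 := by
    intro h
    apply hw
    apply g.injective
    rw [h, hg.zero]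
  have h1 : g ((g ^ p) w) = (g ^ p) (g w) := by
    rw [← Equiv.Perm.mul_apply, ← Equiv.Perm.mul_apply, ← pow_succ', ← pow_succ]
  rw [hga, hga, hg.smul] at h1
  exact smul_left_injective F hgw h1

theorem exists_scale [Finite F] [Nontrivial V] (hg : Semi φ g) {p : ℕ} (hp : p.Prime) {a : F} (ha : a ≠ 0)
    (hga : ∀ v, (g ^ p) v = a • v) (hφ1 : φ ≠ RingEquiv.refl F) :
    ∃ (t : F) (ht : t ≠ 0), (smulPerm t ht g) ^ p = 1 := by
  have h1 := map_scalar hg hga
  obtain ⟨t, ht, htn⟩ := exists_nrm hp (iter_eq hg ha hga) hφ1 (inv_ne_zero ha) (by rw [map_inv₀, h1])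
  refine ⟨t, ht, ?_⟩
  ext v
  rw [hg.smulPerm_pow ht, htn, hga, smul_smul, inv_mul_cancel₀ ha, one_smul]
  rfl

/-- a semilinear map of prime order modulo scalars fixes a point -/
theorem exists_eigen [Finite F] [Nontrivial V] (hg : Semi φ g) {p : ℕ} (hp : p.Prime) {a : F} (ha : a ≠ 0)
    (hga : ∀ v, (g ^ p) v = a • v) (hφ1 : φ ≠ RingEquiv.refl F) : ∃ (v : V) (b : F), v ≠ 0 ∧ g v = b • v := by
  obtain ⟨t, ht, htp⟩ := exists_scale hg hp ha hga hφ1
  obtain ⟨u, hu0, hu⟩ := Cfsg.Agent.H952.Rc.exists_fixed hp (hg.smulPerm ht) htp (iter_eq hg ha hga) hφ1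
  refine ⟨u, t⁻¹, hu0, ?_⟩
  have h1 : t • g u = u := hu
  rw [eq_inv_smul_iff₀ ht, h1]

end Cfsg.Agent.H551.PiSp
end

-- part: H551/Pi/SpInner
section
prune_inst 0x42430400149401200001c0014a22000a1580001000003000008a10d020908a0424d82864018b02401500200c040000040000000200040000004200400000401000081100400000000400008000000000000000000000000000000000000000000000000000
set_option linter.all false
open scoped Cfsg.Agent.FastGrp

-- part: H551/Pi/GeoSp
section
/-!
# S4324, symplectic groups: geometry of one semisimilitude (helper551)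

`g` a semisimilitude of the nondegenerate alternating space `V`. `Facts B g e` : the consequences of the section lemma
(`g` is scalar on the large invariant sections). `scalar_of_eigen` : if `g` fixes a point, then `g` is scalar.
-/

set_option autoImplicit false
set_option linter.unusedSectionVars false

namespace Cfsg.Agent.H551.PiSp

open Module Submodule
open Cfsg.Agent.H952.Alt (Nd TI)
open Cfsg.Agent.BpCl (Semi SemiIso)

universe u v

variable {F : Type u} {V : Type v} [Field F] [AddCommGroup V] [Module F V]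

/-- the section facts -/
structure Facts (B : LinearMap.BilinForm F V) (g : Equiv.Perm V) (e : ℕ) : Prop where
  pt : ∀ v : V, v ≠ 0 → (∃ a : F, g v = a • v) →
    ∃ b : F, ∀ w, B v w = 0 → ∃ k : F, g w = b • w + k • v
  iso : ∀ W : Submodule F V, TI B W → (∀ v, g v ∈ W ↔ v ∈ W) → 2 * e ≤ finrank F W →
    ∃ b : F, ∀ w ∈ W, g w = b • w
  nd : ∀ W : Submodule F V, Nd B W → W ≠ ⊤ → (∀ v, g v ∈ W ↔ v ∈ W) → 2 * e ≤ finrank F W →
    ∃ b : F, ∀ w ∈ W, g w = b • w

section Dual

variable {B : LinearMap.BilinForm F V} [FiniteDimensional F V]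

theorem nondeg_of (hA : B.IsAlt) (hnd : ∀ u, (∀ v, B u v = 0) → u = 0) : B.Nondegenerate := by
  refine ⟨fun u hu => hnd u hu, fun u hu => hnd u fun v => ?_⟩
  have h1 := hu v
  rw [← hA.neg_eq, h1, neg_zero]

/-- functionals are given by the form -/
theorem exists_rep (hA : B.IsAlt) (hnd : ∀ u, (∀ v, B u v = 0) → u = 0) (f : V →ₗ[F] F) :
    ∃ w, ∀ u, B u w = f u := by
  have hB := nondeg_of hA hnd
  obtain ⟨w, hw⟩ := (B.toDual hB).surjective f
  refine ⟨-w, fun u => ?_⟩
  rw [map_neg, hA.neg_eq u w, ← hw, LinearMap.BilinForm.toDual_def]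

/-- a dual family -/
theorem exists_dual_fam (hA : B.IsAlt) (hnd : ∀ u, (∀ v, B u v = 0) → u = 0) {ι : Type*} [DecidableEq ι]
    {E : Submodule F V} (b : Basis ι F E) : ∃ w : ι → V, ∀ i j, B (b i) (w j) = if i = j then 1 else 0 := by
  have h1 : ∀ j, ∃ w, ∀ i, B (b i) w = if i = j then 1 else 0 := by
    intro j
    obtain ⟨f, hf⟩ := LinearMap.exists_extend (b.coord j)
    obtain ⟨w, hw⟩ := exists_rep hA hnd f
    refine ⟨w, fun i => ?_⟩
    rw [hw]
    have h2 : f (b i : V) = b.coord j (b i) := by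
      rw [← hf]; rfl
    rw [h2, Basis.coord_apply, Basis.repr_self, Finsupp.single_apply]
  choose w hw using h1
  exact ⟨w, fun i j => hw j i⟩

end Dual

section Eigen

variable [Finite F] [FiniteDimensional F V] {B : LinearMap.BilinForm F V} {g : Equiv.Perm V} {φ : F ≃+* F} {c : F}

omit [Finite F] in
theorem finrank_span_one (v : V) : finrank F (span F {v}) ≤ 1 := by
  have := finrank_span_le_card (R := F) ({v} : Set V)
  simpa using this

omit [Finite F] in
theorem exists_not_mem {U : Submodule F V} (h : 2 ≤ finrank F U) (v : V) : ∃ w ∈ U, w ∉ span F {v} := by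
  by_contra hcon
  push Not at hcon
  have h2 := Submodule.finrank_mono (show U ≤ span F {v} from hcon)
  have h3 := finrank_span_one (F := F) v
  omega

omit [Finite F] in
theorem le_finrank_ker (f : V →ₗ[F] F) : finrank F V ≤ finrank F (LinearMap.ker f) + 1 := by
  have h4 := LinearMap.finrank_range_add_finrank_ker f
  have h5 : finrank F (LinearMap.range f) ≤ 1 := by
    have := Submodule.finrank_le (LinearMap.range f)
    rwa [finrank_self] at this
  omega

omit [Finite F] in
theorem le_finrank_inf_ker (f : V →ₗ[F] F) (E : Submodule F V) :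
    finrank F E ≤ finrank F (E ⊓ LinearMap.ker f : Submodule F V) + 1 := by
  have h1 := Submodule.finrank_sup_add_finrank_inf_eq E (LinearMap.ker f)
  have h2 := le_finrank_ker f
  have h3 := Submodule.finrank_le (E ⊔ LinearMap.ker f)
  omega

omit [Finite F] [FiniteDimensional F V] in
theorem coef_eq {w v : V} (hw : w ∉ span F {v}) {x y k l : F} (h : x • w + k • v = y • w + l • v) : x = y := by
  by_contra hne
  apply hw
  rw [mem_span_singleton]
  refine ⟨(x - y)⁻¹ * (l - k), ?_⟩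
  have h1 : (x - y) • w = (l - k) • v := by
    rw [sub_smul, sub_smul, sub_eq_sub_iff_add_eq_add, h]
    abel
  rw [mul_smul, ← h1, smul_smul, inv_mul_cancel₀ (sub_ne_zero.2 hne), one_smul]

/-- `g` is linear -/
theorem linear_of_pt (hg : Semi φ g) (hd : 3 ≤ finrank F V) {v : V}
    {b : F} (hb : ∀ w, B v w = 0 → ∃ k : F, g w = b • w + k • v) {a : F} (hv : v ≠ 0) (ha : g v = a • v) :
    ∀ x, φ x = x := by
  obtain ⟨w, hw, hwv⟩ := exists_not_mem (U := LinearMap.ker (B v)) (by have := le_finrank_ker (B v); omega) v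
  rw [LinearMap.mem_ker] at hw
  have ha0 : a ≠ 0 := by
    rintro rfl
    apply hv
    apply g.injective
    rw [ha, zero_smul, hg.zero]
  obtain ⟨k, hk⟩ := hb w hw
  have hb0 : b ≠ 0 := by
    rintro rfl
    rw [zero_smul, zero_add] at hk
    apply hwv
    rw [mem_span_singleton]
    refine ⟨φ.symm (k * a⁻¹), g.injective ?_⟩
    rw [hg.smul, φ.apply_symm_apply, ha, hk, smul_smul, mul_assoc, inv_mul_cancel₀ ha0, mul_one]
  intro x
  obtain ⟨l, hl⟩ := hb (x • w) (by rw [map_smul, hw, smul_zero])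
  rw [hg.smul, hk, smul_add, smul_smul, smul_smul, smul_smul] at hl
  have h1 := coef_eq hwv hl
  rw [mul_comm b x] at h1
  exact mul_right_cancel₀ hb0 h1

/-- `g` fixes a point, `dim V ≥ 6` -/
theorem scalar_of_eigen_six (hA : B.IsAlt) (hnd : ∀ u, (∀ v, B u v = 0) → u = 0)
    (hg : Semi φ g)
    (hpt : ∀ v : V, v ≠ 0 → (∃ a : F, g v = a • v) → ∃ b : F, ∀ w, B v w = 0 → ∃ k : F, g w = b • w + k • v)
    (hd : 6 ≤ finrank F V) {v : V} (hv : v ≠ 0) {a : F} (ha : g v = a • v) : ∃ b : F, ∀ w, g w = b • w := by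
  classical
  obtain ⟨b, hb⟩ := hpt v hv ⟨a, ha⟩
  have hφ := linear_of_pt hg (by omega) hb hv ha
  let G : V →ₗ[F] V :=
    { toFun := g
      map_add' := hg.add
      map_smul' := fun x w => by rw [hg.smul, hφ]; rfl }
  have hG : ∀ w, G w = g w := fun _ => rfl
  let E : Submodule F V := LinearMap.ker (G - b • LinearMap.id)
  have hE : ∀ w, w ∈ E ↔ g w = b • w := by
    intro w
    rw [LinearMap.mem_ker, LinearMap.sub_apply, hG, LinearMap.smul_apply, LinearMap.id_apply, sub_eq_zero]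
  -- dimension of `E`
  have hE4 : 4 ≤ finrank F E := by
    let P : Submodule F V := LinearMap.ker (B v)
    let T : P →ₗ[F] V := (G - b • LinearMap.id).domRestrict P
    have h1 : LinearMap.range T ≤ span F {v} := by
      rintro _ ⟨w, rfl⟩
      obtain ⟨k, hk⟩ := hb w (LinearMap.mem_ker.1 w.2)
      rw [mem_span_singleton]
      refine ⟨k, ?_⟩
      change k • v = G w - b • (w : V)
      rw [hG, hk]
      abel
    have h2 := Submodule.finrank_mono h1
    have h3 := finrank_span_one (F := F) v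
    have h4 := LinearMap.finrank_range_add_finrank_ker T
    have h5 := le_finrank_ker (B v)
    have h6 : (LinearMap.ker T).map P.subtype ≤ E := by
      rintro _ ⟨w, hw, rfl⟩
      exact hw
    have h7 := Submodule.finrank_mono h6
    rw [Submodule.finrank_map_subtype_eq] at h7
    have h8 : finrank F V ≤ finrank F P + 1 := h5
    omega
  have hu : ∀ u ∈ E, u ≠ 0 → ∀ w, B u w = 0 → ∃ k : F, g w = b • w + k • u := by
    intro u hu hu0
    obtain ⟨b', hb'⟩ := hpt u hu0 ⟨b, (hE u).1 hu⟩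
    obtain ⟨w, hw, hwu⟩ := exists_not_mem (U := E ⊓ LinearMap.ker (B u))
      (by have := le_finrank_inf_ker (B u) E; omega) u
    obtain ⟨k, hk⟩ := hb' w (LinearMap.mem_ker.1 hw.2)
    have h1 : b = b' := coef_eq hwu (k := 0) (l := k) (by rw [zero_smul, add_zero, ← hk, (hE w).1 hw.1])
    subst h1
    exact hb'
  have hpair : ∀ u1 ∈ E, ∀ u2 ∈ E, u1 ∉ span F {u2} → u2 ≠ 0 → ∀ w, B u1 w = 0 → B u2 w = 0 → w ∈ E := by
    intro u1 h1 u2 h2 h12 h20 w hw1 hw2
    have h10 : u1 ≠ 0 := by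
      rintro rfl
      exact h12 (Submodule.zero_mem _)
    obtain ⟨k, hk⟩ := hu u1 h1 h10 w hw1
    obtain ⟨l, hl⟩ := hu u2 h2 h20 w hw2
    rw [hE]
    have h3 : k • u1 = l • u2 := by
      rw [hk] at hl
      exact add_left_cancel hl
    have h4 : k = 0 := by
      have h5 : k • u1 + (0 : F) • u2 = (0 : F) • u1 + l • u2 := by
        rw [zero_smul, zero_smul, zero_add, add_zero, h3]
      exact coef_eq h12 h5
    rw [hk, h4, zero_smul, add_zero]
  let bs := Module.finBasis F E
  obtain ⟨w, hw⟩ := exists_dual_fam hA hnd bs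
  have hni : ∀ i j, i ≠ j → (bs i : V) ∉ span F {(bs j : V)} := by
    intro i j hij h
    rw [mem_span_singleton] at h
    obtain ⟨k, hk⟩ := h
    have h1 := hw i i
    rw [if_pos rfl, ← hk, map_smul, LinearMap.smul_apply, hw, if_neg (Ne.symm hij), smul_zero] at h1
    exact zero_ne_one h1
  have hn0 : ∀ i, (bs i : V) ≠ 0 := by
    intro i h
    have h1 := hw i i
    rw [h, map_zero, LinearMap.zero_apply, if_pos rfl] at h1
    exact zero_ne_one h1
  let i0 : Fin (finrank F E) := ⟨0, by omega⟩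
  let i1 : Fin (finrank F E) := ⟨1, by omega⟩
  let i2 : Fin (finrank F E) := ⟨2, by omega⟩
  have h01 : i0 ≠ i1 := by simp [i0, i1]
  have h02 : i0 ≠ i2 := by simp [i0, i2]
  have h12 : i1 ≠ i2 := by simp [i1, i2]
  have hw0 : w i0 ∈ E := hpair _ (bs i1).2 _ (bs i2).2 (hni _ _ h12) (hn0 _) _
    (by rw [hw, if_neg h01.symm]) (by rw [hw, if_neg h02.symm])
  have hw1 : w i1 ∈ E := hpair _ (bs i0).2 _ (bs i2).2 (hni _ _ h02) (hn0 _) _
    (by rw [hw, if_neg h01]) (by rw [hw, if_neg h12.symm])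
  refine ⟨b, fun z => ?_⟩
  rw [← hE]
  have h1 : z - B (bs i0) z • w i0 - B (bs i1) z • w i1 ∈ E := by
    refine hpair _ (bs i0).2 _ (bs i1).2 (hni _ _ h01) (hn0 _) _ ?_ ?_
    · rw [map_sub, map_sub, map_smul, map_smul, hw, hw, if_pos rfl, if_neg h01, smul_eq_mul, smul_eq_mul]
      ring
    · rw [map_sub, map_sub, map_smul, map_smul, hw, hw, if_pos rfl, if_neg h01.symm, smul_eq_mul, smul_eq_mul]
      ring
  have h2 : z = (z - B (bs i0) z • w i0 - B (bs i1) z • w i1) + B (bs i0) z • w i0 + B (bs i1) z • w i1 := by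
    abel
  rw [h2]
  exact E.add_mem (E.add_mem h1 (E.smul_mem _ hw0)) (E.smul_mem _ hw1)

/-- `g` fixes a point, the invariant totally isotropic planes are centralised -/
theorem scalar_of_eigen_four (hA : B.IsAlt) (hnd : ∀ u, (∀ v, B u v = 0) → u = 0)
    (hg : Semi φ g)
    (hpt : ∀ v : V, v ≠ 0 → (∃ a : F, g v = a • v) → ∃ b : F, ∀ w, B v w = 0 → ∃ k : F, g w = b • w + k • v)
    (hiso : ∀ W : Submodule F V, TI B W → (∀ v, g v ∈ W ↔ v ∈ W) → finrank F W = 2 → ∃ b : F, ∀ w ∈ W, g w = b • w)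
    (hd : 4 ≤ finrank F V) {v : V} (hv : v ≠ 0) {a : F} (ha : g v = a • v) : ∃ b : F, ∀ w, g w = b • w := by
  classical
  have hVf : Finite V := Module.finite_of_finite F
  obtain ⟨b, hb⟩ := hpt v hv ⟨a, ha⟩
  have hφ := linear_of_pt hg (by omega) hb hv ha
  -- the orthogonal complement of an eigenvector
  have key : ∀ v : V, v ≠ 0 → g v = a • v → ∀ w, B v w = 0 → g w = a • w := by
    intro v hv ha w hw
    obtain ⟨b, hb⟩ := hpt v hv ⟨a, ha⟩
    by_cases hwv : w ∈ span F {v}
    · obtain ⟨k, rfl⟩ := mem_span_singleton.1 hwv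
      rw [hg.smul, hφ, ha, smul_comm]
    obtain ⟨k, hk⟩ := hb w hw
    have hW : ∀ u ∈ span F {v, w}, g u ∈ span F {v, w} := by
      intro u hu
      obtain ⟨x, y, rfl⟩ := mem_span_pair.1 hu
      rw [hg.add, hg.smul, hg.smul, ha, hk, hφ, hφ]
      rw [mem_span_pair]
      exact ⟨x * a + y * k, y * b, by module⟩
    have hTI : TI B (span F {v, w}) := by
      intro u hu u' hu'
      obtain ⟨x, y, rfl⟩ := mem_span_pair.1 hu
      obtain ⟨x', y', rfl⟩ := mem_span_pair.1 hu'
      simp only [map_add, map_smul, LinearMap.add_apply, LinearMap.smul_apply, smul_eq_mul, hA.self_eq_zero, mul_zero,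
        hw, Cfsg.Agent.H952.Alt.eq_zero_swap hA hw, add_zero]
    have h2 : finrank F (span F {v, w} : Submodule F V) = 2 := by
      have hli : LinearIndependent F ![v, w] := by
        rw [LinearIndependent.pair_iff' hv]
        intro x hx
        exact hwv (mem_span_singleton.2 ⟨x, hx⟩)
      have := finrank_span_eq_card hli
      rw [Matrix.range_cons, Matrix.range_cons, Matrix.range_empty, Set.union_empty, Set.singleton_union,
        Fintype.card_fin] at this
      exact this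
    obtain ⟨β, hβ⟩ := hiso _ hTI (Cfsg.Agent.H952.Rc.inv_iff hW) h2
    have h3 := hβ v (subset_span (by simp))
    rw [ha] at h3
    have h4 : a = β := smul_left_injective F hv h3
    rw [h4]
    exact hβ w (subset_span (by simp))
  obtain ⟨w, hw, hwv⟩ := exists_not_mem (U := LinearMap.ker (B v)) (by have := le_finrank_ker (B v); omega) v
  rw [LinearMap.mem_ker] at hw
  have hw0 : w ≠ 0 := by
    rintro rfl
    exact hwv (Submodule.zero_mem _)
  have haw := key v hv ha w hw
  -- a vector orthogonal to `w` and not to `v`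
  obtain ⟨u, hu1, hu2⟩ : ∃ u, B w u = 0 ∧ B v u ≠ 0 := by
    by_contra hcon
    push Not at hcon
    obtain ⟨k, hk⟩ := Cfsg.Agent.H952.Alt.exists_sep hA (W := ⊤) (u := v) (y := w)
      (fun u _ h0 => by
        by_contra hcon
        push Not at hcon
        exact h0 (hnd u fun z => hcon z mem_top)) mem_top mem_top (fun z _ hz => hcon z hz)
    apply hwv
    have hk0 : k ≠ 0 := by
      rintro rfl
      rw [zero_smul] at hk
      exact hv hk
    rw [mem_span_singleton]
    exact ⟨k⁻¹, by rw [hk, smul_smul, inv_mul_cancel₀ hk0, one_smul]⟩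
  refine ⟨a, fun z => ?_⟩
  have h1 : z = (z - (B v z / B v u) • u) + (B v z / B v u) • u := by abel
  have h2 : g (z - (B v z / B v u) • u) = a • (z - (B v z / B v u) • u) := by
    apply key v hv ha
    rw [map_sub, map_smul, smul_eq_mul, div_mul_cancel₀ _ hu2, sub_self]
  have h3 : g ((B v z / B v u) • u) = a • ((B v z / B v u) • u) := by
    apply key w hw0 haw
    rw [map_smul, hu1, smul_zero]
  rw [h1, hg.add, h2, h3, smul_add]

/-- **`g` fixes a point.** -/
theorem scalar_of_eigen (hA : B.IsAlt) (hnd : ∀ u, (∀ v, B u v = 0) → u = 0) (hg : Semi φ g) {e : ℕ}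
    (hF : Facts B g e) (he : 1 ≤ e) {m : ℕ} (hm : 2 ≤ m) (hd : finrank F V = 2 * m) (hme : 2 * e ≤ m) {v : V} (hv : v ≠ 0) {a : F}
    (ha : g v = a • v) : ∃ b : F, ∀ w, g w = b • w := by
  by_cases h : 3 ≤ m
  · exact scalar_of_eigen_six hA hnd hg hF.pt (by omega) hv ha
  · exact scalar_of_eigen_four hA hnd hg hF.pt (fun W h1 h2 h3 => hF.iso W h1 h2 (by omega)) (by omega) hv ha

end Eigen

end Cfsg.Agent.H551.PiSp
end

-- part: H551/Pi/GeoIrr
section
/-!
# S4324, symplectic groups: the semisimilitude is irreducible (helper551)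
-/

set_option autoImplicit false
set_option linter.unusedSectionVars false

namespace Cfsg.Agent.H551.PiSp

open Module Submodule
open Cfsg.Agent.H952.Alt (Nd TI)
open Cfsg.Agent.BpCl (Semi SemiIso)

universe u v

variable {F : Type u} {V : Type v} [Field F] [AddCommGroup V] [Module F V]

/-- the linear map -/
def toLin (g : Equiv.Perm V) {φ : F ≃+* F} (hg : Semi φ g) (hφ : ∀ x, φ x = x) : V →ₗ[F] V where
  toFun := g
  map_add' := hg.add
  map_smul' x w := by rw [hg.smul, hφ]; rfl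

theorem toLin_pow {g : Equiv.Perm V} {φ : F ≃+* F} (hg : Semi φ g) (hφ : ∀ x, φ x = x) (n : ℕ) (v : V) :
    (toLin g hg hφ ^ n) v = (g ^ n) v := by
  induction n generalizing v with
  | zero => rfl
  | succ n ih => rw [pow_succ, pow_succ, Module.End.mul_apply, ih]; rfl

/-- an element of order `p` modulo scalars in characteristic `p` has an eigenvector -/
theorem exists_eigen_char [Finite F] [Nontrivial V] {p : ℕ} (hp : p.Prime) [CharP F p] {G : V →ₗ[F] V} {a : F}
    (hG : ∀ v, (G ^ p) v = a • v) : ∃ (v : V) (b : F), v ≠ 0 ∧ G v = b • v := by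
  have : Fact p.Prime := ⟨hp⟩
  have : PerfectRing F p := PerfectRing.ofFiniteOfIsReduced p F
  obtain ⟨b, hb⟩ := surjective_frobenius F p a
  rw [frobenius_def] at hb
  have hch : CharP (Module.End F V) p := charP_of_injective_algebraMap (algebraMap F (Module.End F V)).injective p
  have h1 : (G - algebraMap F (Module.End F V) b) ^ p = 0 := by
    rw [sub_pow_char_of_commute p (Algebra.commutes b G).symm, ← map_pow, hb, sub_eq_zero]
    ext v
    rw [hG, Module.algebraMap_end_apply]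
  by_contra hcon
  push Not at hcon
  have h2 : Function.Injective (G - algebraMap F (Module.End F V) b) := by
    rw [injective_iff_map_eq_zero]
    intro v hv
    by_contra h0
    apply hcon v b h0
    rw [LinearMap.sub_apply, Module.algebraMap_end_apply, sub_eq_zero] at hv
    exact hv
  have h3 : ∀ n : ℕ, Function.Injective ⇑((G - algebraMap F (Module.End F V) b) ^ n) := by
    intro n
    induction n with
    | zero => exact fun _ _ h => h
    | succ n ih =>
      rw [pow_succ]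
      exact ih.comp h2
  have h4 := h3 p
  rw [h1] at h4
  obtain ⟨v, hv⟩ := exists_ne (0 : V)
  exact hv (h4 rfl)

theorem nd_or_bot {B : LinearMap.BilinForm F V} (hA : B.IsAlt) {W : Submodule F V}
    (h : W ⊓ B.orthogonal W = ⊥) : Nd B W :=
  Cfsg.Agent.H952.Alt.Nd.of_disjoint hA (disjoint_iff.2 h)

section Main

variable [Finite F] [FiniteDimensional F V] {B : LinearMap.BilinForm F V} {g : Equiv.Perm V} {φ : F ≃+* F} {c : F}

/-- **the similitude is irreducible** -/
theorem irr_of_facts (hA : B.IsAlt) (hnd : ∀ u, (∀ v, B u v = 0) → u = 0)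
    (hg : SemiIso (fun u v => B u v) φ c g) (hc : c ≠ 0) {e : ℕ} (hF : Facts B g e) (he : 1 ≤ e) {m : ℕ} (hm : 2 ≤ m)
    (hd : finrank F V = 2 * m) (hme : 2 * e ≤ m) {p t : ℕ} [CharP F t] (hp : p.Prime) {a : F} (ha : a ≠ 0)
    (hga : ∀ v, (g ^ p) v = a • v) (hns : ¬ ∃ b : F, ∀ w, g w = b • w) :
    (∀ x, φ x = x) ∧ p ≠ t ∧ (∀ (v : V) (b : F), v ≠ 0 → g v ≠ b • v) ∧
      ∀ W : Submodule F V, (∀ v ∈ W, g v ∈ W) → W = ⊥ ∨ W = ⊤ := by
  have hVf : Finite V := Module.finite_of_finite F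
  have hVn : Nontrivial V := Module.nontrivial_of_finrank_pos (R := F) (by omega)
  have hne : ∀ (v : V) (b : F), v ≠ 0 → g v ≠ b • v := fun v b hv h =>
    hns (scalar_of_eigen hA hnd hg.toSemi hF he hm hd hme hv h)
  have hφ : ∀ x, φ x = x := by
    by_contra hcon
    obtain ⟨v, b, hv, h⟩ := exists_eigen hg.toSemi hp ha hga (fun h => hcon fun x => by rw [h]; rfl)
    exact hne v b hv h
  have hG := toLin_pow hg.toSemi hφ
  have hGa : ∀ v, (toLin g hg.toSemi hφ ^ p) v = a • v := fun v => by rw [hG, hga]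
  have hpt : p ≠ t := by
    rintro rfl
    obtain ⟨v, b, hv, h⟩ := exists_eigen_char hp hGa
    exact hne v b hv h
  refine ⟨hφ, hpt, hne, ?_⟩
  -- semisimplicity
  have hss : Module.End.IsSemisimple (toLin g hg.toSemi hφ) := by
    have hsep : (Polynomial.X ^ p - Polynomial.C a).Separable := by
      apply Polynomial.separable_X_pow_sub_C a _ ha
      intro h0
      have h1 : t ∣ p := (CharP.cast_eq_zero_iff F t p).1 h0
      rcases (Nat.dvd_prime hp).1 h1 with h2 | h2
      · subst h2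
        exact CharP.char_ne_one F 1 rfl
      · exact hpt h2.symm
    refine Module.End.isSemisimple_of_squarefree_aeval_eq_zero hsep.squarefree ?_
    rw [map_sub, map_pow, Polynomial.aeval_X, Polynomial.aeval_C, sub_eq_zero]
    ext v
    rw [hGa, Module.algebraMap_end_apply]
  rw [Module.End.isSemisimple_iff] at hss
  -- invariant nondegenerate subspaces
  have hio : ∀ {W : Submodule F V}, (∀ v, g v ∈ W ↔ v ∈ W) → ∀ v, g v ∈ B.orthogonal W ↔ v ∈ B.orthogonal W := by
    intro W hW v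
    rw [LinearMap.BilinForm.mem_orthogonal_iff, LinearMap.BilinForm.mem_orthogonal_iff]
    constructor
    · intro h n hn
      have h1 : B (g n) (g v) = 0 := h (g n) ((hW n).2 hn)
      have h2 := hg.form n v
      rw [h1] at h2
      have h3 := (mul_eq_zero.1 h2.symm).resolve_left hc
      rwa [map_eq_zero_iff φ φ.injective] at h3
    · intro h n hn
      obtain ⟨k, rfl⟩ := g.surjective n
      have h1 : B k v = 0 := h k ((hW k).1 hn)
      have h2 := hg.form k v
      rw [h1, map_zero, mul_zero] at h2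
      exact h2
  have hbig : ∀ W : Submodule F V, (∀ v, g v ∈ W ↔ v ∈ W) → Nd B W → W ≠ ⊤ → ¬ 2 * e ≤ finrank F W := by
    intro W hW hN hT hW2
    obtain ⟨b, hb⟩ := hF.nd W hN hT hW hW2
    have hWn : Nontrivial W := Module.nontrivial_of_finrank_pos (R := F) (by omega)
    obtain ⟨w, hw⟩ := exists_ne (0 : W)
    exact hne w b (fun h => hw (Subtype.ext h)) (hb w w.2)
  have hBn := nondeg_of hA hnd
  have hNd : ∀ W : Submodule F V, (∀ v, g v ∈ W ↔ v ∈ W) → Nd B W → W = ⊥ ∨ W = ⊤ := by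
    intro W hW hN
    by_contra hcon
    push Not at hcon
    have h1 := hbig W hW hN hcon.2
    have h2 := LinearMap.BilinForm.finrank_orthogonal hBn W
    have h3 : Nd B (B.orthogonal W) := by
      apply nd_or_bot hA
      rw [LinearMap.BilinForm.orthogonal_orthogonal hBn hA.isRefl, inf_comm]
      exact (hN.disjoint hA).eq_bot
    have h4 : B.orthogonal W ≠ ⊤ := by
      intro h
      rw [h, finrank_top] at h2
      have h5 := Submodule.finrank_le W
      apply hcon.1
      rw [← Submodule.finrank_eq_zero (R := F)]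
      omega
    have h5 := hbig (B.orthogonal W) (hio hW) h3 h4
    omega
  intro W hW
  have hWi := Cfsg.Agent.H952.Rc.inv_iff hW
  by_cases h0 : W ⊓ B.orthogonal W = ⊥
  · exact hNd W hWi (nd_or_bot hA h0)
  exfalso
  -- the radical
  set R : Submodule F V := W ⊓ B.orthogonal W with hR
  have hRi : ∀ v, g v ∈ R ↔ v ∈ R := fun v => and_congr (hWi v) (hio hWi v)
  have hRTI : TI B R := by
    intro u hu v hv
    exact (LinearMap.BilinForm.mem_orthogonal_iff.1 hv.2) u hu.1
  obtain ⟨C, hC, hRC⟩ := hss (B.orthogonal R) (by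
    intro v hv
    exact (hio hRi v).2 hv)
  have hCi : ∀ v, g v ∈ C ↔ v ∈ C := Cfsg.Agent.H952.Rc.inv_iff (fun v hv => hC hv)
  have hSi : ∀ v, g v ∈ R ⊔ C ↔ v ∈ R ⊔ C := by
    apply Cfsg.Agent.H952.Rc.inv_iff
    intro v hv
    obtain ⟨x, hx, y, hy, rfl⟩ := Submodule.mem_sup.1 hv
    rw [hg.add]
    exact Submodule.add_mem_sup ((hRi x).2 hx) ((hCi y).2 hy)
  have hSN : Nd B (R ⊔ C) := by
    intro v hv hv0
    obtain ⟨x, hx, y, hy, rfl⟩ := Submodule.mem_sup.1 hv
    by_contra hcon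
    push Not at hcon
    apply hv0
    have h1 : y ∈ B.orthogonal R := by
      rw [Cfsg.Agent.H952.Alt.mem_orth hA]
      intro u hu
      have h2 := hcon u (Submodule.mem_sup_left hu)
      rwa [map_add, LinearMap.add_apply, hRTI x hx u hu, zero_add] at h2
    have hy0 : y = 0 := (Submodule.disjoint_def.1 hRC.disjoint) y h1 hy
    rw [hy0, add_zero]
    apply hnd
    intro z
    obtain ⟨s, hs, r, hr, rfl⟩ := Submodule.mem_sup.1
      (show z ∈ B.orthogonal R ⊔ C by rw [hRC.sup_eq_top]; exact mem_top)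
    have h3 := hcon r (Submodule.mem_sup_right hr)
    rw [hy0, add_zero] at h3
    rw [map_add, h3, add_zero]
    exact (LinearMap.BilinForm.mem_orthogonal_iff.1 hs) x hx
  have hdim : finrank F C = finrank F R := by
    have h1 := Submodule.finrank_add_eq_of_isCompl hRC
    have h2 := LinearMap.BilinForm.finrank_orthogonal hBn R
    have h3 := Submodule.finrank_le R
    omega
  rcases hNd _ hSi hSN with h1 | h1
  · apply h0
    rw [eq_bot_iff, ← h1]
    exact le_sup_left
  · have h2 := Submodule.finrank_sup_add_finrank_inf_eq R C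
    rw [h1, finrank_top] at h2
    have h3 : R ⊓ C = ⊥ := by
      rw [eq_bot_iff]
      intro v hv
      rw [Submodule.mem_bot]
      refine (Submodule.disjoint_def.1 hRC.disjoint) v ?_ hv.2
      rw [LinearMap.BilinForm.mem_orthogonal_iff]
      intro u hu
      exact hRTI u hu v hv.1
    rw [h3, finrank_bot] at h2
    obtain ⟨b, hb⟩ := hF.iso R hRTI hRi (by omega)
    have hRn : Nontrivial R := Module.nontrivial_of_finrank_pos (R := F) (by omega)
    obtain ⟨w, hw⟩ := exists_ne (0 : R)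
    exact hne w b (fun h => hw (Subtype.ext h)) (hb w w.2)

end Main

end Cfsg.Agent.H551.PiSp
end

-- part: H551/Pi/SpInner
section
/-!
# S4324, symplectic groups: irreducible similitudes (helper551)

* `exists_iso` : an irreducible similitude of prime order modulo scalars is a scalar multiple of an isometry of odd order `p`;
* `not_dvd_card_centralizer` : the centraliser of its image in `Γ / Z(Γ)` has order prime to the characteristic.
-/

set_option autoImplicit false
set_option linter.unusedSectionVars false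

namespace Cfsg.Agent.H551.PiSp

open Module Submodule
open Cfsg.Agent.H952.Alt (Nd TI)
open Cfsg.Agent.BpCl (Semi SemiIso)

universe u v

variable {F : Type u} {V : Type v} [Field F] [AddCommGroup V] [Module F V]

/-- an eigenvector in the split case -/
theorem exists_eigen_split [FiniteDimensional F V] [Nontrivial V] {p : ℕ} (hp : p.Prime) {ζ : F} (hζ : IsPrimitiveRoot ζ p)
    {h : Module.End F V} (hh : h ^ p = 1) : ∃ (v : V) (b : F), v ≠ 0 ∧ h v = b • v := by
  have h1 : minpoly F h ∣ Polynomial.X ^ p - 1 := by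
    apply minpoly.dvd
    rw [map_sub, map_pow, Polynomial.aeval_X, map_one, hh, sub_self]
  have h2 : (Polynomial.X ^ p - 1 : Polynomial F) ≠ 0 := Polynomial.X_pow_sub_C_ne_zero hp.pos 1
  have h3 : (minpoly F h).Splits := (Polynomial.X_pow_sub_one_splits hζ).of_dvd h2 h1
  have h4 : (minpoly F h).degree ≠ 0 := (minpoly.degree_pos (Algebra.IsIntegral.isIntegral h)).ne'
  obtain ⟨b, hb⟩ := h3.exists_eval_eq_zero h4
  have h5 : h.HasEigenvalue b := Module.End.hasEigenvalue_of_isRoot hb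
  obtain ⟨v, hv⟩ := h5.exists_hasEigenvector
  exact ⟨v, b, hv.2, hv.apply_eq_smul⟩

/-- an irreducible map with `G ^ p = a`, `a` not a `p`-th power: `dim V = p` -/
theorem finrank_eq_of_not_pow [FiniteDimensional F V] [Nontrivial V] {p : ℕ} (hp : p.Prime) {G : Module.End F V} {a : F}
    (hG : ∀ v, (G ^ p) v = a • v) (ha : ∀ b : F, b ^ p ≠ a)
    (hirr : ∀ W : Submodule F V, (∀ v ∈ W, G v ∈ W) → W = ⊥ ∨ W = ⊤) : finrank F V = p := by
  have h1 := X_pow_sub_C_irreducible_of_prime hp ha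
  have h2 : Polynomial.aeval G (Polynomial.X ^ p - Polynomial.C a) = 0 := by
    rw [map_sub, map_pow, Polynomial.aeval_X, Polynomial.aeval_C, sub_eq_zero]
    ext v
    rw [hG, Module.algebraMap_end_apply]
  have h3 := minpoly.eq_of_irreducible_of_monic h1 h2 (Polynomial.monic_X_pow_sub_C a hp.ne_zero)
  apply le_antisymm
  · obtain ⟨v, hv⟩ := exists_ne (0 : V)
    let S : Set V := Set.range fun i : Fin p => (G ^ (i : ℕ)) v
    have hS : ∀ w ∈ span F S, G w ∈ span F S := by
      have h4 : span F S ≤ (span F S).comap G := by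
        rw [span_le]
        rintro _ ⟨i, rfl⟩
        change G ((G ^ (i : ℕ)) v) ∈ span F S
        rw [← Module.End.mul_apply, ← pow_succ']
        by_cases hi : (i : ℕ) + 1 < p
        · exact subset_span ⟨⟨i + 1, hi⟩, rfl⟩
        · have hi2 : (i : ℕ) + 1 = p := by have := i.2; omega
          rw [hi2, hG]
          exact Submodule.smul_mem _ _ (subset_span ⟨⟨0, hp.pos⟩, rfl⟩)
      exact h4
    rcases hirr _ hS with h4 | h4
    · exfalso
      apply hv
      have h5 : (G ^ ((⟨0, hp.pos⟩ : Fin p) : ℕ)) v ∈ span F S := subset_span ⟨⟨0, hp.pos⟩, rfl⟩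
      rw [h4, Submodule.mem_bot] at h5
      exact h5
    · rw [← finrank_top F V, ← h4]
      have h5 := finrank_range_le_card (R := F) (b := fun i : Fin p => (G ^ (i : ℕ)) v)
      rw [Fintype.card_fin] at h5
      exact h5
  · have h4 := Polynomial.natDegree_le_of_dvd (LinearMap.minpoly_dvd_charpoly G) (LinearMap.charpoly_monic G).ne_zero
    rw [← h3, Polynomial.natDegree_X_pow_sub_C, LinearMap.charpoly_natDegree] at h4
    exact h4

section Main

variable [Finite F] [FiniteDimensional F V] {B : LinearMap.BilinForm F V} {g : Equiv.Perm V} {φ : F ≃+* F} {c : F}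

/-- an irreducible similitude is a multiple of an isometry of odd prime order -/
theorem exists_iso (hnd : ∀ u, (∀ v, B u v = 0) → u = 0)
    (hg : SemiIso (fun u v => B u v) φ c g) (hφ : ∀ x, φ x = x) {m : ℕ} (hm : 2 ≤ m)
    (hd : finrank F V = 2 * m) {p t : ℕ} [CharP F t] (hp : p.Prime) (hpt : p ≠ t) {a : F} (ha : a ≠ 0)
    (hga : ∀ v, (g ^ p) v = a • v) (hne : ∀ (v : V) (b : F), v ≠ 0 → g v ≠ b • v)
    (hirr : ∀ W : Submodule F V, (∀ v ∈ W, g v ∈ W) → W = ⊥ ∨ W = ⊤) :
    Odd p ∧ ∃ (h : V ≃ₗ[F] V) (b : F), b ≠ 0 ∧ (∀ v, g v = b • h v) ∧ h ^ p = 1 ∧ ∀ u v, B (h u) (h v) = B u v := by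
  have hVn : Nontrivial V := Module.nontrivial_of_finrank_pos (R := F) (by omega)
  have hG := toLin_pow hg.toSemi hφ
  have hGa : ∀ v, (toLin g hg.toSemi hφ ^ p) v = a • v := fun v => by rw [hG, hga]
  have hcast : (p : F) ≠ 0 := by
    intro h0
    have h1 : t ∣ p := (CharP.cast_eq_zero_iff F t p).1 h0
    rcases (Nat.dvd_prime hp).1 h1 with h2 | h2
    · subst h2
      exact CharP.char_ne_one F 1 rfl
    · exact hpt h2.symm
  -- `a` is a `p`-th power
  obtain ⟨b, hb⟩ : ∃ b : F, b ^ p = a := by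
    by_contra hcon
    push Not at hcon
    have h1 := finrank_eq_of_not_pow hp hGa hcon hirr
    rw [hd] at h1
    have h2 : 2 ∣ p := ⟨m, h1.symm⟩
    have h3 := (Nat.prime_dvd_prime_iff_eq Nat.prime_two hp).1 h2
    omega
  have hb0 : b ≠ 0 := by
    rintro rfl
    rw [zero_pow hp.ne_zero] at hb
    exact ha hb.symm
  -- the normalised map
  let h : V ≃ₗ[F] V :=
    { toFun := fun v => b⁻¹ • g v
      invFun := fun v => g.symm (b • v)
      map_add' := fun u v => by rw [hg.add, smul_add]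
      map_smul' := fun x v => by rw [hg.smul, hφ, smul_comm]; rfl
      left_inv := fun v => by
        change g.symm (b • b⁻¹ • g v) = v
        rw [smul_inv_smul₀ hb0, Equiv.symm_apply_apply]
      right_inv := fun v => by
        change b⁻¹ • g (g.symm (b • v)) = v
        rw [Equiv.apply_symm_apply, inv_smul_smul₀ hb0] }
  have hh : ∀ v, h v = b⁻¹ • g v := fun _ => rfl
  have hhl : ∀ (n : ℕ) (v : V), (h.toLinearMap ^ n : Module.End F V) v = (b⁻¹) ^ n • (g ^ n) v := by
    intro n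
    induction n with
    | zero => intro v; rw [pow_zero, pow_zero, pow_zero, one_smul]; rfl
    | succ n ih =>
      intro v
      have hn : ∀ (x : F) (w : V), (g ^ n) (x • w) = x • (g ^ n) w := by
        intro x w
        rw [hg.toSemi.pow_smul]
        congr 1
        exact Function.iterate_fixed (hφ x) n
      rw [pow_succ, pow_succ, pow_succ, Module.End.mul_apply, ih, Equiv.Perm.mul_apply]
      change b⁻¹ ^ n • (g ^ n) (b⁻¹ • g v) = _
      rw [hn, smul_smul]
  have hhp : (h.toLinearMap ^ p : Module.End F V) = 1 := by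
    ext v
    rw [hhl, hga, smul_smul, inv_pow, hb, inv_mul_cancel₀ ha, one_smul]
    rfl
  have hhn : ¬ ∃ (v : V) (k : F), v ≠ 0 ∧ h.toLinearMap v = k • v := by
    rintro ⟨v, k, hv, hk⟩
    refine hne v (b * k) hv ?_
    have h1 : b⁻¹ • g v = k • v := hk
    rw [mul_smul, ← h1, smul_inv_smul₀ hb0]
  have hprim : ∀ ζ : F, ¬ IsPrimitiveRoot ζ p := fun ζ hζ => hhn (exists_eigen_split hp hζ hhp)
  have hodd : Odd p := by
    refine hp.odd_of_ne_two ?_
    rintro rfl
    apply hprim (-1)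
    have h2 : t ≠ 2 := hpt.symm
    exact IsPrimitiveRoot.neg_one t h2
  refine ⟨hodd, h, b, hb0, fun v => by rw [hh, smul_inv_smul₀ hb0], ?_, ?_⟩
  · apply LinearEquiv.ext
    intro v
    have h1 := LinearMap.congr_fun hhp v
    have h2 : ∀ (n : ℕ) (v : V), (h.toLinearMap ^ n : Module.End F V) v = (h ^ n) v := by
      intro n
      induction n with
      | zero => intro v; rfl
      | succ n ih => intro v; rw [pow_succ, pow_succ, Module.End.mul_apply, ih]; rfl
    rw [h2] at h1
    exact h1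
  · -- the factor
    have hform : ∀ u v, B (h u) (h v) = (c * (b⁻¹) ^ 2) * B u v := by
      intro u v
      rw [hh, hh, map_smul, map_smul, LinearMap.smul_apply, smul_eq_mul, smul_eq_mul]
      have := hg.form u v
      rw [hφ] at this
      rw [this]
      ring
    have hpow : ∀ (n : ℕ) (u v : V), B ((h ^ n) u) ((h ^ n) v) = (c * (b⁻¹) ^ 2) ^ n * B u v := by
      intro n
      induction n with
      | zero => intro u v; rw [pow_zero, pow_zero, one_mul]; rfl
      | succ n ih =>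
        intro u v
        rw [pow_succ, pow_succ, LinearEquiv.mul_apply, LinearEquiv.mul_apply, ih, hform]
        ring
    have hhp' : h ^ p = 1 := by
      apply LinearEquiv.ext
      intro v
      have h1 := LinearMap.congr_fun hhp v
      have h2 : ∀ (n : ℕ) (v : V), (h.toLinearMap ^ n : Module.End F V) v = (h ^ n) v := by
        intro n
        induction n with
        | zero => intro v; rfl
        | succ n ih => intro v; rw [pow_succ, pow_succ, Module.End.mul_apply, ih]; rfl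
      rw [h2] at h1
      exact h1
    obtain ⟨u, hu⟩ := exists_ne (0 : V)
    obtain ⟨w, hw⟩ : ∃ w, B u w ≠ 0 := by
      by_contra hcon
      push Not at hcon
      exact hu (hnd u hcon)
    have h1 := hpow p u w
    rw [hhp'] at h1
    have h2 : (c * (b⁻¹) ^ 2) ^ p = 1 := by
      have h3 : B u w = (c * b⁻¹ ^ 2) ^ p * B u w := h1
      exact (mul_right_cancel₀ hw (by rw [one_mul]; exact h3)).symm
    have h3 : c * (b⁻¹) ^ 2 = 1 := by
      by_contra hne1
      apply hprim (c * (b⁻¹) ^ 2)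
      have : Fact p.Prime := ⟨hp⟩
      have h4 := IsPrimitiveRoot.orderOf (c * (b⁻¹) ^ 2)
      rwa [orderOf_eq_prime h2 hne1] at h4
    intro u v
    rw [hform, h3, one_mul]

end Main

/-! ### the centraliser -/

section Cent

open Subgroup (center mem_center_iff)

variable [Finite F] [FiniteDimensional F V] {B : LinearMap.BilinForm F V} {Γ : Subgroup (V ≃ₗ[F] V)}

theorem lin_pow (h : V ≃ₗ[F] V) (n : ℕ) (v : V) : (h.toLinearMap ^ n : Module.End F V) v = (h ^ n) v := by
  induction n generalizing v with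
  | zero => rfl
  | succ n ih => rw [pow_succ, pow_succ, Module.End.mul_apply, ih]; rfl

/-- central elements are scalars with square 1 -/
theorem center_sq [Nontrivial V] (hA : B.IsAlt) (hnd : ∀ u, (∀ v, B u v = 0) → u = 0)
    (hΓ : ∀ h : V ≃ₗ[F] V, h ∈ Γ ↔ ∀ u v, B (h u) (h v) = B u v) {z : ↥Γ} (hz : z ∈ center ↥Γ) :
    ∃ k : F, k ^ 2 = 1 ∧ ∀ v, z.1 v = k • v := by
  obtain ⟨k, hk⟩ : ∃ k : F, ∀ v, z.1 v = k • v := by
    have h1 : ∀ v : V, ∃ k : F, z.1 v = k • v := fun v => Cfsg.Agent.H952.Rc.center_scalar_sp hA hnd hΓ hz v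
    obtain ⟨u, hu⟩ := exists_ne (0 : V)
    obtain ⟨k, hk⟩ := h1 u
    refine ⟨k, fun v => ?_⟩
    by_cases hv : v ∈ span F {u}
    · obtain ⟨x, rfl⟩ := mem_span_singleton.1 hv
      rw [map_smul, hk, smul_comm]
    · obtain ⟨l, hl⟩ := h1 v
      obtain ⟨n, hn⟩ := h1 (v + u)
      rw [map_add, hl, hk, smul_add] at hn
      have h2 : l = n := coef_eq hv hn
      subst h2
      rw [add_right_inj] at hn
      have h3 : k = l := smul_left_injective F hu hn
      rw [hl, h3]
  refine ⟨k, ?_, hk⟩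
  obtain ⟨u, hu⟩ := exists_ne (0 : V)
  obtain ⟨w, hw⟩ : ∃ w, B u w ≠ 0 := by
    by_contra hcon
    push Not at hcon
    exact hu (hnd u hcon)
  have h1 := (hΓ z.1).1 z.2 u w
  rw [hk, hk, map_smul, map_smul, LinearMap.smul_apply, smul_eq_mul, smul_eq_mul, ← mul_assoc, ← pow_two] at h1
  exact mul_right_cancel₀ hw (by rw [h1, one_mul])

/-- **the centraliser of an irreducible element of odd order** -/
theorem not_dvd_card_centralizer [Finite ↥Γ] [Nontrivial V] {p t : ℕ} [CharP F t] (ht : t.Prime) (hodd : Odd p)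
    (hA : B.IsAlt) (hnd : ∀ u, (∀ v, B u v = 0) → u = 0)
    (hΓ : ∀ h : V ≃ₗ[F] V, h ∈ Γ ↔ ∀ u v, B (h u) (h v) = B u v) (h : ↥Γ) (hp : h ^ p = 1)
    (hirr : ∀ W : Submodule F V, (∀ v ∈ W, h.1 v ∈ W) → W = ⊥ ∨ W = ⊤) :
    ¬ t ∣ Nat.card (Subgroup.centralizer ({QuotientGroup.mk' (center ↥Γ) h} : Set (↥Γ ⧸ center ↥Γ))) := by
  intro hdvd
  have : Fact t.Prime := ⟨ht⟩
  have hch : CharP (Module.End F V) t := charP_of_injective_algebraMap (algebraMap F (Module.End F V)).injective t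
  obtain ⟨⟨y', hy'⟩, hy⟩ := exists_prime_orderOf_dvd_card' t hdvd
  rw [Subgroup.orderOf_mk] at hy
  obtain ⟨y, rfl⟩ := QuotientGroup.mk'_surjective (center ↥Γ) y'
  -- `y` commutes with `h`
  have h1 := Subgroup.mem_centralizer_singleton_iff.1 hy'
  rw [← map_mul, ← map_mul] at h1
  have h2 : (y * h)⁻¹ * (h * y) ∈ center ↥Γ := QuotientGroup.eq.1 h1
  obtain ⟨k, hk2, hk⟩ := center_sq hA hnd hΓ h2
  have hcomm : ∀ v, h.1 (y.1 v) = k • y.1 (h.1 v) := by
    intro v
    have h3 : h * y = (y * h) * ((y * h)⁻¹ * (h * y)) := by group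
    have h4 : (h * y).1 v = ((y * h) * ((y * h)⁻¹ * (h * y))).1 v := by rw [← h3]
    have h5 : ((y * h) * ((y * h)⁻¹ * (h * y))).1 v = (y * h).1 (((y * h)⁻¹ * (h * y)).1 v) := rfl
    rw [h5, hk, map_smul] at h4
    exact h4
  have hcommn : ∀ (n : ℕ) (v : V), (h ^ n).1 (y.1 v) = k ^ n • y.1 ((h ^ n).1 v) := by
    intro n
    induction n with
    | zero => intro v; rw [pow_zero, pow_zero, one_smul]; rfl
    | succ n ih =>
      intro v
      have h3 : ∀ w, (h ^ (n + 1)).1 w = (h ^ n).1 (h.1 w) := fun w => by rw [pow_succ]; rfl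
      rw [h3, h3, hcomm, map_smul, ih, smul_smul, pow_succ, mul_comm]
  obtain ⟨u, hu⟩ := exists_ne (0 : V)
  have hk1 : k = 1 := by
    have h3 := hcommn p u
    rw [hp] at h3
    have h4 : y.1 u = k ^ p • y.1 u := h3
    have h5 : y.1 u ≠ 0 := by
      intro h0
      exact hu (y.1.map_eq_zero_iff.1 h0)
    have h6 : k ^ p = 1 := by
      have h7 : (1 : F) • y.1 u = k ^ p • y.1 u := by rw [one_smul]; exact h4
      exact (smul_left_injective F h5 h7).symm
    obtain ⟨j, hj⟩ := hodd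
    rw [hj, pow_succ, pow_mul, hk2, one_pow, one_mul] at h6
    exact h6
  rw [hk1] at hcomm
  simp only [one_smul] at hcomm
  -- `y ^ t` is central
  have h3 : y ^ t ∈ center ↥Γ := by
    rw [← QuotientGroup.eq_one_iff]
    have h4 := pow_orderOf_eq_one (QuotientGroup.mk' (center ↥Γ) y)
    rw [hy, ← map_pow] at h4
    exact h4
  obtain ⟨l, hl2, hl⟩ := center_sq hA hnd hΓ h3
  set Y : Module.End F V := y.1.toLinearMap with hY
  have hYt : Y ^ (2 * t) = 1 := by
    ext v
    rw [mul_comm, pow_mul, pow_two, Module.End.mul_apply]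
    have h4 : ∀ v, (Y ^ t) v = l • v := fun v => by
      rw [hY, lin_pow]
      exact hl v
    rw [h4, h4, smul_smul, ← pow_two, hl2, one_smul]
    rfl
  have hnil : (Y ^ 2 - 1) ^ t = 0 := by
    rw [sub_pow_char_of_commute t (Commute.one_right _), one_pow, ← pow_mul, hYt, sub_self]
  -- invariant kernels
  have hinv : ∀ T : Module.End F V, (∀ v, T (h.1 v) = h.1 (T v)) → LinearMap.ker T = ⊥ ∨ T = 0 := by
    intro T hT
    rcases hirr (LinearMap.ker T) (fun v hv => by
      rw [LinearMap.mem_ker] at hv ⊢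
      rw [hT, hv, map_zero]) with h4 | h4
    · exact Or.inl h4
    · right
      ext v
      have h5 : v ∈ LinearMap.ker T := by rw [h4]; exact mem_top
      rw [LinearMap.mem_ker] at h5
      rw [h5]
      rfl
  have hYv : ∀ v, Y v = y.1 v := fun _ => rfl
  have hT2 : Y ^ 2 - 1 = 0 := by
    rcases hinv (Y ^ 2 - 1) (fun v => by
      rw [LinearMap.sub_apply, LinearMap.sub_apply, pow_two, Module.End.mul_apply, Module.End.mul_apply, hYv, hYv, hYv,
        hYv, ← hcomm, ← hcomm, map_sub]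
      rfl) with h4 | h4
    · exfalso
      rw [LinearMap.ker_eq_bot] at h4
      have h5 : ∀ n : ℕ, Function.Injective ⇑((Y ^ 2 - 1 : Module.End F V) ^ n) := by
        intro n
        induction n with
        | zero => exact fun _ _ h => h
        | succ n ih =>
          rw [pow_succ]
          exact ih.comp h4
      have h6 := h5 t
      rw [hnil] at h6
      exact hu (h6 rfl)
    · exact h4
  have hY2 : ∀ v, y.1 (y.1 v) = v := by
    intro v
    have h4 := LinearMap.congr_fun hT2 v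
    rw [LinearMap.sub_apply, pow_two, Module.End.mul_apply, hYv, hYv] at h4
    exact sub_eq_zero.1 h4
  -- `y` is a scalar
  have hys : y ∈ center ↥Γ := by
    rcases hinv (Y - 1) (fun v => by
      rw [LinearMap.sub_apply, LinearMap.sub_apply, hYv, hYv, ← hcomm, map_sub]
      rfl) with h4 | h4
    · have h5 : ∀ v, y.1 v = -v := by
        intro v
        have h6 : y.1 v + v ∈ LinearMap.ker (Y - 1) := by
          rw [LinearMap.mem_ker, LinearMap.sub_apply, hYv, map_add, hY2]
          change v + y.1 v - (y.1 v + v) = 0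
          abel
        rw [h4, Submodule.mem_bot] at h6
        exact eq_neg_of_add_eq_zero_left h6
      rw [mem_center_iff]
      intro w
      apply Subtype.ext
      apply LinearEquiv.ext
      intro v
      change w.1 (y.1 v) = y.1 (w.1 v)
      rw [h5, h5, map_neg]
    · have h5 : ∀ v, y.1 v = v := by
        intro v
        have h6 := LinearMap.congr_fun h4 v
        rw [LinearMap.sub_apply, hYv] at h6
        exact sub_eq_zero.1 h6
      rw [mem_center_iff]
      intro w
      apply Subtype.ext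
      apply LinearEquiv.ext
      intro v
      change w.1 (y.1 v) = y.1 (w.1 v)
      rw [h5, h5]
  have h4 : QuotientGroup.mk' (center ↥Γ) y = 1 := (QuotientGroup.eq_one_iff y).2 hys
  rw [h4, orderOf_one] at hy
  exact ht.one_lt.ne hy

end Cent

end Cfsg.Agent.H551.PiSp
end
end

-- part: H621/Pi/RowO8
section
prune_inst 0x421004000090010000000001400200000580004200040000000a00a000a01206248828041001020120282008100010000000000200040000004000000000001000000000010000000400000000000000000000000000000000000000000000000000000000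
set_option linter.all false
open scoped Cfsg.Agent.FastGrp

-- part: H621/Pi/SecO
section
/-!
# S4324: the section facts for orthogonal groups (helper621)

`Γ = E Q`, `x : MulAut (Γ / Z(Γ))` induced by the semilinear bijection `g`, `PC s x`.
* `exists_not_inv` : `E Q` is irreducible;
* `nd_core` : nondegenerate `g`-invariant subspaces; `pt_core` : `v^⊥ / v`; `iso_core` : totally singular subspaces.
-/

set_option autoImplicit false
set_option linter.unusedSectionVars false

namespace Cfsg.Agent.H621.Pi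

open Module QuadraticMap Subgroup Cfsg.Agent.LieClassical.OrthCore Cfsg.Agent.LieClassical.OrthTrans
open Cfsg.Agent.H847.Bs Cfsg.Agent.H826.Bs Cfsg.Agent.H216.Pi
open Cfsg.Agent.BpCl (Semi SemiIso)
open Cfsg.Agent.H952.Rc (Comp)
open Cfsg.Agent.H809.Sec (IsSc SGood SemiGood Ind section_lemma ind_of_closure)

universe u v

variable {F : Type u} {V : Type v} [Field F] [Finite F] [AddCommGroup V] [Module F V] [FiniteDimensional F V]
  {Q : QuadraticForm F V}

/-- `E Q` is irreducible -/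
theorem exists_not_inv (hQ : Nondeg Q) (h4 : 4 ≤ finrank F V) {B : Submodule F V} (hB0 : B ≠ ⊥) (hB1 : B ≠ ⊤) :
    ∃ h ∈ E Q, ¬ ∀ v, h v ∈ B ↔ v ∈ B := by
  by_contra hcon
  push Not at hcon
  apply hB1
  obtain ⟨b, hb, hb0⟩ := Submodule.exists_mem_ne_zero_of_ne_bot hB0
  obtain ⟨x0, -, hx00, hx0⟩ := Cfsg.Agent.LieClassical.OrthFinite.exists_sing_mem (Q := Q) (⊤ : Submodule F V)
    (by rw [finrank_top]; omega)
  obtain ⟨y0, hxy⟩ := exists_hyp hQ hx0 hx00
  obtain ⟨u, hu, hub⟩ := exists_sing_polar_one hQ hxy hb0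
  have hu0 : u ≠ 0 := by
    rintro rfl
    rw [polar_zero_left] at hub
    exact zero_ne_one hub
  obtain ⟨y, hy⟩ := exists_hyp hQ hu hu0
  obtain ⟨P, hP, hP2, hPo⟩ := exists_compl hQ h4 hy
  -- the vectors `f(w)`
  have hf : ∀ w, polar Q u w = 0 → w - (polar Q w b + Q w) • u ∈ B := by
    intro w hw
    have h1 : siegel Q u w hu hw b ∈ B := (hcon _ (siegel_mem_E hu hw) b).2 hb
    rw [siegel_apply, hub] at h1
    have h2 := B.sub_mem h1 hb
    have h3 : b + (1 : F) • w - polar Q w b • u - (Q w * 1) • u - b = w - (polar Q w b + Q w) • u := by module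
    rwa [h3] at h2
  obtain ⟨p, hp, p', hp', hpp⟩ : ∃ p ∈ P, ∃ p' ∈ P, polar Q p p' ≠ 0 := by
    by_contra hcon2
    push Not at hcon2
    obtain ⟨p, hp, hp0⟩ := Submodule.exists_mem_ne_zero_of_ne_bot (p := P) (by
      intro h
      rw [h, finrank_bot] at hP2
      omega)
    exact hp0 (hP p hp (hcon2 p hp))
  have huB : u ∈ B := by
    have h1 := hf p (hPo p hp).1
    have h2 := hf p' (hPo p' hp').1
    have h3 := hf (p + p') (by rw [polar_add_right, (hPo p hp).1, (hPo p' hp').1, add_zero])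
    have h4 := B.sub_mem (B.sub_mem h3 h1) h2
    have h5 : p + p' - (polar Q (p + p') b + Q (p + p')) • u - (p - (polar Q p b + Q p) • u) -
        (p' - (polar Q p' b + Q p') • u) = (-polar Q p p') • u := by
      rw [polar_add_left, Q_add]
      module
    rw [h5] at h4
    exact (Submodule.smul_mem_iff B (neg_ne_zero.2 hpp)).1 h4
  rw [eq_top_iff]
  intro w _
  -- `w = (w - t b) + t b`
  have h1 : polar Q u (w - polar Q u w • b) = 0 := by
    rw [polar_sub_right, polar_smul_right, hub, smul_eq_mul, mul_one, sub_self]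
  have h2 := B.add_mem (B.add_mem (hf _ h1) (B.smul_mem (polar Q (w - polar Q u w • b) b + Q (w - polar Q u w • b)) huB))
    (B.smul_mem (polar Q u w) hb)
  have h3 : w - polar Q u w • b - (polar Q (w - polar Q u w • b) b + Q (w - polar Q u w • b)) • u +
      (polar Q (w - polar Q u w • b) b + Q (w - polar Q u w • b)) • u + polar Q u w • b = w := by abel
  rwa [h3] at h2

/-- the centre of `E Q` consists of scalars -/
theorem center_sc {Γ : Subgroup (V ≃ₗ[F] V)} (hQ : Nondeg Q) (h5 : 5 ≤ finrank F V) (hΓ : Γ = E Q) :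
    ∀ z ∈ center ↥Γ, IsSc F (⇑z.1) := fun _ hz =>
  Cfsg.Agent.H952.Rc.center_scalar_orth (Cfsg.Agent.LieClassical.OrthFinite.good_of_finite hQ h5) hΓ hz

theorem finite_V (F : Type u) (V : Type v) [Field F] [Finite F] [AddCommGroup V] [Module F V] [FiniteDimensional F V] :
    Finite V := Module.finite_of_finite F

/-- linear maps stabilising a subspace -/
theorem stab_iff {h : V ≃ₗ[F] V} {B : Submodule F V} (hB : ∀ v ∈ B, h v ∈ B) (v : V) : h v ∈ B ↔ v ∈ B := by
  have : Finite V := finite_V F V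
  exact Cfsg.Agent.H952.Rc.inv_iff (g := h.toEquiv) hB v

/-- **Nondegenerate invariant subspaces.** -/
theorem nd_core {Γ : Subgroup (V ≃ₗ[F] V)} (hQ : Nondeg Q) (h5 : 5 ≤ finrank F V) (hΓ : Γ = E Q) {s : ℕ}
    (hs : s.Prime) {x : MulAut (↥Γ ⧸ center ↥Γ)} (hPC : PC s x) {g : Equiv.Perm V} {φ : F ≃+* F} (hg : Semi φ g)
    (hx : Comp x g) {W : Submodule F V} (hW0 : W ≠ ⊥) (hW1 : W ≠ ⊤) (hgW : ∀ v ∈ W, g v ∈ W)
    (hG : SGood s (E (Q.comp W.subtype))) (hS : SemiGood (E (Q.comp W.subtype)) φ) : ∃ c : F, ∀ v ∈ W, g v = c • v := by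
  have hV : Finite V := finite_V F V
  suffices hex : ∃ c : F, ∀ b b' : W, (b' : V) = g b → (LinearMap.id : W →ₗ[F] W) b' = c • (LinearMap.id : W →ₗ[F] W) b by
    obtain ⟨c, hc⟩ := hex
    refine ⟨c, fun v hv => ?_⟩
    exact congrArg Subtype.val (hc ⟨v, hv⟩ ⟨g v, hgW v hv⟩ rfl)
  refine section_lemma (B := W) (p := LinearMap.id) hs hPC (center_sc hQ h5 hΓ) hg hx
    Function.surjective_id hgW ?_ ?_ (Y := E (Q.comp W.subtype)) ?_ ?_ hG hS
  · intro b b' hb h
    have h1 : b = 0 := h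
    rw [h1, Submodule.coe_zero, hg.zero] at hb
    exact Subtype.ext hb
  · obtain ⟨h, hh, hne⟩ := exists_not_inv hQ (by omega) hW0 hW1
    exact ⟨h, by rw [hΓ]; exact hh, fun T hT => hne hT.1⟩
  · rw [hΓ]
    refine ind_of_closure ?_
    rintro y ⟨u, w, hu, hw, rfl⟩
    have hu' : Q (u : V) = 0 := hu
    have hw' : polar Q (u : V) (w : V) = 0 := hw
    refine ⟨siegel Q u w hu' hw', siegel_mem_E hu' hw', stab_iff ?_, ?_⟩
    · intro v hv
      rw [siegel_apply]
      exact W.sub_mem (W.sub_mem (W.add_mem hv (W.smul_mem _ w.2)) (W.smul_mem _ u.2)) (W.smul_mem _ u.2)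
    · intro b b' hb
      apply Subtype.ext
      rw [LinearMap.id_apply, LinearMap.id_apply, hb, siegel_apply, siegel_apply]
      rfl
  · intro h hh T hT y hy
    refine conj_mem_E ?_ hy
    intro w
    have h1 := hT.2 w ⟨h w, (hT.1 w).2 w.2⟩ rfl
    have h2 : ((T w : W) : V) = h w := (congrArg Subtype.val h1).symm
    show Q ((T w : W) : V) = Q (w : V)
    rw [h2]
    rw [hΓ] at hh
    exact E_le_O hh _

/-- **Totally singular invariant subspaces.** -/
theorem iso_core {Γ : Subgroup (V ≃ₗ[F] V)} (hQ : Nondeg Q) (h5 : 5 ≤ finrank F V) (hΓ : Γ = E Q) {s : ℕ}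
    (hs : s.Prime) {x : MulAut (↥Γ ⧸ center ↥Γ)} (hPC : PC s x) {g : Equiv.Perm V} {φ : F ≃+* F} (hg : Semi φ g)
    (hx : Comp x g) {W : Submodule F V} (hW0 : W ≠ ⊥) (hW : ∀ u ∈ W, Q u = 0) (hgW : ∀ v ∈ W, g v ∈ W)
    (hG : SGood s (LinearEquiv.det (R := F) (M := W)).ker) (hS : SemiGood (LinearEquiv.det (R := F) (M := W)).ker φ) :
    ∃ c : F, ∀ v ∈ W, g v = c • v := by
  have hV : Finite V := finite_V F V
  have hpol : ∀ u ∈ W, ∀ v ∈ W, polar Q u v = 0 := by
    intro u hu v hv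
    unfold polar
    rw [hW _ (W.add_mem hu hv), hW u hu, hW v hv, sub_zero, sub_zero]
  have hW1 : W ≠ ⊤ := by
    intro h
    obtain ⟨v, hv⟩ := exists_nonsing hQ (by omega)
    exact hv (hW v (by rw [h]; trivial))
  suffices hex : ∃ c : F, ∀ b b' : W, (b' : V) = g b → (LinearMap.id : W →ₗ[F] W) b' = c • (LinearMap.id : W →ₗ[F] W) b by
    obtain ⟨c, hc⟩ := hex
    refine ⟨c, fun v hv => ?_⟩
    exact congrArg Subtype.val (hc ⟨v, hv⟩ ⟨g v, hgW v hv⟩ rfl)
  refine section_lemma (B := W) (p := LinearMap.id) hs hPC (center_sc hQ h5 hΓ) hg hx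
    Function.surjective_id hgW ?_ ?_ (Y := (LinearEquiv.det (R := F) (M := W)).ker) ?_ ?_ hG hS
  · intro b b' hb h
    have h1 : b = 0 := h
    rw [h1, Submodule.coe_zero, hg.zero] at hb
    exact Subtype.ext hb
  · obtain ⟨h, hh, hne⟩ := exists_not_inv hQ (by omega) hW0 hW1
    exact ⟨h, by rw [hΓ]; exact hh, fun T hT => hne hT.1⟩
  · rw [hΓ, Cfsg.Agent.H809.Sec.sl_closure]
    refine ind_of_closure ?_
    rintro y ⟨f, a, hfa, rfl⟩
    -- `f = - polar b`
    obtain ⟨f', hf'⟩ := LinearMap.exists_extend f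
    have hinj : Function.Injective (polarBilin Q) := by
      rw [← LinearMap.ker_eq_bot, LinearMap.ker_eq_bot']
      intro z hz
      refine hQ z fun y => ?_
      exact LinearMap.congr_fun hz y
    have hsurj : Function.Surjective (polarBilin Q) :=
      (LinearMap.injective_iff_surjective_of_finrank_eq_finrank (by rw [Subspace.dual_finrank_eq])).1 hinj
    obtain ⟨b, hb⟩ := hsurj f'
    have hbf : ∀ w : W, polar Q b w = f w := by
      intro w
      have h1 := LinearMap.congr_fun hb (w : V)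
      have h2 := LinearMap.congr_fun hf' w
      rw [← h2, LinearMap.comp_apply]
      exact h1
    have hQa : Q (a : V) = 0 := hW a a.2
    have hab : polar Q (a : V) (-b) = 0 := by
      rw [polar_neg_right, polar_comm, hbf, hfa, neg_zero]
    have key : ∀ w : W, siegel Q (a : V) (-b) hQa hab w = ((LinearEquiv.transvection hfa w : W) : V) := by
      intro w
      rw [siegel_apply, hpol a a.2 w w.2, polar_neg_left, hbf]
      have h1 : LinearEquiv.transvection hfa w = w + f w • a := rfl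
      rw [h1, Submodule.coe_add, Submodule.coe_smul]
      module
    refine ⟨siegel Q a (-b) hQa hab, siegel_mem_E hQa hab, stab_iff ?_, ?_⟩
    · intro v hv
      rw [key ⟨v, hv⟩]
      exact Submodule.coe_mem _
    · intro w w' hw
      apply Subtype.ext
      rw [LinearMap.id_apply, LinearMap.id_apply, hw, key]
  · intro h hh T hT y hy
    rw [MonoidHom.mem_ker] at hy ⊢
    rw [map_mul, map_mul, hy, mul_one, ← map_mul, mul_inv_cancel, map_one]

/-- the projection `v^⊥ → P` -/
def prj (Q : QuadraticForm F V) (v y : V) (h : Hyp Q v y) :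
    ↥(LinearMap.ker (polarBilin Q v)) →ₗ[F] ↥(LinearMap.ker (polarBilin Q v) ⊓ LinearMap.ker (polarBilin Q y)) where
  toFun b := ⟨(b : V) - polar Q y b • v, by
    have hb : polar Q v (b : V) = 0 := b.2
    refine ⟨?_, ?_⟩
    · show polar Q v ((b : V) - polar Q y b • v) = 0
      rw [polar_sub_right, polar_smul_right, hb, h.polar_left, smul_zero, sub_zero]
    · show polar Q y ((b : V) - polar Q y b • v) = 0
      rw [polar_sub_right, polar_smul_right, h.pair', smul_eq_mul, mul_one, sub_self]⟩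
  map_add' a b := by
    apply Subtype.ext
    show (a : V) + b - polar Q y ((a : V) + b) • v = ((a : V) - polar Q y a • v) + ((b : V) - polar Q y b • v)
    rw [polar_add_right]
    module
  map_smul' c a := by
    apply Subtype.ext
    show c • (a : V) - polar Q y (c • (a : V)) • v = c • ((a : V) - polar Q y a • v)
    rw [polar_smul_right, smul_eq_mul]
    module

theorem prj_apply {v y : V} (h : Hyp Q v y) (b : ↥(LinearMap.ker (polarBilin Q v))) :
    ((prj Q v y h b : ↥(LinearMap.ker (polarBilin Q v) ⊓ LinearMap.ker (polarBilin Q y))) : V) =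
      (b : V) - polar Q y b • v := rfl

/-- **The section `v^⊥ / v`.** -/
theorem pt_core {Γ : Subgroup (V ≃ₗ[F] V)} (hQ : Nondeg Q) (h5 : 5 ≤ finrank F V) (hΓ : Γ = E Q) {s : ℕ}
    (hs : s.Prime) {x : MulAut (↥Γ ⧸ center ↥Γ)} (hPC : PC s x) {g : Equiv.Perm V} {φ : F ≃+* F} (hg : Semi φ g)
    (hx : Comp x g) (hgo : ∀ u w, polar Q u w = 0 → polar Q (g u) (g w) = 0) {v y : V} (hvy : Hyp Q v y) {l : F}
    (hgv : g v = l • v)
    (hG : SGood s (E (Q.comp (LinearMap.ker (polarBilin Q v) ⊓ LinearMap.ker (polarBilin Q y)).subtype)))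
    (hS : SemiGood (E (Q.comp (LinearMap.ker (polarBilin Q v) ⊓ LinearMap.ker (polarBilin Q y)).subtype)) φ) :
    ∃ b : F, ∀ w, polar Q v w = 0 → ∃ a : F, g w = b • w + a • v := by
  have hV : Finite V := finite_V F V
  have hv0 := hvy.left_ne
  have hl0 : l ≠ 0 := by
    rintro rfl
    rw [zero_smul] at hgv
    apply hv0
    apply g.injective
    rw [hgv, hg.zero]
  set B := LinearMap.ker (polarBilin Q v) with hB
  have hmB : ∀ w, w ∈ B ↔ polar Q v w = 0 := fun w => Iff.rfl
  have hgB : ∀ w ∈ B, g w ∈ B := by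
    intro w hw
    have h1 := hgo v w hw
    rw [hgv, polar_smul_left, smul_eq_mul] at h1
    exact (mul_eq_zero.1 h1).resolve_left hl0
  have hvB : v ∈ B := by rw [hmB]; exact hvy.polar_left
  have hpv : ∀ b : B, prj Q v y hvy b = 0 → ∃ t : F, (b : V) = t • v := by
    intro b hb
    refine ⟨polar Q y b, ?_⟩
    have h1 := congrArg Subtype.val hb
    rw [prj_apply] at h1
    exact sub_eq_zero.1 h1
  suffices hex : ∃ c : F, ∀ b b' : B, (b' : V) = g b → prj Q v y hvy b' = c • prj Q v y hvy b by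
    obtain ⟨c, hc⟩ := hex
    refine ⟨c, fun w hw => ?_⟩
    have h1 := congrArg Subtype.val (hc ⟨w, hw⟩ ⟨g w, hgB w hw⟩ rfl)
    rw [Submodule.coe_smul, prj_apply, prj_apply] at h1
    refine ⟨polar Q y (g w) - c * polar Q y w, ?_⟩
    have h2 : g w = c • (w - polar Q y w • v) + polar Q y (g w) • v := by
      rw [← h1]
      simp
    rw [h2]
    have h3 : polar Q y (c • (w - polar Q y w • v) + polar Q y (g w) • v) = polar Q y (g w) := by rw [← h2]
    rw [h3]
    module
  refine section_lemma (B := B) (p := prj Q v y hvy) hs hPC (center_sc hQ h5 hΓ) hg hx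
    ?_ hgB ?_ ?_ (Y := E (Q.comp (B ⊓ LinearMap.ker (polarBilin Q y)).subtype)) ?_ ?_ hG hS
  · -- onto
    rintro ⟨w, hw1, hw2⟩
    refine ⟨⟨w, hw1⟩, ?_⟩
    apply Subtype.ext
    rw [prj_apply]
    have h1 : polar Q y w = 0 := hw2
    show w - polar Q y w • v = w
    rw [h1, zero_smul, sub_zero]
  · intro b b' hb h
    obtain ⟨t, ht⟩ := hpv b h
    apply Subtype.ext
    rw [prj_apply, hb, ht, hg.smul, hgv]
    rw [smul_smul, polar_smul_right, hvy.pair', smul_eq_mul, mul_one, sub_self]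
    rfl
  · have hB0 : B ≠ ⊥ := by
      intro h
      rw [h, Submodule.mem_bot] at hvB
      exact hv0 hvB
    have hB1 : B ≠ ⊤ := by
      intro h
      have h1 : y ∈ B := by rw [h]; trivial
      rw [hmB, hvy.pair] at h1
      exact one_ne_zero h1
    obtain ⟨h, hh, hne⟩ := exists_not_inv hQ (by omega) hB0 hB1
    exact ⟨h, by rw [hΓ]; exact hh, fun T hT => hne hT.1⟩
  · rw [hΓ]
    refine ind_of_closure ?_
    rintro z ⟨u, w, hu, hw, rfl⟩
    have hu' : Q (u : V) = 0 := hu
    have hw' : polar Q (u : V) (w : V) = 0 := hw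
    have hvu : polar Q v (u : V) = 0 := u.2.1
    have hvw : polar Q v (w : V) = 0 := w.2.1
    have hyu : polar Q y (u : V) = 0 := u.2.2
    have hyw : polar Q y (w : V) = 0 := w.2.2
    have huv : polar Q (u : V) v = 0 := by rw [polar_comm]; exact hvu
    have hwv : polar Q (w : V) v = 0 := by rw [polar_comm]; exact hvw
    refine ⟨siegel Q u w hu' hw', siegel_mem_E hu' hw', ?_, ?_⟩
    · intro b
      rw [hmB, hmB, siegel_apply, polar_sub_right, polar_sub_right, polar_add_right, polar_smul_right, polar_smul_right,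
        polar_smul_right, hvu, hvw]
      simp
    · intro b b' hb
      apply Subtype.ext
      rw [prj_apply, hb]
      rw [siegel_apply, siegel_apply]
      have e1 : ((prj Q v y hvy b : ↥(B ⊓ LinearMap.ker (polarBilin Q y))) : V) = (b : V) - polar Q y b • v := rfl
      have e2 : polar (Q.comp (B ⊓ LinearMap.ker (polarBilin Q y)).subtype) u (prj Q v y hvy b) =
          polar Q (u : V) (b : V) := by
        show polar Q (u : V) ((b : V) - polar Q y b • v) = _
        rw [polar_sub_right, polar_smul_right, huv, smul_zero, sub_zero]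
      have e3 : polar (Q.comp (B ⊓ LinearMap.ker (polarBilin Q y)).subtype) w (prj Q v y hvy b) =
          polar Q (w : V) (b : V) := by
        show polar Q (w : V) ((b : V) - polar Q y b • v) = _
        rw [polar_sub_right, polar_smul_right, hwv, smul_zero, sub_zero]
      rw [e2, e3]
      have e4 : (Q.comp (B ⊓ LinearMap.ker (polarBilin Q y)).subtype) w = Q (w : V) := rfl
      simp only [e4, Submodule.coe_sub, Submodule.coe_sub, Submodule.coe_add, Submodule.coe_smul, Submodule.coe_smul,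
        Submodule.coe_smul, e1, polar_sub_right, polar_sub_right, polar_add_right, polar_smul_right, polar_smul_right,
        polar_smul_right, hyu, hyw]
      simp only [smul_eq_mul, mul_zero, add_zero, sub_zero]
      module
  · intro h hh T hT z hz
    refine conj_mem_E ?_ hz
    have hhO : h ∈ O Q := by rw [hΓ] at hh; exact E_le_O hh
    have hQp : ∀ b : B, Q ((prj Q v y hvy b : ↥(B ⊓ LinearMap.ker (polarBilin Q y))) : V) = Q (b : V) := by
      intro b
      rw [prj_apply, sub_eq_add_neg, Q_add, QuadraticMap.map_neg, QuadraticMap.map_smul, hvy.left, polar_neg_right,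
        polar_smul_right, polar_comm Q (b : V) v, (hmB b).1 b.2]
      simp
    intro w
    -- `w = prj b`
    have hw : prj Q v y hvy ⟨w, w.2.1⟩ = w := by
      apply Subtype.ext
      rw [prj_apply]
      have h1 : polar Q y (w : V) = 0 := w.2.2
      show (w : V) - polar Q y (w : V) • v = w
      rw [h1, zero_smul, sub_zero]
    have h1 := hT.2 ⟨w, w.2.1⟩ ⟨h w, (hT.1 w).2 w.2.1⟩ rfl
    rw [hw] at h1
    show Q ((T w : ↥(B ⊓ LinearMap.ker (polarBilin Q y))) : V) = Q (w : V)
    rw [← h1, hQp]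
    exact hhO _

end Cfsg.Agent.H621.Pi
end

-- part: H621/Pi/SecOFin
section
/-!
# S4324: the section facts for orthogonal groups, final form (helper621)

* `GoodO` : the statements of `sgood_omega`, `semiGood_omega` (helper809);
* `sec_iso`, `sec_pt`, `sec_nd` : the hypotheses `hiso`, `hpt`, `hns` of `geo_omega`, for semilinear `g`;
* `refl_of_pt` : a semilinear map with the property `sec_pt` at one singular eigenvector is linear.
-/

set_option autoImplicit false
set_option linter.unusedSectionVars false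

namespace Cfsg.Agent.H621.Pi

open Module QuadraticMap Subgroup Cfsg.Agent.LieClassical.OrthCore Cfsg.Agent.LieClassical.OrthTrans
open Cfsg.Agent.H847.Bs Cfsg.Agent.H826.Bs Cfsg.Agent.H216.Pi
open Cfsg.Agent.BpCl (Semi SemiIso)
open Cfsg.Agent.H952.Rc (Comp)
open Cfsg.Agent.H809.Sec (IsSc SGood SemiGood Ind section_lemma ind_of_closure)

universe u v

/-- the statements of `sgood_omega` and `semiGood_omega` -/
def GoodO : Prop := ∀ (F : Type u) (W : Type v) [Field F] [Finite F] [AddCommGroup W] [Module F W]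
  [FiniteDimensional F W] (Q : QuadraticForm F W), Nondeg Q → 4 ≤ finrank F W →
  (∀ s : ℕ, s.Prime → 3 ≤ s → ¬ s ∣ Nat.card F → s ∣ Nat.card ↥(E Q) → SGood s (E Q)) ∧
  ∀ φ : F ≃+* F, SemiGood (E Q) φ

variable {F : Type u} {V : Type v} [Field F] [Finite F] [AddCommGroup V] [Module F V] [FiniteDimensional F V]
  {Q : QuadraticForm F V}

/-- the semilinear similitudes preserve orthogonality -/
theorem polar_semi {g : Equiv.Perm V} {φ : F ≃+* F} {c : F} (hg : SemiIso (fun u _ => Q u) φ c g) (u w : V) :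
    polar Q (g u) (g w) = c * φ (polar Q u w) := by
  have h : ∀ u, Q (g u) = c * φ (Q u) := fun u => hg.form u u
  unfold polar
  rw [← hg.add, h, h, h, map_sub, map_sub]
  ring

section Facts

variable {Γ : Subgroup (V ≃ₗ[F] V)} (hQ : Nondeg Q) (h7 : 7 ≤ finrank F V) (hΓ : Γ = E Q) {s : ℕ} (hs : s.Prime)
  (h3 : 3 ≤ s) (hsF : ¬ s ∣ Nat.card F) {x : MulAut (↥Γ ⧸ center ↥Γ)} (hPC : PC s x) {g : Equiv.Perm V}
  {φ : F ≃+* F} {c : F} (hg : SemiIso (fun u _ => Q u) φ c g) (hx : Comp x g) {e : ℕ} (he : 1 ≤ e)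
include hQ h7 hΓ hs h3 hPC hg hx

/-- `hiso` -/
theorem sec_iso {W : Submodule F V} (hW : ∀ u ∈ W, Q u = 0) (hgW : ∀ v ∈ W, g v ∈ W) (h2 : 2 ≤ finrank F W) {i : ℕ}
    (hi : 1 ≤ i) (hiW : i ≤ finrank F W) (hd : s ∣ Nat.card F ^ i - 1) : ∃ a : F, ∀ v ∈ W, g v = a • v :=
  iso_core hQ (by omega) hΓ hs hPC hg.toSemi hx (by
    intro h
    rw [h, finrank_bot] at h2
    omega) hW hgW (Cfsg.Agent.H809.Sec.sgood_sl hs h3 h2 hi hiW hd) (Cfsg.Agent.H809.Sec.semiGood_sl h2 φ)

include hsF he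

/-- `hpt` -/
theorem sec_pt (hO : GoodO.{u, v}) (hN : 4 * e ≤ finrank F V) (hd : s ∣ Nat.card F ^ (2 * e) - 1) {v : V} (hv0 : v ≠ 0)
    (hv : Q v = 0) (hgv : ∃ a : F, g v = a • v) : ∃ b : F, ∀ w, polar Q v w = 0 → ∃ a : F, g w = b • w + a • v := by
  obtain ⟨l, hl⟩ := hgv
  obtain ⟨y, hy⟩ := exists_hyp hQ hv hv0
  -- the complement
  obtain ⟨h1, h2⟩ := hyp_compl hy
  have hd2 := dec_prp h1
  have hP : prp (frmQ Q) (Submodule.span F {v, y}) = LinearMap.ker (polarBilin Q v) ⊓ LinearMap.ker (polarBilin Q y) := by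
    ext w
    rw [mem_prp_span]
    constructor
    · intro h
      refine ⟨?_, ?_⟩
      · show polar Q v w = 0
        rw [polar_comm]
        exact h v (by simp)
      · show polar Q y w = 0
        rw [polar_comm]
        exact h y (by simp)
    · rintro ⟨h3, h4⟩ z hz
      have h3' : polar Q v w = 0 := h3
      have h4' : polar Q y w = 0 := h4
      rcases hz with rfl | hz
      · show polar Q w _ = 0
        rw [polar_comm]; exact h3'
      · rw [Set.mem_singleton_iff] at hz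
        subst hz
        show polar Q w _ = 0
        rw [polar_comm]; exact h4'
  have hnd : (frmQ Q).NdOn (LinearMap.ker (polarBilin Q v) ⊓ LinearMap.ker (polarBilin Q y)) := by
    rw [← hP]; exact Dec.ndOn_right hd2 hQ
  have hdim : finrank F ↥(LinearMap.ker (polarBilin Q v) ⊓ LinearMap.ker (polarBilin Q y)) + 2 = finrank F V := by
    rw [← hP]
    have := Dec.finrank_add hd2
    omega
  have hnd' := nd_comp_iff.2 hnd
  obtain ⟨hG, hS⟩ := hO F _ _ hnd' (by omega)
  refine pt_core hQ (by omega) hΓ hs hPC hg.toSemi hx (fun u w h => ?_) hy hl (hG s hs h3 hsF ?_) (hS φ)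
  · rw [polar_semi hg, h, map_zero, mul_zero]
  · exact dvd_card_E hnd' (by omega) hs h3 hsF he (Or.inl ⟨by omega, hd⟩)

/-- `hns` (types: `PlusT` of `H847.Bs`) -/
theorem sec_nd (hO : GoodO.{u, v}) {W : Submodule F V} (hnd : ∀ u ∈ W, (∀ v ∈ W, polar Q u v = 0) → u = 0)
    (hgW : ∀ v ∈ W, g v ∈ W) (hW1 : W ≠ ⊤) (h4 : 4 ≤ finrank F W)
    (h : (2 * e < finrank F W ∧ s ∣ Nat.card F ^ (2 * e) - 1) ∨
      (2 * e = finrank F W ∧ ((PlusT (Q.comp W.subtype) ∧ s ∣ Nat.card F ^ e - 1) ∨
        (¬ PlusT (Q.comp W.subtype) ∧ s ∣ Nat.card F ^ e + 1)))) : ∃ a : F, ∀ v ∈ W, g v = a • v := by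
  have hnd' : Nondeg (Q.comp W.subtype) := nd_comp_iff.2 hnd
  obtain ⟨hG, hS⟩ := hO F _ _ hnd' h4
  refine nd_core hQ (by omega) hΓ hs hPC hg.toSemi hx ?_ hW1 hgW (hG s hs h3 hsF ?_) (hS φ)
  · intro h5
    rw [h5, finrank_bot] at h4
    omega
  · exact dvd_card_E hnd' h4 hs h3 hsF he h

end Facts

/-- the type of `W` as in `geo_omega` -/
theorem plusT_iff {W : Submodule F V} {e : ℕ} (h : 2 * e = finrank F W) :
    PlusT (Q.comp W.subtype) ↔ ∃ U ≤ W, (∀ u ∈ U, Q u = 0) ∧ finrank F U = e := by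
  rw [plusT_comp_iff]
  constructor
  · rintro ⟨A, hA, ⟨-, h2⟩, h3⟩
    exact ⟨A, hA, h2, by omega⟩
  · rintro ⟨U, hU, h2, h3⟩
    refine ⟨U, hU, ⟨fun u hu w hw => ?_, h2⟩, by omega⟩
    show polar Q u w = 0
    unfold polar
    rw [h2 _ (U.add_mem hu hw), h2 u hu, h2 w hw, sub_zero, sub_zero]

/-- **All three section facts, in the form of the hypotheses of `geo_omega`.** -/
theorem sec_facts {Γ : Subgroup (V ≃ₗ[F] V)} (hO : GoodO.{u, v}) (hQ : Nondeg Q) (h7 : 7 ≤ finrank F V) (hΓ : Γ = E Q)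
    {s : ℕ} (hs : s.Prime) (h3 : 3 ≤ s) (hsF : ¬ s ∣ Nat.card F) {x : MulAut (↥Γ ⧸ center ↥Γ)} (hPC : PC s x)
    {g : Equiv.Perm V} {φ : F ≃+* F} {c : F} (hg : SemiIso (fun u _ => Q u) φ c g) (hx : Comp x g) {e : ℕ}
    (he : 1 ≤ e) (hN : 4 * e ≤ finrank F V) {eps : Prop} (h1 : eps → s ∣ Nat.card F ^ e - 1)
    (h2 : ¬ eps → s ∣ Nat.card F ^ e + 1) :
    (∀ W : Submodule F V, (∀ u ∈ W, Q u = 0) → (∀ v ∈ W, g v ∈ W) → 2 ≤ finrank F W →
      (2 * e ≤ finrank F W ∨ (eps ∧ e ≤ finrank F W)) → ∃ a : F, ∀ v ∈ W, g v = a • v) ∧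
    (∀ v, v ≠ 0 → Q v = 0 → (∃ a : F, g v = a • v) →
      ∃ b : F, ∀ w, polar Q v w = 0 → ∃ a : F, g w = b • w + a • v) ∧
    (∀ W : Submodule F V, (∀ u ∈ W, (∀ v ∈ W, polar Q u v = 0) → u = 0) → (∀ v ∈ W, g v ∈ W) → W ≠ ⊤ →
      4 ≤ finrank F W → (2 * e < finrank F W ∨
        (2 * e = finrank F W ∧ ((∃ U ≤ W, (∀ u ∈ U, Q u = 0) ∧ finrank F U = e) ↔ eps))) →
      ∃ a : F, ∀ v ∈ W, g v = a • v) := by
  have h6 : Nat.card F ^ (2 * e) - 1 = (Nat.card F ^ e - 1) * (Nat.card F ^ e + 1) := by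
    have h7 := Nat.sq_sub_sq (Nat.card F ^ e) 1
    rw [one_pow] at h7
    rw [mul_comm 2 e, pow_mul, h7, mul_comm]
  have hd : s ∣ Nat.card F ^ (2 * e) - 1 := by
    rw [h6]
    by_cases h : eps
    · exact Dvd.dvd.mul_right (h1 h) _
    · exact Dvd.dvd.mul_left (h2 h) _
  refine ⟨fun W hW hgW hW2 h => ?_, fun v hv0 hv hgv => ?_, fun W hnd hgW hW1 h4 h => ?_⟩
  · rcases h with h | ⟨h, h'⟩
    · exact sec_iso hQ h7 hΓ hs h3 hPC hg hx hW hgW hW2 (by omega) h hd
    · exact sec_iso hQ h7 hΓ hs h3 hPC hg hx hW hgW hW2 he h' (h1 h)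
  · exact sec_pt hQ h7 hΓ hs h3 hsF hPC hg hx he hO hN hd hv0 hv hgv
  · refine sec_nd hQ h7 hΓ hs h3 hsF hPC hg hx he hO hnd hgW hW1 h4 ?_
    rcases h with h | ⟨h, h'⟩
    · exact Or.inl ⟨h, hd⟩
    · right
      refine ⟨h, ?_⟩
      rw [plusT_iff h, h']
      by_cases h8 : eps
      · exact Or.inl ⟨h8, h1 h8⟩
      · exact Or.inr ⟨h8, h2 h8⟩

/-- **A semilinear map which is a scalar on `v^⊥ / v` is linear.** -/
theorem refl_of_pt (hQ : Nondeg Q) (h4 : 4 ≤ finrank F V) {g : Equiv.Perm V} {φ : F ≃+* F} (hg : Semi φ g) {v : V}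
    (hv0 : v ≠ 0) (hv : Q v = 0) {b : F} (h : ∀ w, polar Q v w = 0 → ∃ a : F, g w = b • w + a • v)
    (hgv : ∃ l : F, g v = l • v) : φ = RingEquiv.refl F := by
  obtain ⟨l, hl⟩ := hgv
  obtain ⟨y, hy⟩ := exists_hyp hQ hv hv0
  obtain ⟨P, hP, hP2, hPo⟩ := exists_compl hQ h4 hy
  obtain ⟨w, hw, hw0⟩ := Submodule.exists_mem_ne_zero_of_ne_bot (p := P) (by
    intro h
    rw [h, finrank_bot] at hP2
    omega)
  have hwv : ∀ t : F, w ≠ t • v := by
    intro t ht
    have h1 := (hPo w hw).2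
    rw [ht, polar_smul_right, hy.pair', smul_eq_mul, mul_one] at h1
    rw [h1, zero_smul] at ht
    exact hw0 ht
  have hvw := (hPo w hw).1
  have hl0 : l ≠ 0 := by
    rintro rfl
    rw [zero_smul] at hl
    apply hv0
    apply g.injective
    rw [hl, hg.zero]
  obtain ⟨a, ha⟩ := h w hvw
  have hb0 : b ≠ 0 := by
    rintro rfl
    rw [zero_smul, zero_add] at ha
    -- `g w = a v = g (t v)`
    have h1 : g w = g ((φ.symm (a * l⁻¹)) • v) := by
      rw [hg.smul, φ.apply_symm_apply, hl, smul_smul, mul_assoc, inv_mul_cancel₀ hl0, mul_one, ha]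
    exact hwv _ (g.injective h1)
  ext t
  obtain ⟨a', ha'⟩ := h (t • w) (by rw [polar_smul_right, hvw, smul_zero])
  rw [hg.smul, ha, smul_add, smul_smul, smul_smul, smul_smul] at ha'
  by_contra hne
  have hne' : φ t ≠ t := hne
  have h2 : (b * (φ t - t)) • w = (a' - φ t * a) • v := by
    have h3 : (φ t * b) • w + (φ t * a) • v - ((b * t) • w + a' • v) = 0 := by rw [ha', sub_self]
    have h4 : (b * (φ t - t)) • w - (a' - φ t * a) • v = (φ t * b) • w + (φ t * a) • v - ((b * t) • w + a' • v) := by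
      module
    rw [h3] at h4
    exact sub_eq_zero.1 h4
  have h5 : b * (φ t - t) ≠ 0 := mul_ne_zero hb0 (sub_ne_zero.2 hne')
  apply hwv ((b * (φ t - t))⁻¹ * (a' - φ t * a))
  rw [← smul_smul, ← h2, smul_smul, inv_mul_cancel₀ h5, one_smul]

end Cfsg.Agent.H621.Pi
end

-- part: H621/Pi/NotFix
section
/-!
# S4324, IRR (helper621): automorphisms which normalise no `t`-subgroup

`x : MulAut (Γ / Z(Γ))` induced by the semilinear bijection `g` of `V` (characteristic `t`).
* `Comp.exists_pgroup` : lifting of an `x`-invariant `t`-subgroup;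
* `not_fixR_of_irr` : `V` irreducible under `g`;
* `not_fixR_of_nd` : all `g`-invariant subspaces are nondegenerate (any reflexive form preserved by `Γ`).
-/

set_option autoImplicit false
set_option linter.unusedSectionVars false

namespace Cfsg.Agent.H621.Pi

open Subgroup Cfsg Cfsg.Agent.H459.Rad Cfsg.Agent.H459.Iface
open Cfsg.Agent.BpCl (Semi SemiIso)
open Cfsg.Agent.H952.Rc (Comp)
open Cfsg.Agent.H847.Bs (Frm)
open Cfsg.Agent.H440.Bs (perp mem_perp mem_perp' finrank_perp)

/-- a `t`-subgroup of a central quotient lifts to a `t`-group containing all `t`-elements of the preimage -/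
theorem exists_lift {G H : Type*} [Group G] [Finite G] [Group H] (f : G →* H) (hf : f.ker ≤ center G)
    (hfs : Function.Surjective f) {t : ℕ}
    [ht : Fact t.Prime] (R : Subgroup H) (hR : IsPGroup t R) (hR1 : R ≠ ⊥) :
    ∃ P : Subgroup G, P ≠ ⊥ ∧ IsPGroup t P ∧ ∀ h : G, h ∈ P ↔ (f h ∈ R ∧ ∃ k : ℕ, h ^ t ^ k = 1) := by
  have hH : Finite H := Finite.of_surjective f hfs
  set R' : Subgroup G := R.comap f with hR'
  let f' : R' →* R := (f.comp R'.subtype).codRestrict R fun h => h.2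
  have hk : f'.ker ≤ center R' := by
    intro h hh
    rw [MonoidHom.mem_ker] at hh
    have h1 : (h : G) ∈ f.ker := by
      rw [MonoidHom.mem_ker]
      exact congrArg Subtype.val hh
    rw [mem_center_iff]
    intro k
    exact Subtype.ext (mem_center_iff.1 (hf h1) k)
  have hRn : Group.IsNilpotent R := hR.isNilpotent
  have hn : Group.IsNilpotent R' := Subgroup.isNilpotent_of_ker_le_center f' hk
  obtain ⟨P0⟩ : Nonempty (Sylow t R') := inferInstance
  have hnorm : (P0 : Subgroup R').Normal := by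
    have h1 := (Group.isNilpotent_of_finite_tfae (G := R')).out 0 3
    exact (h1.1 hn) t ht P0
  have hf's : Function.Surjective f' := by
    rintro ⟨b, hb⟩
    obtain ⟨a, rfl⟩ := hfs b
    exact ⟨⟨a, hb⟩, rfl⟩
  have hall : ∀ h : R', (∃ k : ℕ, h ^ t ^ k = 1) → h ∈ P0 := by
    rintro h ⟨k, hk⟩
    have h1 : IsPGroup t (zpowers h) := by
      rw [IsPGroup.iff_card]
      obtain ⟨m, -, hm⟩ := (Nat.dvd_prime_pow ht.out).1 (orderOf_dvd_of_pow_eq_one hk)
      exact ⟨m, by rw [Nat.card_zpowers, hm]⟩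
    obtain ⟨P1, hP1⟩ := h1.exists_le_sylow
    have h2 : P1 = P0 := by
      have := Sylow.unique_of_normal P0 hnorm
      exact Subsingleton.elim _ _
    rw [← h2]
    exact hP1 (mem_zpowers h)
  refine ⟨(P0 : Subgroup R').map R'.subtype, ?_, P0.isPGroup'.map _, fun h => ⟨?_, ?_⟩⟩
  · intro h
    have h1 : (P0 : Subgroup R') = ⊥ := (Subgroup.map_eq_bot_iff_of_injective _ R'.subtype_injective).1 h
    have h2 : t ∣ Nat.card R' := by
      have h3 : t ∣ Nat.card R := by
        obtain ⟨n, hn⟩ := IsPGroup.iff_card.1 hR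
        rcases Nat.eq_zero_or_pos n with h4 | h4
        · exfalso
          apply hR1
          rw [h4, pow_zero] at hn
          exact Subgroup.eq_bot_of_card_eq _ hn
        · rw [hn]
          exact dvd_pow_self _ h4.ne'
      exact h3.trans (Subgroup.card_dvd_of_surjective f' hf's)
    exact Sylow.ne_bot_of_dvd_card P0 h2 h1
  · rintro ⟨a, ha, rfl⟩
    refine ⟨a.2, ?_⟩
    obtain ⟨k, hk⟩ := P0.isPGroup' ⟨a, ha⟩
    refine ⟨k, ?_⟩
    have h1 := congrArg (fun z : P0 => ((z : R') : G)) hk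
    simpa only [_root_.Subgroup.subtype_apply, _root_.SubmonoidClass.mk_pow, _root_.SubmonoidClass.coe_pow, _root_.OneMemClass.coe_one] using h1
  · rintro ⟨h1, k, hk⟩
    exact ⟨⟨h, h1⟩, hall _ ⟨k, Subtype.ext hk⟩, rfl⟩

universe u v

section

variable {F : Type u} {V : Type v} [Field F] [AddCommGroup V] [Module F V] {Γ : Subgroup (V ≃ₗ[F] V)}

/-- an `x`-invariant `t`-subgroup gives a `t`-subgroup of `Γ` normalised by `g` -/
theorem exists_pgroup [Finite V] {x : MulAut (↥Γ ⧸ center ↥Γ)} {g : Equiv.Perm V} (hx : Comp x g) {t : ℕ}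
    [ht : Fact t.Prime] (h : FixR t x) :
    ∃ P : Subgroup ↥Γ, P ≠ ⊥ ∧ IsPGroup t P ∧ ∀ h ∈ P, ∃ k ∈ P, ∀ v, h.1 (g v) = g (k.1 v) := by
  have hf0 : Finite (V ≃ₗ[F] V) := Finite.of_injective (fun h : V ≃ₗ[F] V => (h : V → V)) DFunLike.coe_injective
  obtain ⟨R, hR1, hR, hRx⟩ := h
  obtain ⟨P, hP1, hP, hPm⟩ := exists_lift (QuotientGroup.mk' (center ↥Γ)) (by rw [QuotientGroup.ker_mk'])
    (QuotientGroup.mk'_surjective _) R hR hR1
  refine ⟨P, hP1, hP, ?_⟩
  -- the conjugate of an element of `P`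
  have key : ∀ h : P, ∃ h' : P, ∀ v, h'.1.1 (g v) = g (h.1.1 v) := by
    intro h
    obtain ⟨h', hh', hx'⟩ := hx h.1
    refine ⟨⟨h', (hPm h').2 ⟨?_, ?_⟩⟩, hh'⟩
    · rw [← hx']
      exact hRx _ ((hPm _).1 h.2).1
    · obtain ⟨k, hk⟩ := ((hPm _).1 h.2).2
      refine ⟨k, Subtype.ext (LinearEquiv.ext fun w => ?_)⟩
      obtain ⟨v, rfl⟩ := g.surjective w
      have hpow : ∀ (n : ℕ) (v : V), (h' ^ n).1 (g v) = g ((h.1 ^ n).1 v) := by
        intro n
        induction n with
        | zero => intro v; rfl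
        | succ n ih =>
          intro v
          have e1 : (h' ^ (n + 1)).1 (g v) = (h' ^ n).1 (h'.1 (g v)) := by
            rw [pow_succ]; rfl
          have e2 : (h.1 ^ (n + 1)).1 v = (h.1 ^ n).1 (h.1.1 v) := by
            rw [pow_succ]; rfl
          rw [e1, hh', ih, e2]
      rw [hpow, hk]
      rfl
  choose c hc using key
  have hinj : Function.Injective c := by
    intro a b hab
    apply Subtype.ext
    apply Subtype.ext
    apply LinearEquiv.ext
    intro v
    apply g.injective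
    rw [← hc, ← hc, hab]
  have hsurj := Finite.injective_iff_surjective.1 hinj
  intro h hh
  obtain ⟨k, hk⟩ := hsurj ⟨h, hh⟩
  refine ⟨k.1, k.2, fun v => ?_⟩
  rw [← hc, hk]

/-- the fixed vectors of `P` in `V` -/
def fx (P : Subgroup ↥Γ) : Submodule F V where
  carrier := {v | ∀ h ∈ P, h.1 v = v}
  add_mem' {a b} ha hb h hh := by rw [map_add, ha h hh, hb h hh]
  zero_mem' h _ := map_zero _
  smul_mem' c a ha h hh := by rw [map_smul, ha h hh]

theorem fx_inv {g : Equiv.Perm V} {P : Subgroup ↥Γ} (hg : ∀ h ∈ P, ∃ k ∈ P, ∀ v, h.1 (g v) = g (k.1 v)) :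
    ∀ v ∈ fx P, g v ∈ fx P := by
  intro v hv h hh
  obtain ⟨k, hk, e⟩ := hg h hh
  rw [e, hv k hk]

theorem fx_ne_top {P : Subgroup ↥Γ} (hP : P ≠ ⊥) : fx P ≠ ⊤ := by
  intro h
  apply hP
  rw [eq_bot_iff]
  intro a ha
  rw [mem_bot]
  apply Subtype.ext
  apply LinearEquiv.ext
  intro v
  have h1 : v ∈ fx P := by rw [h]; trivial
  exact h1 a ha

/-- a `t`-group has fixed vectors in every nonzero invariant subspace -/
theorem exists_fx [Finite V] {t : ℕ} [ht : Fact t.Prime] [CharP F t] {P : Subgroup ↥Γ} (hP : IsPGroup t P)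
    {W : Submodule F V} (hW : W ≠ ⊥) (hPW : ∀ h ∈ P, ∀ w ∈ W, h.1 w ∈ W) : ∃ w ∈ W, w ≠ 0 ∧ w ∈ fx P := by
  let _ : MulAction P W :=
    { smul := fun h w => ⟨h.1.1 w, hPW h.1 h.2 w w.2⟩
      one_smul := fun w => rfl
      mul_smul := fun a b w => rfl }
  have h1 := hP.card_modEq_card_fixedPoints W
  have h2 : t ∣ Nat.card W := by
    obtain ⟨w, hw, hw0⟩ := Submodule.exists_mem_ne_zero_of_ne_bot hW
    have h3 : addOrderOf (⟨w, hw⟩ : W) = t := by
      apply addOrderOf_eq_prime
      · apply Subtype.ext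
        show t • w = 0
        rw [← Nat.cast_smul_eq_nsmul F, CharP.cast_eq_zero, zero_smul]
      · intro h
        exact hw0 (congrArg Subtype.val h)
    rw [← h3]
    exact addOrderOf_dvd_natCard _
  have h3 : t ∣ Nat.card (MulAction.fixedPoints P W) := (h1.dvd_iff dvd_rfl).1 h2
  have h4 : (0 : W) ∈ MulAction.fixedPoints P W := fun h => Subtype.ext (map_zero _)
  have h5 : 1 < Nat.card (MulAction.fixedPoints P W) := by
    refine lt_of_lt_of_le ht.out.one_lt (Nat.le_of_dvd ?_ h3)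
    have : Nonempty (MulAction.fixedPoints P W) := ⟨⟨0, h4⟩⟩
    exact Nat.card_pos
  obtain ⟨a, ha⟩ : ∃ a : MulAction.fixedPoints P W, a ≠ ⟨0, h4⟩ := by
    have : Nontrivial (MulAction.fixedPoints P W) := Finite.one_lt_card_iff_nontrivial.1 h5
    exact exists_ne _
  refine ⟨a.1, a.1.2, ?_, ?_⟩
  · intro h
    exact ha (Subtype.ext (Subtype.ext h))
  · intro h hh
    exact congrArg Subtype.val (a.2 ⟨h, hh⟩)

/-- **Irreducible automorphisms normalise no `t`-subgroup.** -/
theorem not_fixR_of_irr [Finite V] [Nontrivial V] {t : ℕ} [ht : Fact t.Prime] [CharP F t]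
    {x : MulAut (↥Γ ⧸ center ↥Γ)} {g : Equiv.Perm V} (hx : Comp x g)
    (hirr : ∀ W : Submodule F V, (∀ v ∈ W, g v ∈ W) → W = ⊥ ∨ W = ⊤) : ¬ FixR t x := by
  intro h
  obtain ⟨P, hP1, hP, hPg⟩ := exists_pgroup hx h
  rcases hirr (fx P) (fx_inv hPg) with h1 | h1
  · obtain ⟨w, -, hw0, hw⟩ := exists_fx hP (W := (⊤ : Submodule F V)) top_ne_bot (fun _ _ _ _ => trivial)
    rw [h1] at hw
    exact hw0 hw
  · exact fx_ne_top hP1 h1

/-- **If all invariant subspaces are nondegenerate then the automorphism normalises no `t`-subgroup.** -/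
theorem not_fixR_of_nd [Finite V] [FiniteDimensional F V] {t : ℕ} [ht : Fact t.Prime] [CharP F t] {Φ : Frm F V}
    (hN : Φ.Nd) (hΓ : ∀ h ∈ Γ, ∀ u v, Φ.B (h u) (h v) = Φ.B u v) {x : MulAut (↥Γ ⧸ center ↥Γ)} {g : Equiv.Perm V}
    (hx : Comp x g)
    (hnd : ∀ W : Submodule F V, (∀ v ∈ W, g v ∈ W) → ∀ u ∈ W, (∀ v ∈ W, Φ.B u v = 0) → u = 0) : ¬ FixR t x := by
  intro h
  obtain ⟨P, hP1, hP, hPg⟩ := exists_pgroup hx h
  have h1 : perp Φ (fx P) ≠ ⊥ := by
    intro h2
    apply fx_ne_top hP1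
    have h3 := finrank_perp Φ hN (fx P)
    rw [h2, finrank_bot, add_zero] at h3
    exact Submodule.eq_top_of_finrank_eq h3
  obtain ⟨w, hw, hw0, hwf⟩ := exists_fx hP h1 (fun h hh w hw a ha => by
    rw [← ha h hh, hΓ h.1 h.2]
    exact hw a ha)
  exact hw0 (hnd (fx P) (fx_inv hPg) w hwf hw)

end

end Cfsg.Agent.H621.Pi
end

-- part: H383/Pi/SingEigen
section
/-!
# S4324, SEMI-O: a semilinear similitude of prime order modulo scalars fixes a singular point (helper383)

`exists_sing_eigen` (any prime `p`).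
-/

set_option autoImplicit false

namespace Cfsg.Agent.H383.Pi

open Cfsg.Agent.BpCl QuadraticMap

universe u v

variable {F : Type u} {V : Type v} [Field F] [AddCommGroup V] [Module F V]

theorem nrm_eq (φ : F ≃+* F) (t : F) (n : ℕ) : Cfsg.Agent.BpLin.nrm φ n t = BpCl.nrm φ t n := by
  unfold Cfsg.Agent.BpLin.nrm BpCl.nrm
  exact Finset.prod_congr rfl fun i _ => iterate_eq_pow φ i t

set_option linter.unusedVariables false in
/-- **a singular fixed point of a semilinear similitude** -/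
theorem exists_sing_eigen [Finite F] [FiniteDimensional F V] {Q : QuadraticForm F V} (hd : 3 ≤ Module.finrank F V)
    {p : ℕ} (hp : p.Prime) {g : Equiv.Perm V} {φ : F ≃+* F} {c a : F} (hg : SemiIso (fun u _ => Q u) φ c g)
    (hc : c ≠ 0) (ha : a ≠ 0) (hga : ∀ v, (g ^ p) v = a • v) (hφ : φ ≠ RingEquiv.refl F) :
    ∃ v, v ≠ 0 ∧ Q v = 0 ∧ ∃ l : F, g v = l • v := by
  have hnt : Nontrivial V := Module.nontrivial_of_finrank_pos (R := F) (by omega)
  have hφp := H551.PiSp.iter_eq hg.toSemi ha hga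
  obtain ⟨t, ht, htp⟩ := H551.PiSp.exists_scale hg.toSemi hp ha hga hφ
  have hg' : SemiIso (fun u _ => Q u) φ (t ^ 2 * c) (smulPerm t ht g) := by
    refine ⟨hg.toSemi.smulPerm ht, fun u v => ?_⟩
    change Q (t • g u) = _
    have h1 : Q (g u) = c * φ (Q u) := hg.form u u
    rw [QuadraticMap.map_smul, h1, smul_eq_mul]
    ring
  have hback : ∀ v, (smulPerm t ht g) v = v → ∃ l : F, g v = l • v := by
    intro v hv
    refine ⟨t⁻¹, ?_⟩
    have h1 : t • g v = v := hv
    rw [eq_inv_smul_iff₀ ht, h1]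
  by_cases hQ : ∀ v, Q v = 0
  · obtain ⟨v, hv0, hv⟩ := Cfsg.Agent.H952.Rc.exists_fixed hp hg'.toSemi htp hφp hφ
    exact ⟨v, hv0, hQ v, hback v hv⟩
  push Not at hQ
  obtain ⟨u0, hu0⟩ := hQ
  -- the norm of the factor
  have hN : BpCl.nrm φ (t ^ 2 * c) p = 1 := by
    have h1 := hg'.pow_form p u0 u0
    rw [htp, hφp] at h1
    have h2 : Q u0 = BpCl.nrm φ (t ^ 2 * c) p * Q u0 := h1
    exact (mul_right_cancel₀ hu0 (h2.symm.trans (one_mul _).symm))
  have hσ : (φ : RingAut F) ^ p = 1 := by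
    apply RingEquiv.ext
    intro b
    rw [iterate_eq_pow, hφp]
    rfl
  obtain ⟨y, hy, hy'⟩ := Cfsg.Agent.BpLin.exists_units hp hσ (fun h => hφ h) (t := t ^ 2 * c)
    (by rw [nrm_eq]; exact hN)
  have hφy : φ y ≠ 0 := by simpa using hy
  have hg1 : SemiIso (fun u _ => (y⁻¹ • Q) u) φ 1 (smulPerm t ht g) := by
    refine ⟨hg'.toSemi, fun u v => ?_⟩
    have h1 : Q ((smulPerm t ht g) u) = t ^ 2 * c * φ (Q u) := hg'.form u u
    change y⁻¹ * Q ((smulPerm t ht g) u) = 1 * φ (y⁻¹ * Q u)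
    rw [h1, map_mul, map_inv₀, one_mul, ← mul_assoc, ← mul_assoc]
    congr 1
    apply eq_inv_of_mul_eq_one_left
    have h2 : y⁻¹ * t ^ 2 * c * φ y = y⁻¹ * (t ^ 2 * c * φ y) := by ring
    rw [h2, hy', inv_mul_cancel₀ hy]
  have hspan := span_U hg1.toSemi hp htp hφp hφ
  obtain ⟨ι, _, b, b0, -⟩ := exists_basis hg1.toSemi hspan
  have hfin : Module.Finite (K0 φ) (U hg1.toSemi) := Module.Finite.of_basis b0
  have hdim : 3 ≤ Module.finrank (K0 φ) (⊤ : Submodule (K0 φ) (U hg1.toSemi)) := by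
    rw [finrank_top, Module.finrank_eq_card_basis b0, ← Module.finrank_eq_card_basis b]
    exact hd
  obtain ⟨w, -, hw0, hw⟩ := Cfsg.Agent.LieClassical.OrthFinite.exists_sing_mem (Q := quad0 hg1) ⊤ hdim
  refine ⟨w, fun h => hw0 (Subtype.ext h), ?_, hback w w.2⟩
  have h1 : ((quad0 hg1 w : K0 φ) : F) = 0 := by rw [hw]; rfl
  have h2 : y⁻¹ * Q (w : V) = 0 := h1
  exact (mul_eq_zero.1 h2).resolve_left (inv_ne_zero hy)

end Cfsg.Agent.H383.Pi
end

-- part: H621/Pi/OmegaCore
section
/-!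
# S4324: automorphisms of `POmega` with `PC s x` (helper621)

* `refl_of_semi` : `x` is not semilinear;
* `nd_of_two` : the exceptional case of `geo_omega`: all invariant subspaces are nondegenerate;
* `omega_core` : `x = 1` or `x` normalises no `t`-subgroup.
-/

set_option autoImplicit false
set_option linter.unusedSectionVars false

namespace Cfsg.Agent.H621.Pi

open Module QuadraticMap Subgroup Cfsg.Agent.LieClassical.OrthCore Cfsg.Agent.LieClassical.OrthTrans
open Cfsg.Agent.H847.Bs Cfsg.Agent.H826.Bs Cfsg.Agent.H216.Pi Cfsg.Agent.H459.Iface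
open Cfsg.Agent.BpCl (Semi SemiIso)
open Cfsg.Agent.H952.Rc (Comp)

universe u v

/-- the statement of `geo_omega` -/
def GeoO : Prop := ∀ {F : Type u} {V : Type v} [Field F] [Finite F] [AddCommGroup V] [Module F V]
    [FiniteDimensional F V] {Q : QuadraticForm F V} (_ : ∀ u, (∀ v, polar Q u v = 0) → u = 0)
    {p : ℕ} (_ : p.Prime) (X : V ≃ₗ[F] V) {c : F} (_ : ∀ u, Q (X u) = c * Q u) (_ : Scal F ⇑(X ^ p))
    {e : ℕ} (_ : 1 ≤ e) (eps : Prop) (_ : 4 * e ≤ Module.finrank F V) (_ : 7 ≤ Module.finrank F V)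
    (_ : 4 * e = Module.finrank F V → ∃ U ≤ (⊤ : Submodule F V), (∀ u ∈ U, Q u = 0) ∧ Module.finrank F U = 2 * e)
    (_ : ∀ W : Submodule F V, (∀ u ∈ W, Q u = 0) → (∀ v ∈ W, X v ∈ W) → 2 ≤ Module.finrank F W →
      (2 * e ≤ Module.finrank F W ∨ (eps ∧ e ≤ Module.finrank F W)) → ∃ a : F, ∀ v ∈ W, X v = a • v)
    (_ : ∀ v, v ≠ 0 → Q v = 0 → (∃ a : F, X v = a • v) →
      ∃ b : F, ∀ w, polar Q v w = 0 → ∃ a : F, X w = b • w + a • v)
    (_ : ∀ W : Submodule F V, (∀ u ∈ W, (∀ v ∈ W, polar Q u v = 0) → u = 0) → (∀ v ∈ W, X v ∈ W) → W ≠ ⊤ →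
      4 ≤ Module.finrank F W → (2 * e < Module.finrank F W ∨ (2 * e = Module.finrank F W ∧
        ((∃ U ≤ W, (∀ u ∈ U, Q u = 0) ∧ Module.finrank F U = e) ↔ eps))) →
      ∃ a : F, ∀ v ∈ W, X v = a • v),
    Scal F ⇑X ∨ (∀ W : Submodule F V, (∀ v ∈ W, X v ∈ W) → W = ⊥ ∨ W = ⊤) ∨
      (4 * e = Module.finrank F V ∧ eps ∧ ∃ W W' : Submodule F V, IsCompl W W' ∧ (∀ v ∈ W, X v ∈ W) ∧
        (∀ v ∈ W', X v ∈ W') ∧ (∀ u ∈ W, ∀ v ∈ W', polar Q u v = 0) ∧ Module.finrank F W = 2 * e ∧
        (∀ U ≤ W, (∀ v ∈ U, X v ∈ U) → U = ⊥ ∨ U = W) ∧ (∀ U ≤ W', (∀ v ∈ U, X v ∈ U) → U = ⊥ ∨ U = W') ∧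
        ∀ T : W ≃ₗ[F] W', ¬ ∀ w : W, ∀ h : X w ∈ W, (T ⟨X w, h⟩ : V) = X (T w))

variable {F : Type u} {V : Type v} [Field F] [Finite F] [AddCommGroup V] [Module F V] [FiniteDimensional F V]
  {Q : QuadraticForm F V}

/-- the invariant subspaces of the sum of two nonisomorphic irreducible submodules -/
theorem inv_of_two {X : V ≃ₗ[F] V} {W W' : Submodule F V} (hc : IsCompl W W') (hW : ∀ v ∈ W, X v ∈ W)
    (hW' : ∀ v ∈ W', X v ∈ W') (h1 : ∀ U ≤ W, (∀ v ∈ U, X v ∈ U) → U = ⊥ ∨ U = W)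
    (h2 : ∀ U ≤ W', (∀ v ∈ U, X v ∈ U) → U = ⊥ ∨ U = W')
    (h3 : ∀ T : W ≃ₗ[F] W', ¬ ∀ w : W, ∀ h : X w ∈ W, (T ⟨X w, h⟩ : V) = X (T w)) {A : Submodule F V}
    (hA : ∀ v ∈ A, X v ∈ A) : A = ⊥ ∨ A = W ∨ A = W' ∨ A = ⊤ := by
  have e1 := h1 (A ⊓ W) inf_le_right fun v hv => ⟨hA v hv.1, hW v hv.2⟩
  have e2 := h2 (A ⊓ W') inf_le_right fun v hv => ⟨hA v hv.1, hW' v hv.2⟩
  rcases e1 with e1 | e1
  · rcases e2 with e2 | e2
    · -- both intersections trivial
      left
      by_contra hA0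
      -- the projections
      let pW : V →ₗ[F] W := W.projectionOnto W' hc
      let pW' : V →ₗ[F] W' := W'.projectionOnto W hc.symm
      have hsum : ∀ v : V, (pW v : V) + (pW' v : V) = v := fun v => Submodule.projection_add_projection_eq_self hc v
      have hXW : ∀ v, (pW (X v) : V) = X (pW v) ∧ (pW' (X v) : V) = X (pW' v) := by
        intro v
        have h4 : (pW (X v) : V) + (pW' (X v) : V) = X (pW v) + X (pW' v) := by
          rw [hsum, ← map_add, hsum]
        have h5 : (pW (X v) : V) - X (pW v) = X (pW' v) - (pW' (X v) : V) := by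
          rw [sub_eq_sub_iff_add_eq_add, h4, add_comm]
        have h6 : (pW (X v) : V) - X (pW v) ∈ W ⊓ W' := by
          refine ⟨W.sub_mem (pW _).2 (hW _ (pW _).2), ?_⟩
          rw [h5]
          exact W'.sub_mem (hW' _ (pW' _).2) (pW' _).2
        rw [hc.inf_eq_bot, Submodule.mem_bot] at h6
        refine ⟨sub_eq_zero.1 h6, ?_⟩
        rw [h6] at h5
        exact (sub_eq_zero.1 h5.symm).symm
      -- `A → W`
      have hinj : Function.Injective (pW.domRestrict A) := by
        rw [← LinearMap.ker_eq_bot, LinearMap.ker_eq_bot']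
        intro a ha
        have h4 : (pW (a : V) : V) = 0 := by
          have : pW (a : V) = 0 := ha
          rw [this]; rfl
        have h5 := hsum a
        rw [h4, zero_add] at h5
        have h6 : (a : V) ∈ A ⊓ W' := ⟨a.2, by rw [← h5]; exact (pW' _).2⟩
        rw [e2, Submodule.mem_bot] at h6
        exact Subtype.ext h6
      have hinj' : Function.Injective (pW'.domRestrict A) := by
        rw [← LinearMap.ker_eq_bot, LinearMap.ker_eq_bot']
        intro a ha
        have h4 : (pW' (a : V) : V) = 0 := by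
          have : pW' (a : V) = 0 := ha
          rw [this]; rfl
        have h5 := hsum a
        rw [h4, add_zero] at h5
        have h6 : (a : V) ∈ A ⊓ W := ⟨a.2, by rw [← h5]; exact (pW _).2⟩
        rw [e1, Submodule.mem_bot] at h6
        exact Subtype.ext h6
      obtain ⟨a₀, ha₀, ha₀0⟩ := Submodule.exists_mem_ne_zero_of_ne_bot hA0
      have hsurj : Function.Surjective (pW.domRestrict A) := by
        have h4 := h1 ((LinearMap.range (pW.domRestrict A)).map W.subtype) (Submodule.map_subtype_le _ _) ?_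
        · rcases h4 with h4 | h4
          · exfalso
            have h5 : ((pW.domRestrict A) ⟨a₀, ha₀⟩ : V) ∈ (LinearMap.range (pW.domRestrict A)).map W.subtype :=
              ⟨_, ⟨⟨a₀, ha₀⟩, rfl⟩, rfl⟩
            rw [h4, Submodule.mem_bot] at h5
            have h6 : (pW.domRestrict A) ⟨a₀, ha₀⟩ = 0 := Subtype.ext h5
            have h7 := hinj (h6.trans (map_zero _).symm)
            exact ha₀0 (congrArg Subtype.val h7)
          · intro w
            have h5 : (w : V) ∈ (LinearMap.range (pW.domRestrict A)).map W.subtype := by rw [h4]; exact w.2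
            obtain ⟨_, ⟨a, rfl⟩, ha⟩ := h5
            exact ⟨a, Subtype.ext ha⟩
        · rintro _ ⟨_, ⟨a, rfl⟩, rfl⟩
          refine ⟨pW (X a), ⟨⟨X a, hA a a.2⟩, rfl⟩, ?_⟩
          exact (hXW a).1
      have hsurj' : Function.Surjective (pW'.domRestrict A) := by
        have h4 := h2 ((LinearMap.range (pW'.domRestrict A)).map W'.subtype) (Submodule.map_subtype_le _ _) ?_
        · rcases h4 with h4 | h4
          · exfalso
            have h5 : ((pW'.domRestrict A) ⟨a₀, ha₀⟩ : V) ∈ (LinearMap.range (pW'.domRestrict A)).map W'.subtype :=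
              ⟨_, ⟨⟨a₀, ha₀⟩, rfl⟩, rfl⟩
            rw [h4, Submodule.mem_bot] at h5
            have h6 : (pW'.domRestrict A) ⟨a₀, ha₀⟩ = 0 := Subtype.ext h5
            have h7 := hinj' (h6.trans (map_zero _).symm)
            exact ha₀0 (congrArg Subtype.val h7)
          · intro w
            have h5 : (w : V) ∈ (LinearMap.range (pW'.domRestrict A)).map W'.subtype := by rw [h4]; exact w.2
            obtain ⟨_, ⟨a, rfl⟩, ha⟩ := h5
            exact ⟨a, Subtype.ext ha⟩
        · rintro _ ⟨_, ⟨a, rfl⟩, rfl⟩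
          refine ⟨pW' (X a), ⟨⟨X a, hA a a.2⟩, rfl⟩, ?_⟩
          exact (hXW a).2
      let f : A ≃ₗ[F] W := LinearEquiv.ofBijective _ ⟨hinj, hsurj⟩
      let f' : A ≃ₗ[F] W' := LinearEquiv.ofBijective _ ⟨hinj', hsurj'⟩
      refine h3 (f.symm.trans f') fun w h => ?_
      obtain ⟨a, rfl⟩ := f.surjective w
      have h4 : (⟨X (f a), h⟩ : W) = f ⟨X a, hA a a.2⟩ := by
        apply Subtype.ext
        exact ((hXW a).1).symm
      rw [h4, LinearEquiv.trans_apply, LinearEquiv.trans_apply, f.symm_apply_apply, f.symm_apply_apply]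
      exact (hXW a).2
    · -- `W' ≤ A`
      right; right; left
      have h4 : W' ≤ A := by rw [← e2]; exact inf_le_left
      refine le_antisymm (fun a ha => ?_) h4
      obtain ⟨w, hw, w', hw', rfl⟩ := Submodule.mem_sup.1 (show a ∈ W ⊔ W' by rw [hc.sup_eq_top]; trivial)
      have h5 : w ∈ A ⊓ W := ⟨by
        have := A.sub_mem ha (h4 hw')
        rwa [add_sub_cancel_right] at this, hw⟩
      rw [e1, Submodule.mem_bot] at h5
      rw [h5, zero_add]
      exact hw'
  · have h4 : W ≤ A := by rw [← e1]; exact inf_le_left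
    rcases e2 with e2 | e2
    · right; left
      refine le_antisymm (fun a ha => ?_) h4
      obtain ⟨w, hw, w', hw', rfl⟩ := Submodule.mem_sup.1 (show a ∈ W ⊔ W' by rw [hc.sup_eq_top]; trivial)
      have h5 : w' ∈ A ⊓ W' := ⟨by
        have := A.sub_mem ha (h4 hw)
        rwa [add_sub_cancel_left] at this, hw'⟩
      rw [e2, Submodule.mem_bot] at h5
      rw [h5, add_zero]
      exact hw
    · right; right; right
      have h5 : W' ≤ A := by rw [← e2]; exact inf_le_left
      rw [eq_top_iff, ← hc.sup_eq_top]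
      exact sup_le h4 h5

/-- **The exceptional case**: all invariant subspaces are nondegenerate. -/
theorem nd_of_two (hQ : Nondeg Q) {X : V ≃ₗ[F] V} {W W' : Submodule F V} (hc : IsCompl W W') (hW : ∀ v ∈ W, X v ∈ W)
    (hW' : ∀ v ∈ W', X v ∈ W') (ho : ∀ u ∈ W, ∀ v ∈ W', polar Q u v = 0)
    (h1 : ∀ U ≤ W, (∀ v ∈ U, X v ∈ U) → U = ⊥ ∨ U = W)
    (h2 : ∀ U ≤ W', (∀ v ∈ U, X v ∈ U) → U = ⊥ ∨ U = W')
    (h3 : ∀ T : W ≃ₗ[F] W', ¬ ∀ w : W, ∀ h : X w ∈ W, (T ⟨X w, h⟩ : V) = X (T w)) {A : Submodule F V}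
    (hA : ∀ v ∈ A, X v ∈ A) : ∀ u ∈ A, (∀ v ∈ A, polar Q u v = 0) → u = 0 := by
  have hdec : (frmQ Q).Dec W W' := ⟨hc, ho⟩
  rcases inv_of_two hc hW hW' h1 h2 h3 hA with h | h | h | h
  · subst h
    intro u hu _
    exact (Submodule.mem_bot F).1 hu
  · subst h
    exact Dec.ndOn_left hdec hQ
  · subst h
    exact Dec.ndOn_right hdec hQ
  · subst h
    intro u _ hu
    exact hQ u fun y => hu y trivial

section Main

variable {Γ : Subgroup (V ≃ₗ[F] V)}

/-- an automorphism induced by a scalar is trivial -/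
theorem eq_one_of_scal {x : MulAut (↥Γ ⧸ center ↥Γ)} {g : Equiv.Perm V} (hx : Comp x g) (h : Scal F ⇑g) : x = 1 := by
  obtain ⟨c, hc⟩ := h
  ext k
  have hob_ := QuotientGroup.mk'_surjective (center ↥Γ) k
  obtain ⟨h', rfl⟩ := hob_
  rw [hx.apply (h' := h') (fun v => by rw [hc, hc, map_smul])]
  rfl

/-- two-dimensional invariant subspaces of a linear map with scalar square -/
theorem exists_small {X : V ≃ₗ[F] V} {a : F} (h : ∀ v, X (X v) = a • v) (v : V) :
    (∀ w ∈ Submodule.span F {v, X v}, X w ∈ Submodule.span F {v, X v}) ∧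
      finrank F (Submodule.span F {v, X v}) ≤ 2 := by
  classical
  constructor
  · have h1 : Submodule.span F {v, X v} ≤ (Submodule.span F {v, X v}).comap (X : V →ₗ[F] V) := by
      rw [Submodule.span_le]
      rintro w (rfl | rfl)
      · exact Submodule.subset_span (by simp)
      · change X (X v) ∈ Submodule.span F {v, X v}
        rw [h]
        exact Submodule.smul_mem _ _ (Submodule.subset_span (by simp))
    exact fun w hw => h1 hw
  · have h2 := finrank_span_le_card (R := F) ({v, X v} : Set V)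
    refine h2.trans ?_
    rw [Set.toFinset_card]
    have h3 := Set.ncard_insert_le v ({X v} : Set V)
    rw [Set.ncard_singleton] at h3
    rwa [← Nat.card_eq_fintype_card, Nat.card_coe_set_eq]

/-- **The core of the rows of `POmega`.** -/
theorem omega_core (hO : GoodO.{u, v}) (hGeo : GeoO.{u, v}) (hQ : Nondeg Q) (h7 : 7 ≤ finrank F V) (hΓ : Γ = E Q)
    {s t : ℕ} (hs : s.Prime) (h3 : 3 ≤ s) [ht : Fact t.Prime] [CharP F t] (hst : s ≠ t)
    {x : MulAut (↥Γ ⧸ center ↥Γ)} (hPC : PC s x) {p : ℕ} (hp : p.Prime)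
    {g : Equiv.Perm V} {φ : F ≃+* F} {c a : F} (hg : SemiIso (fun u _ => Q u) φ c g) (hc : c ≠ 0) (ha : a ≠ 0)
    (hga : ∀ v, (g ^ p) v = a • v) (hx : Comp x g) {e : ℕ} (he : 1 ≤ e) (hN : 4 * e ≤ finrank F V)
    (hplus : 4 * e = finrank F V → PlusT Q) {eps : Prop} (h1 : eps → s ∣ Nat.card F ^ e - 1)
    (h2 : ¬ eps → s ∣ Nat.card F ^ e + 1) : x = 1 ∨ (¬ FixR t x ∧ φ = RingEquiv.refl F ∧ p ≠ 2) := by
  have hV : Finite V := finite_V F V
  have hVn : Nontrivial V := Module.nontrivial_of_finrank_pos (R := F) (by omega)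
  have hsF : ¬ s ∣ Nat.card F := by
    intro h
    have hF : Fintype F := Fintype.ofFinite F
    obtain ⟨n, -, hn⟩ := FiniteField.card F t
    rw [Nat.card_eq_fintype_card, hn] at h
    exact hst ((Nat.prime_dvd_prime_iff_eq hs ht.out).1 (hs.dvd_of_dvd_pow h))
  have hob_ := sec_facts hO hQ h7 hΓ hs h3 hsF hPC hg hx he hN h1 h2
  obtain ⟨f1, f2, f3⟩ := hob_
  by_cases hφ : φ = RingEquiv.refl F
  swap
  · exfalso
    apply hφ
    obtain ⟨v, hv0, hv, hgv⟩ := Cfsg.Agent.H383.Pi.exists_sing_eigen (by omega) hp hg hc ha hga hφ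
    obtain ⟨b, hb⟩ := f2 v hv0 hv hgv
    exact refl_of_pt hQ (by omega) hg.toSemi hv0 hv hb hgv
  subst hφ
  have hob_ := Cfsg.Agent.BpCl.exists_linear hg.toSemi
  obtain ⟨X, hX⟩ := hob_
  have hgX : ∀ v, g v = X v := fun v => by rw [← hX]; rfl
  have hpow : ∀ (n : ℕ) (v : V), (X ^ n) v = (g ^ n) v := by
    intro n
    induction n with
    | zero => intro v; rfl
    | succ n ih =>
      intro v
      rw [pow_succ', pow_succ', Equiv.Perm.mul_apply, LinearEquiv.mul_apply, ih, hgX]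
  have hN1 : ∀ h ∈ Γ, ∀ u v, (frmQ Q).B (h u) (h v) = (frmQ Q).B u v := by
    intro h hh u w
    rw [hΓ] at hh
    exact polar_map (E_le_O hh) u w
  have key := hGeo (fun u hu => hQ u hu) hp X (c := c) (fun u => by
      rw [← hgX]
      exact hg.form u u) ⟨a, fun v => by rw [hpow, hga]⟩ he eps hN h7 (fun h => by
      obtain ⟨A, hA, hA2⟩ := hplus h
      exact ⟨A, le_top, hA.2, by omega⟩)
    (fun W hW hXW hW2 hW3 => by
      obtain ⟨b, hb⟩ := f1 W hW (fun v hv => by rw [hgX]; exact hXW v hv) hW2 hW3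
      exact ⟨b, fun v hv => by rw [← hgX, hb v hv]⟩)
    (fun v hv0 hv hXv => by
      obtain ⟨b, hb⟩ := f2 v hv0 hv (by
        obtain ⟨l, hl⟩ := hXv
        exact ⟨l, by rw [hgX, hl]⟩)
      exact ⟨b, fun w hw => by
        obtain ⟨d, hd⟩ := hb w hw
        exact ⟨d, by rw [← hgX, hd]⟩⟩)
    (fun W hW hXW hW1 hW4 hW5 => by
      obtain ⟨b, hb⟩ := f3 W hW (fun v hv => by rw [hgX]; exact hXW v hv) hW1 hW4 hW5
      exact ⟨b, fun v hv => by rw [← hgX, hb v hv]⟩)
  rcases key with key | key | ⟨k8, -, W, W', k1, k2, k3, k4, k0, k5, k6, k7⟩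
  · left
    apply eq_one_of_scal hx
    obtain ⟨b, hb⟩ := key
    exact ⟨b, fun v => by rw [hgX, hb]⟩
  · right
    refine ⟨not_fixR_of_irr hx fun W hW => key W fun v hv => by rw [← hgX]; exact hW v hv, rfl, fun hp2 => ?_⟩
    subst hp2
    obtain ⟨v, hv⟩ := exists_ne (0 : V)
    obtain ⟨j1, j2⟩ := exists_small (X := X) (a := a) (fun v => by rw [← hga, ← hpow]; rfl) v
    rcases key _ j1 with h | h
    · exact hv ((Submodule.mem_bot F).1 (h ▸ Submodule.subset_span (by simp)))
    · rw [h, finrank_top] at j2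
      omega
  · right
    refine ⟨not_fixR_of_nd (Φ := frmQ Q) (fun x hx => hQ x hx) hN1 hx fun A hA => ?_, rfl, fun hp2 => ?_⟩
    · exact nd_of_two hQ k1 k2 k3 k4 k5 k6 k7 fun v hv => by rw [← hgX]; exact hA v hv
    · subst hp2
      have hW0 : W ≠ ⊥ := by
        intro h
        rw [h, finrank_bot] at k0
        omega
      obtain ⟨v, hvW, hv⟩ := Submodule.exists_mem_ne_zero_of_ne_bot hW0
      obtain ⟨j1, j2⟩ := exists_small (X := X) (a := a) (fun v => by rw [← hga, ← hpow]; rfl) v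
      have hle : Submodule.span F {v, X v} ≤ W := by
        rw [Submodule.span_le]
        rintro w (rfl | rfl)
        · exact hvW
        · exact k2 _ hvW
      rcases k5 _ hle j1 with h | h
      · exact hv ((Submodule.mem_bot F).1 (h ▸ Submodule.subset_span (by simp)))
      · rw [h, k0] at j2
        omega

end Main

end Cfsg.Agent.H621.Pi
end

-- part: H826/Geo/Orth
section
/-!
# Geometry of one similitude of a quadratic space (S4324, task GEO-O)

`geo_omega` : a similitude `X` (`X ^ p` a scalar) of a quadratic space of dimension at least seven which is a scalar on all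
large invariant sections is a scalar, irreducible, or has exactly two irreducible summands of minus type, which are
not isomorphic.
-/

set_option autoImplicit false
set_option linter.unusedSectionVars false

namespace Cfsg.Agent.H826.Geo

open Cfsg.Agent.H847.Bs Cfsg.Agent.H826.Bs Module QuadraticMap
open Cfsg.Agent.LieClassical Cfsg.Agent.LieClassical.OrthCore

universe u v

section

variable {F : Type u} {V : Type v} [Field F] [AddCommGroup V] [Module F V]

theorem sng_frmQ {Q : QuadraticForm F V} {v : V} : Sng (frmQ Q) v ↔ Q v = 0 := by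
  rw [sng_iff (Φ := frmQ Q) (fun a x hx => by
    change Q (a • x) = 0
    have hx' : Q x = 0 := hx
    rw [QuadraticMap.map_smul, hx', smul_zero])]
  constructor
  · intro h
    exact h.2
  · intro h
    refine ⟨?_, h⟩
    change polar Q v v = 0
    rw [polar_self, h, smul_zero]

theorem ti_frmQ {Q : QuadraticForm F V} {A : Submodule F V} : (frmQ Q).TI A ↔ ∀ v ∈ A, Q v = 0 := by
  constructor
  · intro h
    exact h.2
  · intro h
    refine ⟨fun x hx y hy => ?_, h⟩
    change polar Q x y = 0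
    simp only [polar]
    rw [h x hx, h y hy, h _ (A.add_mem hx hy), sub_zero, sub_zero]

theorem singDim_frmQ [Finite F] [FiniteDimensional F V] (Q : QuadraticForm F V) : SingDim (frmQ Q) 3 := by
  intro W hW
  obtain ⟨v, hv, hv0, hvs⟩ := OrthFinite.exists_sing_mem (Q := Q) W hW
  exact ⟨v, hv, hv0, sng_frmQ.mpr hvs⟩

/-- a totally singular subspace of dimension `e` in `W` -/
def PlusW {F : Type u} {V : Type v} [Field F] [AddCommGroup V] [Module F V] (Q : QuadraticForm F V) (e : ℕ)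
    (W : Submodule F V) : Prop := ∃ U ≤ W, (∀ u ∈ U, Q u = 0) ∧ Module.finrank F U = e

variable [Finite F] [FiniteDimensional F V]

/-- Step 1 for quadratic forms -/
theorem scalar_of_sing {Q : QuadraticForm F V} (hnd : Nondeg Q) {X : V ≃ₗ[F] V} (hN7 : 7 ≤ finrank F V)
    (hPT : PT (frmQ Q) X) {v : V} {a : F} (hv : v ≠ 0) (hvs : Sng (frmQ Q) v) (hva : X v = a • v) :
    ∀ z, X z = a • z := by
  have hk := singDim_frmQ Q
  have hS : Star (frmQ Q) X := star_of_pt hnd hk (by omega) (by omega) hPT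
  obtain ⟨u, huv, hTI, hP⟩ := hS.pair hv hvs hva
  have hu0 : u ≠ 0 := by
    rintro rfl
    exact huv (Submodule.zero_mem _)
  have hfP := finrank_pair hv huv
  have hfP' := finrank_prp_add (Φ := frmQ Q) hnd (Submodule.span F ({u, v} : Set V))
  obtain ⟨w, hw, hwP, hws⟩ := exists_sng_not_mem hk (K := prp (frmQ Q) (Submodule.span F ({u, v} : Set V)))
    (P := Submodule.span F ({u, v} : Set V)) (by omega)
  have hwa := pair_perp (Φ := frmQ Q) hu0 hv huv hP hw
  have hw0 : w ≠ 0 := by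
    rintro rfl
    exact hwP (Submodule.zero_mem _)
  have h1 := (hS w a hw0 hws hwa).1
  have h2 : ∀ z, X z - a • z ∈ Submodule.span F ({u, v} : Set V) := by
    intro z
    obtain ⟨x, hx, hx0, hzx⟩ := exists_orth_of_pair (Φ := frmQ Q) z hnd hfP
    have h3 := hP x hx hx0 z hzx
    have h4 : Submodule.span F {x} ≤ Submodule.span F ({u, v} : Set V) := by
      rw [Submodule.span_singleton_le_iff_mem]
      exact hx
    exact h4 h3
  have h3 : ∀ z ∈ prp (frmQ Q) (Submodule.span F {w}), X z = a • z := by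
    intro z hz
    obtain ⟨s, hs⟩ := Submodule.mem_span_singleton.mp (h1 z hz)
    have h4 := h2 z
    rw [← hs] at h4
    have hs0 : s = 0 := by
      by_contra hs0
      apply hwP
      have h5 := Submodule.smul_mem _ s⁻¹ h4
      rwa [smul_smul, inv_mul_cancel₀ hs0, one_smul] at h5
    rw [hs0, zero_smul] at hs
    exact sub_eq_zero.mp hs.symm
  obtain ⟨y, hy, hyw⟩ : ∃ y ∈ prp (frmQ Q) (Submodule.span F ({u, v} : Set V)), (frmQ Q).B w y ≠ 0 := by
    by_contra hcon
    push Not at hcon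
    apply hwP
    rw [← prp_prp (Φ := frmQ Q) hnd (Submodule.span F ({u, v} : Set V))]
    exact hcon
  have hyw' : polar Q y w ≠ 0 := by
    rw [polar_comm]
    exact hyw
  have hya := pair_perp (Φ := frmQ Q) hu0 hv huv hP hy
  intro z
  have h5 : z - (polar Q z w / polar Q y w) • y ∈ prp (frmQ Q) (Submodule.span F {w}) := by
    rw [mem_prp1]
    change polar Q (z - (polar Q z w / polar Q y w) • y) w = 0
    rw [polar_sub_left, polar_smul_left, smul_eq_mul, div_mul_cancel₀ _ hyw', sub_self]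
  have h6 := h3 _ h5
  rw [map_sub, map_smul, hya, smul_sub, smul_comm a, sub_left_inj] at h6
  exact h6

theorem sim_frmQ {Q : QuadraticForm F V} {X : V ≃ₗ[F] V} {c : F} (hXQ : ∀ v, Q (X v) = c * Q v) :
    Sim (frmQ Q) X c := by
  refine ⟨fun v w => ?_, hXQ⟩
  change polar Q (X v) (X w) = c * polar Q v w
  simp only [polar]
  rw [← map_add, hXQ, hXQ, hXQ]
  ring

/-- Step 2 for quadratic forms -/
theorem char_case {Q : QuadraticForm F V} (hnd : Nondeg Q) {X : V ≃ₗ[F] V} {c : F} (hXQ : ∀ v, Q (X v) = c * Q v)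
    (hN5 : 5 ≤ finrank F V) {p : ℕ} (hp : p.Prime) (hp0 : (p : F) = 0) {l : F}
    (hXp : ∀ v, (X ^ p : V ≃ₗ[F] V) v = l • v) :
    ∃ m : F, (∀ v, X v = m • v) ∨ ∃ v, v ≠ 0 ∧ Q v = 0 ∧ X v = m • v := by
  have hV : Nontrivial V := (finrank_pos_iff (R := F)).mp (by omega)
  obtain ⟨m, hm | ⟨v, hv, hvm, hvo⟩⟩ := exists_of_char (Φ := frmQ Q) hp hp0 hXp hnd (sim_frmQ hXQ)
  · exact ⟨m, Or.inl hm⟩
  refine ⟨m, Or.inr ?_⟩
  have hvv : polar Q v v = 0 := hvo v hvm
  rw [polar_self] at hvv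
  by_cases h2 : (2 : F) = 0
  · -- characteristic two
    have hp2 : p = 2 := by
      have hch : CharP F p := (CharP.charP_iff_prime_eq_zero hp).mpr hp0
      have h3 : ((2 : ℕ) : F) = 0 := by exact_mod_cast h2
      have h4 := (CharP.cast_eq_zero_iff F p 2).mp h3
      exact (Nat.prime_dvd_prime_iff_eq hp Nat.prime_two).mp h4
    subst hp2
    have hml : m * m = l := by
      have h3 := hXp v
      have h4 : (X ^ 2 : V ≃ₗ[F] V) v = X (X v) := by rw [pow_two]; rfl
      rw [h4, hvm, map_smul, hvm, smul_smul] at h3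
      exact smul_left_injective F hv h3
    let n : V →ₗ[F] V := (X : V →ₗ[F] V) - m • LinearMap.id
    have hn : ∀ v, n v = X v - m • v := fun v => rfl
    have hle : LinearMap.range n ≤ LinearMap.ker n := by
      rintro _ ⟨z, rfl⟩
      rw [LinearMap.mem_ker, hn, hn, map_sub, map_smul, smul_sub, smul_smul, hml]
      have h3 : X (X z) = l • z := by
        rw [← hXp z, pow_two]
        rfl
      rw [h3]
      have h4 : l • z - m • X z - (m • X z - l • z) = (2 : F) • (l • z - m • X z) := by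
        rw [two_smul]
        abel
      rw [h4, h2, zero_smul]
    have h3 := LinearMap.finrank_range_add_finrank_ker n
    have h4 := Submodule.finrank_mono hle
    obtain ⟨w, hw, hw0, hws⟩ := singDim_frmQ Q (LinearMap.ker n) (by omega)
    refine ⟨w, hw0, sng_frmQ.mp hws, ?_⟩
    rw [← sub_eq_zero, ← hn]
    exact hw
  · refine ⟨v, hv, ?_, hvm⟩
    rw [nsmul_eq_mul] at hvv
    exact (mul_eq_zero.mp hvv).resolve_left (by exact_mod_cast h2)

end

/-- **GEO-O** -/
theorem geo_omega {F : Type u} {V : Type v} [Field F] [Finite F] [AddCommGroup V] [Module F V] [FiniteDimensional F V]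
    {Q : QuadraticForm F V} (hnd : ∀ u, (∀ v, polar Q u v = 0) → u = 0)
    {p : ℕ} (hp : p.Prime) (X : V ≃ₗ[F] V) {c : F} (hc : ∀ u, Q (X u) = c * Q u) (hXp : Scl F ⇑(X ^ p))
    {e : ℕ} (eps : Prop) (hN : 4 * e ≤ Module.finrank F V) (hN7 : 7 ≤ Module.finrank F V)
    (hiso : ∀ W : Submodule F V, (∀ u ∈ W, Q u = 0) → (∀ v ∈ W, X v ∈ W) → 2 ≤ Module.finrank F W →
      (2 * e ≤ Module.finrank F W ∨ (eps ∧ e ≤ Module.finrank F W)) → ∃ a : F, ∀ v ∈ W, X v = a • v)
    (hpt : ∀ v, v ≠ 0 → Q v = 0 → (∃ a : F, X v = a • v) → PTs (fun u v => polar Q u v) (⇑X) v)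
    (hns : ∀ W : Submodule F V, (∀ u ∈ W, (∀ v ∈ W, polar Q u v = 0) → u = 0) → (∀ v ∈ W, X v ∈ W) → W ≠ ⊤ →
      4 ≤ Module.finrank F W → (2 * e < Module.finrank F W ∨ (2 * e = Module.finrank F W ∧ (PlusW Q e W ↔ eps))) →
      ∃ a : F, ∀ v ∈ W, X v = a • v) :
    Scl F ⇑X ∨ (∀ W : Submodule F V, (∀ v ∈ W, X v ∈ W) → W = ⊥ ∨ W = ⊤) ∨
      (4 * e = Module.finrank F V ∧ eps ∧ ∃ W W' : Submodule F V, IsCompl W W' ∧ (∀ v ∈ W, X v ∈ W) ∧
        (∀ v ∈ W', X v ∈ W') ∧ (∀ u ∈ W, ∀ v ∈ W', polar Q u v = 0) ∧ Module.finrank F W = 2 * e ∧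
        (∀ U ≤ W, (∀ v ∈ U, X v ∈ U) → U = ⊥ ∨ U = W) ∧ (∀ U ≤ W', (∀ v ∈ U, X v ∈ U) → U = ⊥ ∨ U = W') ∧
        ∀ T : W ≃ₗ[F] W', ¬ ∀ w : W, ∀ h : X w ∈ W, (T ⟨X w, h⟩ : V) = X (T w)) := by
  obtain ⟨l, hl⟩ := hXp
  have hfV : Nontrivial V := (finrank_pos_iff (R := F)).mp (by omega)
  have hk := singDim_frmQ Q
  have hX : Sim (frmQ Q) X c := sim_frmQ hc
  have hPT : PT (frmQ Q) X := pt_of_pts fun v hv hvs => hpt v hv (sng_frmQ.mp hvs)
  have hNd : (frmQ Q).Nd := hnd
  by_cases hs : ∃ v, v ≠ 0 ∧ Q v = 0 ∧ ∃ a : F, X v = a • v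
  · obtain ⟨v, hv, hvs, a, hva⟩ := hs
    exact Or.inl ⟨a, scalar_of_sing hnd hN7 hPT hv (sng_frmQ.mpr hvs) hva⟩
  push Not at hs
  by_cases hp0 : (p : F) = 0
  · obtain ⟨m, hm | ⟨v, hv, hvs, hvm⟩⟩ := char_case hnd hc (by omega) hp hp0 hl
    · exact Or.inl ⟨m, hm⟩
    · exact absurd hvm (hs v hv hvs m)
  right
  have hl0 : l ≠ 0 := by
    rintro rfl
    obtain ⟨v, hv⟩ := exists_ne (0 : V)
    have h1 := hl v
    rw [zero_smul] at h1
    exact hv ((X ^ p).map_eq_zero_iff.mp h1)
  have hbig : ∀ W : Submodule F V, 3 ≤ finrank F W → ¬ ScOn X W := by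
    rintro W hW ⟨b, hb⟩
    obtain ⟨v, hv, hv0, hvs⟩ := hk W hW
    exact hs v hv0 (sng_frmQ.mp hvs) b (hb v hv)
  have hbigs : ∀ W : Submodule F V, 1 ≤ finrank F W → (∀ v ∈ W, Q v = 0) → ¬ ScOn X W := by
    rintro W hW hWs ⟨b, hb⟩
    obtain ⟨v, hv, hv0⟩ := Submodule.exists_mem_ne_zero_of_ne_bot (ne_bot_of_finrank hW)
    exact hs v hv0 (hWs v hv) b (hb v hv)
  have hprp : ∀ D : Submodule F V, D ≠ ⊥ → prp (frmQ Q) D ≠ ⊤ := by
    intro D hD h2
    have h3 := prp_prp hNd D
    rw [h2] at h3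
    apply hD
    rw [← h3, eq_bot_iff]
    intro x hx
    exact hNd x fun y => hx y Submodule.mem_top
  -- proper nondegenerate invariant subspaces
  have hD : ∀ D : Submodule F V, _root_.Cfsg.Agent.H847.Bs.Inv X D → (frmQ Q).NdOn D → D ≠ ⊥ → D ≠ ⊤ →
      4 * e = finrank F V ∧ finrank F D = 2 * e ∧ ¬ (PlusW Q e D ↔ eps) := by
    intro D hDi hDn hD0 hD1
    have hdec := dec_prp hDn
    have hf := Dec.finrank_add hdec
    rcases le_or_gt (finrank F (prp (frmQ Q) D)) (finrank F D) with h1 | h1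
    · have h2 : ¬ (2 * e < finrank F D ∨ (2 * e = finrank F D ∧ (PlusW Q e D ↔ eps))) := by
        intro h2
        obtain ⟨b, hb⟩ := hns D hDn hDi hD1 (by omega) h2
        exact hbig D (by omega) ⟨b, hb⟩
      push Not at h2
      have h3 : finrank F D = 2 * e := by omega
      exact ⟨by omega, h3, fun h4 => absurd h4 (not_iff.mpr (by have := h2.2 h3.symm; (clear * - h4 this; itauto)))⟩
    · exfalso
      obtain ⟨b, hb⟩ := hns (prp (frmQ Q) D) (Dec.ndOn_right hdec hNd) (inv_prp hX hDi) (hprp D hD0) (by omega)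
        (Or.inl (by omega))
      exact hbig _ (by omega) ⟨b, hb⟩
  -- invariant isotropic subspaces
  have hTI : ∀ U : Submodule F V, Irr X U → U ≤ prp (frmQ Q) U → (∀ v ∈ U, Q v = 0) := by
    intro U hU hUU
    have hU1 : 1 ≤ finrank F U := Submodule.one_le_finrank_iff.mpr hU.ne_bot
    rcases Nat.lt_or_ge (finrank F U) 2 with h1 | h1
    · exfalso
      obtain ⟨H, -, hUH, hHi, hHn, hHf⟩ := exists_hyp hp0 hl0 hl hNd hX
        (U := U) (D := ⊤) (fun x _ hx => hNd x fun y => hx y Submodule.mem_top) (fun _ _ => Submodule.mem_top)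
        hU.inv le_top hUU
      have h2 := (hD H hHi hHn (ne_bot_of_finrank (by omega)) (by
        rintro rfl
        rw [finrank_top] at hHf
        omega))
      omega
    · refine ks hU h1 (fun v => Q v) ?_ ?_ ?_
      · intro v hv w hw
        have h2 : polar Q v w = 0 := hUU hv w hw
        simp only [polar] at h2
        linear_combination h2
      · intro a v _ hv
        have hv' : Q v = 0 := hv
        rw [QuadraticMap.map_smul, hv', smul_zero]
      · intro v _ hv
        have hv' : Q v = 0 := hv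
        rw [hc, hv', mul_zero]
  by_cases hex : ∃ D : Submodule F V, _root_.Cfsg.Agent.H847.Bs.Inv X D ∧ (frmQ Q).NdOn D ∧ D ≠ ⊥ ∧ D ≠ ⊤
  · -- two summands
    right
    obtain ⟨D, hDi, hDn, hD0, hD1⟩ := hex
    obtain ⟨hNe, hDf, hDt⟩ := hD D hDi hDn hD0 hD1
    have hdec := dec_prp hDn
    have hf := Dec.finrank_add hdec
    have hD'i := inv_prp hX hDi
    have hD'n := Dec.ndOn_right hdec hNd
    have hD'0 : prp (frmQ Q) D ≠ ⊥ := ne_bot_of_finrank (by omega)
    obtain ⟨-, hD'f, hD't⟩ := hD _ hD'i hD'n hD'0 (hprp D hD0)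
    -- a reducible summand has plus type
    have hred : ∀ D : Submodule F V, _root_.Cfsg.Agent.H847.Bs.Inv X D → (frmQ Q).NdOn D → D ≠ ⊥ → D ≠ ⊤ → ¬ Irr X D →
        ∃ U ≤ D, _root_.Cfsg.Agent.H847.Bs.Inv X U ∧ (∀ v ∈ U, Q v = 0) ∧ finrank F U = e := by
      intro D hDi hDn hD0 hD1 hDirr
      obtain ⟨-, hDf, -⟩ := hD D hDi hDn hD0 hD1
      obtain ⟨U, hUD, hU⟩ := exists_irr_le (X := X) hDi hD0
      have hind : ∀ H ≤ D, _root_.Cfsg.Agent.H847.Bs.Inv X H → (frmQ Q).NdOn H → H ≠ ⊥ → H = D := by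
        intro H hHD hHi hHn hH0
        obtain ⟨-, hHf, -⟩ := hD H hHi hHn hH0 (fun h => hD1 (eq_top_iff.mpr (h ▸ hHD)))
        exact Submodule.eq_of_le_of_finrank_eq hHD (by omega)
      rcases irr_cases hX hU with h1 | h1
      · exact absurd (hind U hUD hU.inv h1 hU.ne_bot ▸ hU) hDirr
      · obtain ⟨H, hHD, hUH, hHi, hHn, hHf⟩ := exists_hyp hp0 hl0 hl hNd hX hDn hDi hU.inv hUD h1
        have hU1 : 1 ≤ finrank F U := Submodule.one_le_finrank_iff.mpr hU.ne_bot
        have h2 := hind H hHD hHi hHn (ne_bot_of_finrank (by omega))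
        rw [h2] at hHf
        exact ⟨U, hUD, hU.inv, hTI U hU h1, by omega⟩
    -- `eps`
    by_cases heps : eps
    · -- both are irreducible
      have hirr : ∀ D : Submodule F V, _root_.Cfsg.Agent.H847.Bs.Inv X D → (frmQ Q).NdOn D → D ≠ ⊥ → D ≠ ⊤ → Irr X D := by
        intro D hDi hDn hD0 hD1
        by_contra hDirr
        obtain ⟨U, hUD, -, hUs, hUf⟩ := hred D hDi hDn hD0 hD1 hDirr
        apply (hD D hDi hDn hD0 hD1).2.2
        exact ⟨fun _ => heps, fun _ => ⟨U, hUD, hUs, hUf⟩⟩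
      have hDirr := hirr D hDi hDn hD0 hD1
      have hD'irr := hirr _ hD'i hD'n hD'0 (hprp D hD0)
      refine ⟨hNe, heps, D, prp (frmQ Q) D, hdec.compl, hDi, hD'i, hdec.orth, hDf, fun U hU hUi => hDirr.min U hU hUi,
        fun U hU hUi => hD'irr.min U hU hUi, ?_⟩
      intro T hT
      obtain ⟨G, hG, hGi, hGf⟩ := exists_diag hDirr hDn hD'n hdec.compl.inf_eq_bot hdec.orth hc (by omega) hDf T hT
      obtain ⟨b, hb⟩ := hiso G hG.2 hGi (by omega) (Or.inl (by omega))
      exact hbigs G (by omega) hG.2 ⟨b, hb⟩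
    · exfalso
      -- both have plus type, hence are reducible
      have hU : ∀ D : Submodule F V, _root_.Cfsg.Agent.H847.Bs.Inv X D → (frmQ Q).NdOn D → D ≠ ⊥ → D ≠ ⊤ →
          ∃ U ≤ D, _root_.Cfsg.Agent.H847.Bs.Inv X U ∧ (∀ v ∈ U, Q v = 0) ∧ finrank F U = e := by
        intro D hDi hDn hD0 hD1
        obtain ⟨-, hDf, hDt⟩ := hD D hDi hDn hD0 hD1
        refine hred D hDi hDn hD0 hD1 fun hDirr => ?_
        have h1 : PlusW Q e D := by (clear * - heps hDt; tauto)
        obtain ⟨A, hAD, hAs, hAf⟩ := h1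
        exact not_plus_on hDirr hDn hc (by omega) ⟨A, hAD, ti_frmQ.mpr hAs, by omega⟩
      obtain ⟨U, hUD, hUi, hUs, hUf⟩ := hU D hDi hDn hD0 hD1
      obtain ⟨U', hUD', hUi', hUs', hUf'⟩ := hU _ hD'i hD'n hD'0 (hprp D hD0)
      have hti := ti_sup' (ti_frmQ.mpr hUs) (ti_frmQ.mpr hUs') fun a ha b hb => hdec.orth a (hUD ha) b (hUD' hb)
      have h1 := Submodule.finrank_sup_add_finrank_inf_eq U U'
      have h2 : U ⊓ U' = ⊥ := by
        rw [eq_bot_iff, ← hdec.compl.inf_eq_bot]
        exact fun x hx => ⟨hUD hx.1, hUD' hx.2⟩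
      rw [h2, finrank_bot] at h1
      obtain ⟨b, hb⟩ := hiso (U ⊔ U') hti.2 (inv_sup hUi hUi') (by omega) (Or.inl (by omega))
      exact hbigs _ (by omega) hti.2 ⟨b, hb⟩
  · left
    push Not at hex
    intro Y hY
    by_contra hcon
    push Not at hcon
    obtain ⟨W, hWY, hW⟩ := exists_irr_le (X := X) hY hcon.1
    have hWt : W ≠ ⊤ := fun h1 => hcon.2 (eq_top_iff.mpr (h1 ▸ hWY))
    rcases irr_cases hX hW with h1 | h1
    · exact hWt (hex W hW.inv h1 hW.ne_bot)
    · obtain ⟨H, -, hUH, hHi, hHn, hHf⟩ := exists_hyp hp0 hl0 hl hNd hX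
        (U := W) (D := ⊤) (fun x _ hx => hNd x fun y => hx y Submodule.mem_top) (fun _ _ => Submodule.mem_top)
        hW.inv le_top h1
      have hW1 : 1 ≤ finrank F W := Submodule.one_le_finrank_iff.mpr hW.ne_bot
      have h2 := hex H hHi hHn (ne_bot_of_finrank (by omega))
      rw [h2, finrank_top] at hHf
      have h3 := hTI W hW h1
      obtain ⟨b, hb⟩ := hiso W h3 hW.inv (by omega) (Or.inl (by omega))
      exact hbigs W hW1 h3 ⟨b, hb⟩

end Cfsg.Agent.H826.Geo
end

-- part: H621/Pi/OmegaGeo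
section
/-!
# S4324: automorphisms of `POmega` with `PC s x`, with the landed `geo_omega` (helper621)

* `geoO` : `GeoO` holds;
* `omega_main` : `omega_core` without the hypothesis `GeoO`.
-/

set_option autoImplicit false

namespace Cfsg.Agent.H621.Pi

open Module QuadraticMap Subgroup Cfsg.Agent.LieClassical.OrthCore Cfsg.Agent.LieClassical.OrthTrans
open Cfsg.Agent.H847.Bs Cfsg.Agent.H826.Bs Cfsg.Agent.H216.Pi Cfsg.Agent.H459.Iface
open Cfsg.Agent.BpCl (Semi SemiIso)
open Cfsg.Agent.H952.Rc (Comp)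

universe u v

theorem geoO : GeoO.{u, v} := by
  intro F V _ _ _ _ _ Q hQ p hp X c hc hXp e he eps hN h7 _ h1 h2 h3
  exact Cfsg.Agent.H826.Geo.geo_omega hQ hp X hc hXp eps hN h7 h1 h2 h3

variable {F : Type u} {V : Type v} [Field F] [Finite F] [AddCommGroup V] [Module F V] [FiniteDimensional F V]
  {Q : QuadraticForm F V} {Γ : Subgroup (V ≃ₗ[F] V)}

/-- **The core of the rows of `POmega`.** -/
theorem omega_main (hO : GoodO.{u, v}) (hQ : Nondeg Q) (h7 : 7 ≤ finrank F V) (hΓ : Γ = E Q)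
    {s t : ℕ} (hs : s.Prime) (h3 : 3 ≤ s) [ht : Fact t.Prime] [CharP F t] (hst : s ≠ t)
    {x : MulAut (↥Γ ⧸ center ↥Γ)} (hPC : PC s x) {p : ℕ} (hp : p.Prime)
    {g : Equiv.Perm V} {φ : F ≃+* F} {c a : F} (hg : SemiIso (fun u _ => Q u) φ c g) (hc : c ≠ 0) (ha : a ≠ 0)
    (hga : ∀ v, (g ^ p) v = a • v) (hx : Comp x g) {e : ℕ} (he : 1 ≤ e) (hN : 4 * e ≤ finrank F V)
    (hplus : 4 * e = finrank F V → PlusT Q) {eps : Prop} (h1 : eps → s ∣ Nat.card F ^ e - 1)
    (h2 : ¬ eps → s ∣ Nat.card F ^ e + 1) :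
    x = 1 ∨ (¬ FixR t x ∧ φ = RingEquiv.refl F ∧ p ≠ 2) :=
  omega_core hO geoO hQ h7 hΓ hs h3 hst hPC hp hg hc ha hga hx he hN hplus h1 h2

end Cfsg.Agent.H621.Pi
end

-- part: H621/Pi/InnerO
section
/-!
# S4324: linear similitudes of odd prime order modulo scalars are inner (helper621)

* `inner_of_linear` : an automorphism of `PΩ(V)` induced by a linear similitude `X`, `X ^ p` a scalar, `p` odd, is inner;
* `false_of_inner` : an inner automorphism normalising no `t`-subgroup contradicts `FC s 11 x` (Gow's theorem).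
-/

set_option autoImplicit false

namespace Cfsg.Agent.H621.Pi

open Module QuadraticMap Subgroup Cfsg Cfsg.Agent.LieClassical.OrthCore Cfsg.Agent.LieClassical.OrthTrans
open Cfsg.Agent.H847.Bs Cfsg.Agent.H826.Bs Cfsg.Agent.H216.Pi Cfsg.Agent.H459.Iface
open Cfsg.Agent.BpCl (Semi SemiIso)
open Cfsg.Agent.H952.Rc (Comp)

universe u v

variable {F : Type u} {V : Type v} [Field F] [Finite F] [AddCommGroup V] [Module F V] [FiniteDimensional F V]
  {Q : QuadraticForm F V} {Γ : Subgroup (V ≃ₗ[F] V)}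

/-- a similitude `X` with `X ^ p` a scalar, `p` odd, is a scalar times an isometry `Y` with `Y ^ p = 1` -/
theorem exists_isometry (hQ : Nondeg Q) (h1 : 1 ≤ finrank F V) {p : ℕ} (hp : Odd p) {X : V ≃ₗ[F] V} {c a : F}
    (hc : c ≠ 0) (hXc : ∀ v, Q (X v) = c * Q v) (hXp : ∀ v, (X ^ p) v = a • v) :
    ∃ (m : F) (Y : V ≃ₗ[F] V), m ≠ 0 ∧ (∀ v, X v = m • Y v) ∧ Y ∈ O Q ∧ Y ^ p = 1 := by
  obtain ⟨v₀, hv₀⟩ := exists_nonsing hQ h1
  have hQp : ∀ (n : ℕ) (v : V), Q ((X ^ n) v) = c ^ n * Q v := by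
    intro n
    induction n with
    | zero => intro v; simp
    | succ n ih =>
      intro v
      rw [pow_succ', LinearEquiv.mul_apply, hXc, ih]
      ring
  have hca : c ^ p = a ^ 2 := by
    have h2 := hQp p v₀
    rw [hXp, QuadraticMap.map_smul, smul_eq_mul] at h2
    have h3 := mul_right_cancel₀ hv₀ h2
    rw [← h3]
    ring
  have ha : a ≠ 0 := by
    intro h
    rw [h] at hca
    have : c ^ p = 0 := by rw [hca]; ring
    exact hc (pow_eq_zero_iff (n := p) (by obtain ⟨k, hk⟩ := hp; omega) |>.1 this)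
  obtain ⟨k, rfl⟩ := hp
  set m₀ : F := a / c ^ k with hm₀
  have hm0 : m₀ ≠ 0 := div_ne_zero ha (pow_ne_zero _ hc)
  have hm : m₀ ^ 2 = c := by
    rw [hm₀, div_pow, div_eq_iff (pow_ne_zero _ (pow_ne_zero _ hc)), ← hca]
    ring
  -- `(a / m₀ ^ p) ^ 2 = 1`
  set b : F := a / m₀ ^ (2 * k + 1) with hb
  have hb2 : b ^ 2 = 1 := by
    rw [hb, div_pow, ← hca, ← pow_mul, mul_comm (2 * k + 1) 2, pow_mul, hm,
      div_self (pow_ne_zero _ hc)]
  have hb0 : b ≠ 0 := by
    intro h
    rw [h] at hb2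
    norm_num at hb2
  -- the scaled map
  let u : Fˣ := Units.mk0 (b / m₀) (div_ne_zero hb0 hm0)
  let Y : V ≃ₗ[F] V := X.trans (LinearEquiv.smulOfUnit u)
  have hY : ∀ v, Y v = (b / m₀) • X v := fun v => rfl
  have hb1 : b * b = 1 := by rw [← pow_two, hb2]
  refine ⟨m₀ * b, Y, mul_ne_zero hm0 hb0, fun v => ?_, ?_, ?_⟩
  · rw [hY, smul_smul]
    have : m₀ * b * (b / m₀) = 1 := by
      field_simp
      exact hb2
    rw [this, one_smul]
  · rw [mem_O]
    intro v
    rw [hY, QuadraticMap.map_smul, hXc, smul_eq_mul, ← mul_assoc]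
    have : b / m₀ * (b / m₀) * c = 1 := by
      rw [← hm]
      field_simp
      exact hb2
    rw [this, one_mul]
  · have hYn : ∀ (n : ℕ) (v : V), (Y ^ n) v = (b / m₀) ^ n • (X ^ n) v := by
      intro n
      induction n with
      | zero => intro v; simp
      | succ n ih =>
        intro v
        rw [pow_succ' Y, pow_succ' X, LinearEquiv.mul_apply, LinearEquiv.mul_apply, hY, ih, map_smul, smul_smul,
          pow_succ' (b / m₀)]
    apply LinearEquiv.ext
    intro v
    rw [hYn, hXp, smul_smul]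
    have : (b / m₀) ^ (2 * k + 1) * a = 1 := by
      have h5 : b ^ (2 * k + 1) = b := by
        rw [pow_succ, pow_mul, hb2, one_pow, one_mul]
      rw [div_pow, h5, div_mul_eq_mul_div, hb, div_mul_eq_mul_div, div_div, ← pow_add, div_eq_one_iff_eq
        (pow_ne_zero _ hm0), ← two_mul, pow_mul, hm, hca]
      ring
    rw [this, one_smul]
    rfl

/-- **the automorphisms induced by linear similitudes of odd order modulo scalars are inner** -/
theorem inner_of_linear (hQ : Nondeg Q) (h4 : 4 ≤ finrank F V) (hΓ : Γ = E Q) {p : ℕ} (hp : Odd p)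
    {x : MulAut (↥Γ ⧸ center ↥Γ)} {g : Equiv.Perm V} {X : V ≃ₗ[F] V} (hgX : ∀ v, g v = X v) {c a : F}
    (hc : c ≠ 0) (hXc : ∀ v, Q (X v) = c * Q v) (hXp : ∀ v, (X ^ p) v = a • v) (hx : Comp x g) :
    ∃ k : ↥Γ ⧸ center ↥Γ, x = MulAut.conj k := by
  have hob_ := exists_isometry hQ (by omega) hp hc hXc hXp
  obtain ⟨m, Y, hm, hXY, hY, hYp⟩ := hob_
  have hYE : Y ∈ Γ := by
    rw [hΓ]
    exact mem_E_of_odd hQ h4 hY hp hYp
  refine ⟨QuotientGroup.mk' (center ↥Γ) ⟨Y, hYE⟩, ?_⟩
  ext k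
  have hob_ := QuotientGroup.mk'_surjective (center ↥Γ) k
  obtain ⟨h, rfl⟩ := hob_
  rw [hx.apply (h' := ⟨Y, hYE⟩ * h * (⟨Y, hYE⟩)⁻¹) ?_]
  · simp only [MulAut.conj_apply, map_mul, map_mul, map_inv]
  · intro v
    rw [hgX, hgX, hXY, hXY, map_smul]
    congr 1
    change Y (h.1 (Y⁻¹ (Y v))) = _
    congr 2
    exact Y.symm_apply_apply v

/-- **inner automorphisms which normalise no `t`-subgroup** -/
theorem false_of_inner {K : Type u} [Group K] [Finite K] {t s : ℕ} (ht : t.Prime) (hL : IsLieTypeChar t K)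
    (hs : s.Prime) (hst : s ≠ t) (hsK : s ∣ Nat.card K) {x : MulAut K} (hin : ∃ k : K, x = MulAut.conj k)
    (hx : ¬ FixR t x) {m : ℕ} (hm : 2 ≤ m) (h : FC s m x) : False := by
  obtain ⟨k, rfl⟩ := hin
  have := Fact.mk ht
  have hk : H216.Pi.InC 1 (MulAut.conj k) (MulAut.conj k) := by
    exact H216.Pi.InC.self _
  refine H955.PiG.false_of_regular ht hL hs hsK hk ?_ (by omega) (fun h => absurd h hst) h
  intro hd
  apply hx
  obtain ⟨z, hz⟩ := exists_prime_orderOf_dvd_card' t hd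
  refine ⟨zpowers (z : K), ?_, ?_, ?_⟩
  · intro h1
    rw [zpowers_eq_bot] at h1
    have h2 : z = 1 := Subtype.ext h1
    rw [h2, orderOf_one] at hz
    exact ht.one_lt.ne hz
  · rw [IsPGroup.iff_card]
    exact ⟨1, by rw [Nat.card_zpowers, orderOf_coe, hz, pow_one]⟩
  · intro y hy
    have h1 : Commute k (z : K) := (mem_centralizer_singleton_iff.1 z.2).symm
    obtain ⟨i, rfl⟩ := hy
    have h2 : MulAut.conj k ((z : K) ^ i) = (z : K) ^ i := by
      rw [MulAut.conj_apply, (h1.zpow_right i).eq, mul_inv_cancel_right]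
    change MulAut.conj k ((z : K) ^ i) ∈ _
    rw [h2]
    exact zpow_mem (mem_zpowers _) _

end Cfsg.Agent.H621.Pi
end

-- part: H621/Pi/NumO
section
/-!
# S4324: noncyclic Sylow subgroups of `PΩ` (helper621)

* `rank2_omega` : a noncyclic Sylow `s`-subgroup of `PΩ(Q)` gives a subgroup of type `(s, s)` of `Ω(Q)`;
* `exists_exponent_omega` : then there are `e ≥ 1` and a sign `eps` with `s ∣ q ^ e - eps`, `4 e ≤ dim V` and `Q` of plus type if
  `4 e = dim V`.
-/

set_option autoImplicit false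

namespace Cfsg.Agent.H621.Pi

open Module Matrix QuadraticMap Subgroup Cfsg.Agent.LieClassical.OrthCore Cfsg.Agent.LieClassical.OrthTrans
open Cfsg.Agent.H847.Bs Cfsg.Agent.H826.Bs
open Cfsg.Agent.H104 Cfsg.Agent.H104.TwoLines Cfsg.Agent.H104.RankBound Cfsg.Agent.H104.OrthEmb

variable {F : Type} [Field F] [Fintype F] {ι : Type} [Fintype ι] [DecidableEq ι]

theorem rank2_omega {Q : QuadraticForm F (ι → F)} {s : ℕ} [hs : Fact s.Prime] (hs2 : s ≠ 2)
    (P : Sylow s (Cfsg.POmega F ⇑Q)) (hP : ¬ IsCyclic P) : Rank2 s (Cfsg.isometryGroup F ⇑Q) := by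
  obtain ⟨a, b, hab, ha, hb, hb1, hind⟩ := H110.Fpr.exists_rank_two hs2
    (QuotientGroup.mk' (Subgroup.center (Cfsg.Omega F (⇑Q)))) (QuotientGroup.mk'_surjective _) P hP
  have h : Rank2 s (Cfsg.Omega F ⇑Q) := by
    refine ⟨b, a, hb, ha, hab.symm, hb1, ?_⟩
    intro h
    have h1 : a⁻¹ ∈ Subgroup.zpowers b := inv_mem h
    obtain ⟨i, hi⟩ := (isOfFinOrder_iff_pow_eq_one.2 ⟨s, hs.out.pos, (by exact hb)⟩).mem_powers_iff_mem_zpowers.2 h1
    refine hind i ?_
    have h2 : b ^ i = a⁻¹ := hi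
    rw [h2, mul_inv_cancel]
  exact h.map_injective (Cfsg.Omega F (⇑Q)).subtype Subtype.val_injective

/-- counting the vectors of a given norm -/
theorem card_level_modEq (Q : QuadraticForm F (ι → F)) {d : F} (hd : d ≠ 0) {p : ℕ} [hp : Fact p.Prime]
    (x y : Cfsg.isometryGroup F (⇑Q)) (hx : x ^ p = 1) (hy : y ^ p = 1) (hxy : x * y = y * x)
    (hnofix : ∀ v : ι → F, isoHom (⇑Q) x *ᵥ v = v → isoHom (⇑Q) y *ᵥ v = v → v = 0) :
    Nat.card {v : ι → F // Q v = d} ≡ 0 [MOD p] := by
  classical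
  have hQx : ∀ g : Cfsg.isometryGroup F (⇑Q), ∀ v, Q (isoHom (⇑Q) g *ᵥ v) = Q v := fun g v => g.2 v v
  let S := {v : ι → F // Q v = d}
  let fx : S → S := fun v => ⟨isoHom (⇑Q) x *ᵥ v.1, by rw [hQx]; exact v.2⟩
  have hfx : ∀ (n : ℕ) (v : S), (fx^[n] v).1 = isoHom (⇑Q) (x ^ n) *ᵥ v.1 := by
    intro n
    induction n with
    | zero => intro v; simp
    | succ n ih =>
      intro v
      rw [Function.iterate_succ_apply', pow_succ', map_mul, ← Matrix.mulVec_mulVec, ← ih]
  have e1 := card_fix_modEq (p := p) fx (by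
    funext v
    apply Subtype.ext
    rw [hfx, hx, map_one, Matrix.one_mulVec]
    rfl)
  let T := {v : S // fx v = v}
  let fy : T → T := fun v => ⟨⟨isoHom (⇑Q) y *ᵥ v.1.1, by rw [hQx]; exact v.1.2⟩, by
    apply Subtype.ext
    change isoHom (⇑Q) x *ᵥ (isoHom (⇑Q) y *ᵥ v.1.1) = isoHom (⇑Q) y *ᵥ v.1.1
    rw [Matrix.mulVec_mulVec, ← map_mul, hxy, map_mul, ← Matrix.mulVec_mulVec]
    congr 1
    exact congrArg Subtype.val v.2⟩
  have hfy : ∀ (n : ℕ) (v : T), (fy^[n] v).1.1 = isoHom (⇑Q) (y ^ n) *ᵥ v.1.1 := by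
    intro n
    induction n with
    | zero => intro v; simp
    | succ n ih =>
      intro v
      rw [Function.iterate_succ_apply', pow_succ', map_mul, ← Matrix.mulVec_mulVec, ← ih]
  have e2 := card_fix_modEq (p := p) fy (by
    funext v
    apply Subtype.ext
    apply Subtype.ext
    rw [hfy, hy, map_one, Matrix.one_mulVec]
    rfl)
  have e3 : Nat.card {v : T // fy v = v} = 0 := by
    rw [Nat.card_eq_zero]
    left
    refine ⟨?_⟩
    rintro ⟨⟨⟨v, hv⟩, hv1⟩, hv2⟩
    have h1 : isoHom (⇑Q) x *ᵥ v = v := congrArg Subtype.val hv1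
    have h2 : isoHom (⇑Q) y *ᵥ v = v := congrArg (fun z : T => z.1.1) hv2
    have h3 := hnofix v h1 h2
    subst h3
    exact hd (by rw [← hv, map_zero])
  rw [← e3]
  exact e1.trans e2

/-- **noncyclic Sylow subgroups of `PΩ(Q)`** -/
theorem exists_exponent_omega {Q : QuadraticForm F (ι → F)} (hQ : Nondeg Q) (h1 : 1 ≤ Fintype.card ι)
    {s : ℕ} [hs : Fact s.Prime] (hs2 : s ≠ 2) (hsF : (s : F) ≠ 0)
    (P : Sylow s (Cfsg.POmega F ⇑Q)) (hP : ¬ IsCyclic P) :
    ∃ (e : ℕ) (eps : Prop), 1 ≤ e ∧ 4 * e ≤ finrank F (ι → F) ∧ (4 * e = finrank F (ι → F) → PlusT Q) ∧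
      (eps → s ∣ Nat.card F ^ e - 1) ∧ (¬ eps → s ∣ Nat.card F ^ e + 1) := by
  classical
  have hQ' : (polarBilin Q).Nondegenerate := by
    refine ⟨fun x hx => hQ x hx, fun x hx => hQ x fun y => ?_⟩
    rw [polar_comm]
    exact hx y
  have hr := rank2_omega hs2 P hP
  obtain ⟨x, y, hx, hy, hxy, h3, h4⟩ := bound_form hsF (isoHom (⇑Q)) (isoHom_injective _) hr (_root_.Cfsg.Agent.H104.OrthEmb.gram Q)
    (gram_det hQ') (gram_inv Q)
  obtain ⟨e, he, hk1, hk2⟩ := RowPSp.qPM_spec (F := F) hs2 hsF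
  rw [hk1] at h3 h4
  have hq1 : 1 ≤ Fintype.card F ^ e := Nat.one_le_pow _ _ Fintype.card_pos
  have hmul : s ∣ (Fintype.card F ^ e - 1) * (Fintype.card F ^ e + 1) := by
    have : Fintype.card F ^ (2 * e) - 1 = (Fintype.card F ^ e - 1) * (Fintype.card F ^ e + 1) := by
      rw [mul_comm 2 e, pow_mul, mul_comm]
      have := Nat.sq_sub_sq (Fintype.card F ^ e) 1
      simpa only [_root_.one_pow] using this
    rwa [← this]
  rw [Nat.card_eq_fintype_card, Module.finrank_fintype_fun_eq_card]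
  refine ⟨e, s ∣ Fintype.card F ^ e - 1, he, by omega, fun h => ?_, fun h => h, fun h =>
    (hs.out.dvd_mul.1 hmul).resolve_left h⟩
  by_contra hpl
  have hnofix : ∀ v : ι → F, isoHom (⇑Q) x *ᵥ v = v → isoHom (⇑Q) y *ᵥ v = v → v = 0 := by
    intro v h5 h6
    by_contra hv
    have := h4 ⟨v, hv, h5, h6⟩
    omega
  obtain ⟨v₀, hv₀⟩ := exists_nonsing hQ (by rw [Module.finrank_fintype_fun_eq_card]; exact h1)
  have h6 := card_level_modEq Q hv₀ x y hx hy hxy hnofix
  have h7 := mul_card_level hQ (n := 2 * e) (by rw [Module.finrank_fintype_fun_eq_card]; omega) hv₀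
  rw [if_neg hpl, Nat.card_eq_fintype_card (α := F)] at h7
  have h8 : Fintype.card F * Nat.card {v : ι → F // Q v = Q v₀} =
      Fintype.card F ^ (2 * e) * (Fintype.card F ^ (2 * e) + 1) := by
    have h9 : ((Fintype.card F * Nat.card {v : ι → F // Q v = Q v₀} : ℕ) : ℂ) =
        ((Fintype.card F ^ (2 * e) * (Fintype.card F ^ (2 * e) + 1) : ℕ) : ℂ) := by
      push_cast
      rw [h7]
      ring
    exact_mod_cast h9
  have h9 : s ∣ Fintype.card F * Nat.card {v : ι → F // Q v = Q v₀} :=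
    Dvd.dvd.mul_left ((Nat.modEq_zero_iff_dvd).1 h6) _
  rw [h8] at h9
  have hsq : ¬ s ∣ Fintype.card F := by
    intro h
    obtain ⟨p, n, hp, hpn⟩ := FiniteField.card' F
    rw [hpn.2] at h
    have h10 := (Nat.prime_dvd_prime_iff_eq hs.out hpn.1).1 (hs.out.dvd_of_dvd_pow h)
    apply hsF
    rw [h10]
    exact CharP.cast_eq_zero F p
  rcases hs.out.dvd_mul.1 h9 with h | h
  · exact hsq (hs.out.dvd_of_dvd_pow h)
  · have h10 : s ∣ 2 := by
      have h11 := Nat.dvd_sub h hk2
      have h12 : 1 ≤ Fintype.card F ^ (2 * e) := Nat.one_le_pow _ _ Fintype.card_pos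
      rwa [show Fintype.card F ^ (2 * e) + 1 - (Fintype.card F ^ (2 * e) - 1) = 2 by omega] at h11
    exact hs2 ((Nat.prime_dvd_prime_iff_eq hs.out Nat.prime_two).1 h10)

end Cfsg.Agent.H621.Pi
end

-- part: H621/Pi/RowO
section
/-!
# S4324: the rows `NR` of `PΩ` (helper621)

* `goodO` : `GoodO` holds;
* `orth_false` : the automorphisms of `PΩ(Q)` induced by semisimilitudes;
* `nr_of` : `NR t K` for `K ≅ PΩ(Q)` if all automorphisms are induced by semisimilitudes;
* `nr_oodd`, `nr_ominus`, `nr_oplus_five`.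
-/

set_option autoImplicit false
set_option linter.unusedSectionVars false

namespace Cfsg.Agent.H621.Pi

open Module QuadraticMap Subgroup Cfsg Cfsg.Agent.LieClassical.OrthCore Cfsg.Agent.LieClassical.OrthTrans
open Cfsg.Agent.H847.Bs Cfsg.Agent.H826.Bs Cfsg.Agent.H216.Pi Cfsg.Agent.H459.Iface Cfsg.Agent.H459.Rad
open Cfsg.Agent.LieClassical.OrthForms Cfsg.Agent.ClassicalGeometry.OrthSemi Cfsg.Agent.ClassicalGeometry.OrthSemiForms
open Cfsg.Agent.BpCl (Semi SemiIso)
open Cfsg.Agent.H952.Rc (Comp)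

universe u v

/-- `GoodO` holds -/
theorem goodO : GoodO.{u, v} := by
  intro F W _ _ _ _ _ Q hQ h4
  exact ⟨fun s hs h3 hsF hd => Cfsg.Agent.H809.Sec.sgood_omega hQ hs h3 hsF h4 hd,
    fun φ => Cfsg.Agent.H809.Sec.semiGood_omega hQ h4 φ⟩

/-- **the automorphisms induced by semisimilitudes** -/
theorem orth_false {F : Type u} {V : Type v} [Field F] [Finite F] [AddCommGroup V] [Module F V]
    [FiniteDimensional F V] {Q : QuadraticForm F V} {t : ℕ} [ht : Fact t.Prime] [CharP F t]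
    (hQ : Nondeg Q) (h7 : 7 ≤ finrank F V) (hL : IsLieTypeChar t (↥(E Q) ⧸ Subgroup.center ↥(E Q)))
    {s : ℕ} (hs : s.Prime) (h3 : 3 ≤ s) (hst : s ≠ t) (hsK : s ∣ Nat.card (↥(E Q) ⧸ Subgroup.center ↥(E Q)))
    {e : ℕ} {eps : Prop} (he : 1 ≤ e) (hN : 4 * e ≤ finrank F V)
    (hplus : 4 * e = finrank F V → PlusT Q) (h1 : eps → s ∣ Nat.card F ^ e - 1)
    (h2 : ¬ eps → s ∣ Nat.card F ^ e + 1)
    {x : MulAut (↥(E Q) ⧸ Subgroup.center ↥(E Q))} (hxP : x ∈ (Psi Q).range) (hx : (orderOf x).Prime)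
    (hPC : PC s x) (hFC : FC s 11 x) : False := by
  have hG := Cfsg.Agent.LieClassical.OrthFinite.good_of_finite hQ (by omega)
  have hfin : Finite ↥(E Q) := Cfsg.Agent.BpCl.finite_subgroup _
  obtain ⟨g, rfl⟩ := hxP
  obtain ⟨φ, l, hg⟩ := g.2
  set! p := orderOf (Psi Q g) with hp
  rewrite [← hp] at hx
  have h0 : Psi Q (g ^ p) = 1 := by rw [map_pow, hp, pow_orderOf_eq_one]
  obtain ⟨a, ha, hga⟩ := exists_scalar_of_conjE hG (g ^ p) (eq_one_of_quotAut (commutator_E hG) _ h0)
  have hsm : SemiIso (fun u _ => Q u) φ l g.1 :=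
    { add := hg.add, smul := hg.smul, form := fun u _ => hg.form u }
  have hcomp : Comp (Psi Q g) g.1 := by
    intro h
    refine ⟨conjE Q g h, fun v => ?_, rfl⟩
    rw [coe_conjE, conjLin_apply']
  rcases omega_main goodO hQ h7 rfl hs h3 hst hPC hx hsm hg.ne ha (show ∀ v, (g.1 ^ p) v = a • v from hga) hcomp he
    hN hplus h1 h2 with h | ⟨h, hφ, hp2⟩
  · rw [h, orderOf_one] at hp
    rw [hp] at hx
    exact Nat.not_prime_one hx
  · subst hφ
    obtain ⟨X, hX⟩ := Cfsg.Agent.BpCl.exists_linear hsm.toSemi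
    have hgX : ∀ v, g.1 v = X v := fun v => by rw [← hX]; rfl
    have hpow : ∀ (n : ℕ) (v : V), (X ^ n) v = (g.1 ^ n) v := by
      intro n
      induction n with
      | zero => intro v; rfl
      | succ n ih =>
        intro v
        rw [pow_succ', pow_succ', Equiv.Perm.mul_apply, LinearEquiv.mul_apply, ih, hgX]
    have hin := inner_of_linear hQ (by omega) rfl (hx.odd_of_ne_two hp2) (X := X) hgX (c := l) (a := a) hg.ne
      (fun v => by
        rw [← hgX]
        exact hsm.form v v)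
      (fun v => by
        rw [hpow]
        exact hga v) hcomp
    exact false_of_inner ht.out hL hs hst hsK hin h (by norm_num) hFC

seal _root_.Finset.sum _root_.dotProduct in
/-- **`NR t K` for `K ≅ PΩ(Q)` if all automorphisms are induced by semisimilitudes** -/
theorem nr_of_psi {F : Type} [Field F] [Fintype F] {ι : Type} [Fintype ι] [DecidableEq ι]
    {Q : QuadraticForm F (ι → F)} {t : ℕ} (ht : t.Prime) [CharP F t] (hQ : Nondeg Q) (h7 : 7 ≤ Fintype.card ι)
    {K : Type u} [Group K] [Finite K] (hL : IsLieTypeChar t K) (e : K ≃* POmega F ⇑Q)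
    {s r : ℕ} {x : MulAut K} (hs : s.Prime) (hs3 : 3 ≤ s) (hst : s ≠ t) (hsK : s ∣ Nat.card K)
    (hP : ∀ P : Sylow s K, ¬ IsCyclic (P : Subgroup K)) (hx : (orderOf x).Prime) (hPC : PC s x)
    (hFC : FC s (mm r) x) (hG : _root_.Cfsg.Agent.LieClassical.OrthTrans.Good Q) (hxP : tr (e.trans (pomegaEquiv hG)) x ∈ (Psi Q).range) : False := by
  have : Fact s.Prime := ⟨hs⟩
  have : Fact t.Prime := ⟨ht⟩
  have hfin : Finite (POmega F ⇑Q) := Finite.of_equiv _ e.toEquiv
  have hfinE : Finite ↥(E Q) := Cfsg.Agent.BpCl.finite_subgroup _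
  have hsF : (s : F) ≠ 0 := by
    intro h0
    rw [CharP.cast_eq_zero_iff F t] at h0
    exact hst ((Nat.prime_dvd_prime_iff_eq ht hs).1 h0).symm
  obtain ⟨P⟩ : Nonempty (Sylow s (POmega F ⇑Q)) := inferInstance
  have hPc : ¬ IsCyclic P := by
    intro hc
    have hle : (P : Subgroup (POmega F ⇑Q)) ≤ e.toMonoidHom.range := by
      intro y _
      exact ⟨e.symm y, e.apply_symm_apply y⟩
    have hc' : IsCyclic (P : Subgroup (POmega F ⇑Q)) := hc
    apply hP (P.comapOfInjective e.toMonoidHom e.injective hle)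
    change (IsCyclic ↥((P : Subgroup (POmega F ⇑Q)).comap e.toMonoidHom) :)
    refine (isCyclic_of_injective (e.toMonoidHom.subgroupComap (P : Subgroup _)) ?_ :)
    intro a b hab
    exact Subtype.ext (e.injective (congrArg Subtype.val hab))
  obtain ⟨k, eps, hk, hk4, hkp, h1, h2⟩ := exists_exponent_omega hQ (by omega) (by omega) hsF P hPc
  set e' := e.trans (pomegaEquiv hG) with he'
  have hcard : Nat.card (↥(E Q) ⧸ Subgroup.center ↥(E Q)) = Nat.card K := (Nat.card_congr e'.toEquiv).symm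
  have hL' : IsLieTypeChar t (↥(E Q) ⧸ Subgroup.center ↥(E Q)) := Cfsg.Agent.CTwoTab.isLieTypeChar_congr e' hL
  exact orth_false hQ (by rw [Module.finrank_fintype_fun_eq_card]; exact h7) hL' hs hs3 hst (by rw [hcard]; exact hsK)
    hk hk4 hkp h1 h2 hxP (by rw [H459.Rad.orderOf_tr]; exact hx) (hPC.tr e') ((hFC.eleven).tr e')

/-- **`NR t K` for `K ≅ PΩ(Q)`, all automorphisms induced by semisimilitudes** -/
theorem nr_of {F : Type} [Field F] [Fintype F] {ι : Type} [Fintype ι] [DecidableEq ι]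
    {Q : QuadraticForm F (ι → F)} {t : ℕ} (ht : t.Prime) [CharP F t] (hQ : Nondeg Q) (h7 : 7 ≤ Fintype.card ι)
    (htop : (Psi Q).range = ⊤) {K : Type u} [Group K] [Finite K] (hL : IsLieTypeChar t K) {f : (ι → F) → F}
    (hf : ⇑Q = f) (e : K ≃* POmega F f) : NR t K := by
  subst hf
  intro s r x hs hr hr3 hrs hrK hst hsK hP hx hxs hxr hPC hFC
  have hG := Cfsg.Agent.LieClassical.OrthFinite.good_of_finite hQ
    (by rw [Module.finrank_fintype_fun_eq_card]; omega)
  exact nr_of_psi ht hQ h7 hL e hs (hr3.trans hrs) hst hsK hP hx hPC hFC hG (by rw [htop]; exact mem_top _)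

/-- **`PΩ_{2m+1}(q)`** -/
theorem nr_oodd {t : ℕ} (ht : t.Prime) {K : Type u} [Group K] [Finite K] (h : IsPOmegaOddChar t K) : NR t K := by
  have hL : IsLieTypeChar t K := Or.inr (Or.inr (Or.inr (Or.inl h)))
  obtain ⟨F, _, _, _, m, hm, hodd, ⟨e⟩⟩ := h
  have h2 := Cfsg.Agent.H952.Rc.two_ne_zero_of_odd_card hodd
  have htop := MonoidHom.range_eq_top.2 (Cfsg.Agent.AutOrth.Final.surjective_odd (F := F) hm h2)
  refine nr_of ht (nondeg_oddForm m F h2) ?_ htop hL (coe_oddForm m F) e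
  rw [Fintype.card_sum, Fintype.card_sum, Fintype.card_fin, Fintype.card_unit]
  omega

/-- **`PΩ⁻_{2m}(q)`** -/
theorem nr_ominus {t : ℕ} (ht : t.Prime) {K : Type u} [Group K] [Finite K] (h : IsPOmegaMinusChar t K) : NR t K := by
  have hL : IsLieTypeChar t K := Or.inr (Or.inr (Or.inr (Or.inr (Or.inr (Or.inl h)))))
  obtain ⟨F, _, _, _, m, a, b, hm, hab, ⟨e⟩⟩ := h
  have htop := MonoidHom.range_eq_top.2
    (Cfsg.Agent.AutOrth.Final.surjective_minus (F := F) (m := m - 1) (by omega) hab)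
  refine nr_of ht (nondeg_minusForm (m - 1) F a b hab) ?_ htop hL (coe_minusForm (m - 1) F a b) e
  rw [Fintype.card_sum, Fintype.card_sum, Fintype.card_fin, Fintype.card_fin]
  omega

/-- **`PΩ⁺_{2m}(q)`, `m ≥ 5`** -/
theorem nr_oplus_five {t : ℕ} (ht : t.Prime) {K : Type u} [Group K] [Finite K] {F : Type} [Field F] [Fintype F]
    [CharP F t] {m : ℕ} (hm : 5 ≤ m) (e : Nonempty (K ≃* Cfsg.POmega F (Cfsg.quadFormPlus m F))) : NR t K := by
  have hL : IsLieTypeChar t K := Or.inr (Or.inr (Or.inr (Or.inr (Or.inl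
    ⟨F, inferInstance, inferInstance, inferInstance, m, by omega, e⟩))))
  obtain ⟨e⟩ := e
  have htop := MonoidHom.range_eq_top.2 (Cfsg.Agent.AutOrth.Final.surjective_plus (F := F) (m := m) (by omega))
  refine nr_of ht (nondeg_plusForm m F) ?_ htop hL (coe_plusForm m F) e
  rw [Fintype.card_sum, Fintype.card_fin]
  omega

end Cfsg.Agent.H621.Pi
end

-- part: H621/Pi/RowO8
section
/-!
# S4324: the row `NR` of `PΩ⁺` (helper621)

* `index_three_cases` : an element `α` of prime order of a group with a subgroup `H` of index three is conjugate into `H`, or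
  has order three;
* `tri_of_not_mem` : an automorphism of order three of `PΩ₈⁺(q)` not conjugate into `Ψ` is a triality automorphism (`IsTri`);
* `nr_oplus_of` : the row `NR` of `PΩ⁺_{2m}(q)`, `m ≥ 4`, from `TriFalse`.
-/

set_option autoImplicit false
set_option linter.unusedSectionVars false

namespace Cfsg.Agent.H621.Pi

open Module QuadraticMap Subgroup Cfsg Cfsg.Agent.LieClassical.OrthCore Cfsg.Agent.LieClassical.OrthTrans
open Cfsg.Agent.H216.Pi Cfsg.Agent.H459.Rad
open Cfsg.Agent.LieClassical.QuadForms Cfsg.Agent.ClassicalGeometry.OrthSemi Cfsg.Agent.ClassicalGeometry.OrthSemiForms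
open Cfsg.Agent.ClassicalGeometry.OrthAut1 Cfsg.Agent.ClassicalGeometry.TrialityIndex
open Cfsg.Agent.H566.Pi.Tri

universe u

/-- elements of prime order and subgroups of index three -/
theorem index_three_cases {A : Type*} [Group A] {H : Subgroup A} (hH : H.index = 3) {α : A}
    (hα : (orderOf α).Prime) : (∃ g : A, g⁻¹ * α * g ∈ H) ∨ orderOf α = 3 := by
  by_cases h : ∃ g : A, g⁻¹ * α * g ∈ H
  · exact Or.inl h
  right
  have := Fact.mk hα
  have hfin : Finite (A ⧸ H) := Nat.finite_of_card_ne_zero (by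
    change H.index ≠ 0
    omega)
  have := Fintype.ofFinite (A ⧸ H)
  have hfz : Finite (zpowers α) := Nat.finite_of_card_ne_zero (by
    rw [Nat.card_zpowers]
    exact hα.ne_zero)
  have hP : IsPGroup (orderOf α) (zpowers α) := by
    rw [IsPGroup.iff_card]
    exact ⟨1, by rw [Nat.card_zpowers, pow_one]⟩
  have h1 := hP.card_modEq_card_fixedPoints (A ⧸ H)
  have h2 : Nat.card (MulAction.fixedPoints (zpowers α) (A ⧸ H)) = 0 := by
    rw [Nat.card_eq_zero]
    left
    refine ⟨?_⟩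
    rintro ⟨c, hc⟩
    obtain ⟨g, rfl⟩ := QuotientGroup.mk_surjective c
    apply h
    refine ⟨g, ?_⟩
    have h3 := hc ⟨α, mem_zpowers α⟩
    have h4 : ((α * g : A) : A ⧸ H) = (g : A ⧸ H) := h3
    rw [eq_comm, QuotientGroup.eq] at h4
    rwa [mul_assoc]
  have h3 : Nat.card (A ⧸ H) = 3 := hH
  rw [h2, h3] at h1
  have h4 : orderOf α ∣ 3 := (Nat.modEq_zero_iff_dvd).1 h1
  exact (Nat.prime_dvd_prime_iff_eq hα Nat.prime_three).1 h4

section

variable {F : Type*} [Field F] [Finite F]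

/-- an automorphism mapping one point stabiliser to a point stabiliser is induced by a semisimilitude -/
theorem mem_range_of_one (hG : _root_.Cfsg.Agent.LieClassical.OrthTrans.Good (plusForm 4 F)) {α : MulAut (P (plusForm 4 F))} {x y : Fin 4 ⊕ Fin 4 → F}
    (hx : plusForm 4 F x = 0) (hx0 : x ≠ 0) (hy : plusForm 4 F y = 0) (hy0 : y ≠ 0)
    (h : (stab hG (Submodule.span F {x})).map α.toMonoidHom = stab hG (Submodule.span F {y})) :
    α ∈ (Psi (plusForm 4 F)).range := by
  refine Cfsg.Agent.AutOrth.Final.mem_range_of_pt hG (by simp) fun z hz hz0 => ?_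
  obtain ⟨g, hg, hgx⟩ := hG.trans_sing hx hz hx0 hz0
  obtain ⟨k, hk⟩ := QuotientGroup.mk_surjective (α ((⟨g, hg⟩ : ↥(E (plusForm 4 F))) : P (plusForm 4 F)))
  refine ⟨(k : (Fin 4 ⊕ Fin 4 → F) ≃ₗ[F] (Fin 4 ⊕ Fin 4 → F)) y, ?_, ?_, ?_⟩
  · rw [mem_O.1 (E_le_O k.2)]; exact hy
  · exact fun h => hy0 ((LinearEquiv.map_eq_zero_iff _).1 h)
  have e1 : stab hG (Submodule.span F {z}) = (stab hG (Submodule.span F {x})).map
      (MulAut.conj ((⟨g, hg⟩ : ↥(E (plusForm 4 F))) : P (plusForm 4 F))).toMonoidHom := by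
    rw [map_conj_stab, pact_mk, mapHom_span]
    change _ = stab hG (Submodule.span F {g x})
    rw [hgx]
  have e2 : α * MulAut.conj ((⟨g, hg⟩ : ↥(E (plusForm 4 F))) : P (plusForm 4 F)) =
      MulAut.conj ((k : ↥(E (plusForm 4 F))) : P (plusForm 4 F)) * α := by
    ext a
    simp only [MulAut.mul_apply, MulAut.mul_apply, MulAut.conj_apply, MulAut.conj_apply, map_mul, map_mul, map_inv, hk]
  simp_rw [e1, ← map_mulAut_mul, e2, map_mulAut_mul, h, map_conj_stab, pact_mk, mapHom_span]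

theorem tri_of_not_mem (hG : _root_.Cfsg.Agent.LieClassical.OrthTrans.Good (plusForm 4 F)) {α : MulAut (P (plusForm 4 F))}
    (hα : α ∉ (Psi (plusForm 4 F)).range) (h3 : orderOf α = 3) : IsTri hG α := by
  refine ⟨by simp only [← h3, pow_orderOf_eq_one], fun x y hx hx0 hy hy0 h => hα (mem_range_of_one hG hx hx0 hy hy0 h)⟩

end

/-- the statement on triality automorphisms -/
def TriFalse : Prop := ∀ {F : Type} [Field F] [Finite F] {t : ℕ} [Fact t.Prime] [CharP F t]
  (hG : _root_.Cfsg.Agent.LieClassical.OrthTrans.Good (plusForm 4 F)) {α : MulAut (P (plusForm 4 F))}, IsTri hG α → orderOf α = 3 →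
  ∀ {s : ℕ}, s.Prime → 5 ≤ s → s ≠ t → s ∣ Nat.card F ^ 4 - 1 → FC s 11 α → False

seal _root_.Finset.sum _root_.dotProduct in
/-- **`NR t K` for `K ≅ PΩ⁺_{2m}(q)`, `m ≥ 4`** -/
theorem nr_oplus_of (hT : TriFalse) {t : ℕ} (ht : t.Prime) {K : Type u} [Group K] [Finite K]
    (h : IsPOmegaPlusChar t K) : NR t K := by
  have hL : IsLieTypeChar t K := Or.inr (Or.inr (Or.inr (Or.inr (Or.inl h))))
  obtain ⟨F, _, _, _, m, hm, he⟩ := h
  rcases Nat.lt_or_ge 4 m with hm5 | hm4
  · exact nr_oplus_five ht (by omega) he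
  obtain rfl : m = 4 := by omega
  obtain ⟨e⟩ := he
  have hQe : LieClassical.OrthForms.plusForm 4 F = plusForm 4 F := Cfsg.Agent.AutOrth.Main.plusForm_eq 4
  have hcoe : ⇑(plusForm 4 F) = quadFormPlus 4 F := by
    rw [← hQe]
    exact LieClassical.OrthForms.coe_plusForm 4 F
  have hG : _root_.Cfsg.Agent.LieClassical.OrthTrans.Good (plusForm 4 F) := Cfsg.Agent.AutOrth.Main.good_plus (by norm_num)
  have hQ : Nondeg (plusForm 4 F) := by
    rw [← hQe]
    exact LieClassical.OrthForms.nondeg_plusForm 4 F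
  have h8 : Fintype.card (Fin 4 ⊕ Fin 4) = 8 := by simp
  have hind : (Psi (plusForm 4 F)).range.index = 3 := by
    rw [← hQe]
    exact Cfsg.Agent.AutOrth.Final.index_plus_four
  have key : ∀ {f : (Fin 4 ⊕ Fin 4 → F) → F}, ⇑(plusForm 4 F) = f → (K ≃* POmega F f) → NR t K := by
    intro f hf e
    subst hf
    intro s r x hs hr hr3 hrs hrK hst hsK hP hx hxs hxr hPC hFC
    have : Fact s.Prime := ⟨hs⟩
    have : Fact t.Prime := ⟨ht⟩
    have hfin : Finite (POmega F ⇑(plusForm 4 F)) := Finite.of_equiv _ e.toEquiv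
    have hfinE : Finite ↥(E (plusForm 4 F)) := Cfsg.Agent.BpCl.finite_subgroup _
    set! e' : K ≃* P (plusForm 4 F) := e.trans (pomegaEquiv hG) with he'
    have hord : orderOf (tr e' x) = orderOf x := H459.Rad.orderOf_tr e' x
    -- a conjugate in `Ψ`
    have hconj : ∀ g : MulAut (P (plusForm 4 F)), g⁻¹ * tr e' x * g ∈ (Psi (plusForm 4 F)).range → False := by
      intro g hg
      let f' : P (plusForm 4 F) ≃* P (plusForm 4 F) := g⁻¹
      let e₂ : K ≃* POmega F ⇑(plusForm 4 F) := (e'.trans f').trans (pomegaEquiv hG).symm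
      have h1 : tr (e₂.trans (pomegaEquiv hG)) x = g⁻¹ * tr e' x * g := by
        ext a
        ((conv => enter [@2]; rw [H459.Rad.tr_apply]); (conv => enter [@3]; rw [MulAut.mul_apply]); (conv => enter [@3]; rw [MulAut.mul_apply]); (conv => enter [@3, @6]; rw [H459.Rad.tr_apply]))
        change (pomegaEquiv hG) ((pomegaEquiv hG).symm (f' (e' (x (e'.symm (f'.symm ((pomegaEquiv hG)
          ((pomegaEquiv hG).symm a)))))))) = _
        ((conv => enter [@2]; rw [MulEquiv.apply_symm_apply]); (conv => enter [@2, @6, @6, @6, @6, @6]; rw [MulEquiv.apply_symm_apply]))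
        rfl
      exact nr_of_psi ht hQ (by rw [h8]; norm_num) hL e₂ hs (hr3.trans hrs) hst hsK hP hx hPC hFC hG
        (by ((conv => enter [@5]; rw [h1])); exact hg)
    rcases index_three_cases hind (α := tr e' x) (by rw [hord]; exact hx) with ⟨g, hg⟩ | h3
    · exact hconj g hg
    -- triality
    have hnot : tr e' x ∉ (Psi (plusForm 4 F)).range := fun h =>
      hconj 1 (by simp only [inv_one, one_mul, mul_one]; exact h)
    have hs5 : 5 ≤ s := by
      have h5 : s ≠ 3 := fun h => hxs (by rw [← hord, h3, h])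
      have h6 : s ≠ 4 := fun h => by
        rw [h] at hs
        exact absurd hs (by norm_num)
      omega
    have hsF : (s : F) ≠ 0 := by
      intro h0
      rw [CharP.cast_eq_zero_iff F t] at h0
      exact hst ((Nat.prime_dvd_prime_iff_eq ht hs).1 h0).symm
    obtain ⟨P'⟩ : Nonempty (Sylow s (POmega F ⇑(plusForm 4 F))) := inferInstance
    have hPc : ¬ IsCyclic P' := by
      intro hc
      have hle : (P' : Subgroup (POmega F ⇑(plusForm 4 F))) ≤ e.toMonoidHom.range := by
        intro y _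
        exact ⟨e.symm y, e.apply_symm_apply y⟩
      have hc' : IsCyclic (P' : Subgroup (POmega F ⇑(plusForm 4 F))) := hc
      apply hP (P'.comapOfInjective e.toMonoidHom e.injective hle)
      change (IsCyclic ↥((P' : Subgroup (POmega F ⇑(plusForm 4 F))).comap e.toMonoidHom) :)
      refine (isCyclic_of_injective (e.toMonoidHom.subgroupComap (P' : Subgroup _)) ?_ :)
      intro a b hab
      exact Subtype.ext (e.injective (congrArg Subtype.val hab))
    obtain ⟨k, eps, hk, hk4, -, h1, h2⟩ := exists_exponent_omega hQ (by rw [h8]; norm_num) (by omega) hsF P' hPc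
    have hk2 : k ≤ 2 := by
      rw [Module.finrank_fintype_fun_eq_card, h8] at hk4
      omega
    have hq1 : 1 ≤ Nat.card F ^ k := Nat.one_le_pow _ _ Nat.card_pos
    have hdvd : s ∣ Nat.card F ^ 4 - 1 := by
      have h5 : s ∣ Nat.card F ^ (2 * k) - 1 := by
        have h6 : Nat.card F ^ (2 * k) - 1 = (Nat.card F ^ k + 1) * (Nat.card F ^ k - 1) := by
          rw [mul_comm 2 k, pow_mul]
          have := Nat.sq_sub_sq (Nat.card F ^ k) 1
          simpa only [_root_.Nat.card_eq_fintype_card, _root_.one_pow] using this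
        rw [h6]
        by_cases hE : eps
        · exact Dvd.dvd.mul_left (h1 hE) _
        · exact Dvd.dvd.mul_right (h2 hE) _
      refine h5.trans (Nat.pow_sub_one_dvd_pow_sub_one _ ?_)
      rcases (show k = 1 ∨ k = 2 by omega) with h | h <;> rw [h] <;> norm_num
    exact hT hG (tri_of_not_mem hG hnot h3) h3 hs hs5 hst hdvd ((hFC.eleven).tr e')
  exact key hcoe e

end Cfsg.Agent.H621.Pi
end
end

-- part: H551/Pi/NrPsp_mg
section
prune_inst 0x4251000010100000000040014800000811000042000000000088100000000a04040028040082024035000000000000040010000200240000004200000000401000000000400000000000000000000000000000000000000000000000000000000000000000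
set_option linter.all false
open scoped Cfsg.Agent.FastGrp

-- part: H551/Pi/SpMain
section
/-!
# S4324, symplectic groups: automorphisms induced by semisimilitudes (helper551)
-/

set_option autoImplicit false
set_option linter.unusedSectionVars false

namespace Cfsg.Agent.H551.PiSp

open Module Submodule
open Subgroup (center mem_center_iff)
open Cfsg.Agent.H952.Alt (Nd TI)
open Cfsg.Agent.BpCl (Semi SemiIso)
open Cfsg.Agent.H952.Rc (Comp)
open Cfsg.Agent.H216.Pi (FC InC)

universe u v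

variable {F : Type u} {V : Type v} [Field F] [AddCommGroup V] [Module F V] {Γ : Subgroup (V ≃ₗ[F] V)}

/-- a scalar induces the identity -/
theorem eq_one_of_scalar {x : MulAut (↥Γ ⧸ center ↥Γ)} {g : Equiv.Perm V} (hx : Comp x g) {b : F}
    (hb : ∀ v, g v = b • v) : x = 1 := by
  ext k
  obtain ⟨h, rfl⟩ := QuotientGroup.mk'_surjective (center ↥Γ) k
  rw [hx.apply (h' := h) (fun v => by rw [hb, hb, map_smul])]
  rfl

/-- a multiple of an element of `Γ` induces an inner automorphism -/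
theorem eq_conj {x : MulAut (↥Γ ⧸ center ↥Γ)} {g : Equiv.Perm V} (hx : Comp x g) {h : V ≃ₗ[F] V} (hh : h ∈ Γ)
    {b : F} (hb : ∀ v, g v = b • h v) : x = MulAut.conj (QuotientGroup.mk' (center ↥Γ) ⟨h, hh⟩) := by
  ext k
  obtain ⟨y, rfl⟩ := QuotientGroup.mk'_surjective (center ↥Γ) k
  rw [hx.apply (h' := ⟨h, hh⟩ * y * ⟨h, hh⟩⁻¹) (fun v => by
    rw [hb, hb]
    change h (y.1 (h.symm (b • h v))) = b • h (y.1 v)
    rw [map_smul, h.symm_apply_apply, map_smul, map_smul]), map_mul, map_mul, map_inv]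
  rfl

variable [Finite F] [FiniteDimensional F V] {B : LinearMap.BilinForm F V} {g : Equiv.Perm V} {φ : F ≃+* F} {c : F}

/-- **automorphisms induced by semisimilitudes** -/
theorem false_of_comp {m : ℕ} (hm : 2 ≤ m) (hd : finrank F V = 2 * m) {t s e p n : ℕ} [CharP F t] (ht : t.Prime)
    (hA : B.IsAlt) (hnd : ∀ u, (∀ v, B u v = 0) → u = 0)
    (hΓ : ∀ h : V ≃ₗ[F] V, h ∈ Γ ↔ ∀ u v, B (h u) (h v) = B u v)
    (hL : Cfsg.IsLieTypeChar t (↥Γ ⧸ center ↥Γ)) (hs : s.Prime) (hst : s ≠ t)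
    (hsK : s ∣ Nat.card (↥Γ ⧸ center ↥Γ)) {x : MulAut (↥Γ ⧸ center ↥Γ)} (hx1 : x ≠ 1)
    (hg : SemiIso (fun u v => B u v) φ c g) (hc : c ≠ 0) (he : 1 ≤ e) (hme : 2 * e ≤ m) (hF : Facts B g e)
    (hcomp : Comp x g) (hp : p.Prime) {a : F} (ha : a ≠ 0) (hga : ∀ v, (g ^ p) v = a • v) (hn : 2 ≤ n)
    (hFC : FC s n x) : False := by
  have hVn : Nontrivial V := Module.nontrivial_of_finrank_pos (R := F) (by omega)
  have hVf : Finite V := Module.finite_of_finite F
  have : Finite (V ≃ₗ[F] V) := Finite.of_injective (fun h : V ≃ₗ[F] V => (h : V → V)) DFunLike.coe_injective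
  obtain ⟨hφ, hpt, hne, hirr⟩ := irr_of_facts hA hnd hg hc hF he hm hd hme (t := t) hp ha hga (by
    rintro ⟨b, hb⟩
    exact hx1 (eq_one_of_scalar hcomp hb))
  obtain ⟨hodd, h, b, hb0, hgh, hhp, hhB⟩ := exists_iso hnd hg hφ hm hd (t := t) hp hpt ha hga hne hirr
  have hhΓ : h ∈ Γ := (hΓ h).2 hhB
  have hxc := eq_conj hcomp hhΓ hgh
  have hirr' : ∀ W : Submodule F V, (∀ v ∈ W, h v ∈ W) → W = ⊥ ∨ W = ⊤ := by
    intro W hW
    apply hirr
    intro v hv
    rw [hgh]
    exact W.smul_mem b (hW v hv)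
  have hcen := not_dvd_card_centralizer (t := t) ht hodd hA hnd hΓ ⟨h, hhΓ⟩ (Subtype.ext hhp) hirr'
  refine Cfsg.Agent.H955.PiG.false_of_regular ht hL hs hsK (k := 1) (m := n) (x := x) ?_ hcen (by omega)
    (fun h => absurd h hst) hFC
  rw [← hxc]
  exact InC.self x

end Cfsg.Agent.H551.PiSp
end

-- part: H551/Pi/SpFacts
section
/-!
# S4324, symplectic groups: the section facts (helper551)
-/

set_option autoImplicit false
set_option linter.unusedSectionVars false

namespace Cfsg.Agent.H551.PiSp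

open Module Submodule
open Subgroup (center mem_center_iff closure)
open Cfsg.Agent.H952.Alt (Nd TI)
open Cfsg.Agent.BpCl (Semi SemiIso Iso mem_Iso)
open Cfsg.Agent.H952.Rc (Comp tv tv_apply tv_mem)
open Cfsg.Agent.H216.Pi (PC)
open Cfsg.Agent.H809.Sec

universe u v

variable {F : Type u} {V : Type v} [Field F] [AddCommGroup V] [Module F V] {Γ : Subgroup (V ≃ₗ[F] V)}
  [Finite F] [FiniteDimensional F V] {B : LinearMap.BilinForm F V} {g : Equiv.Perm V} {φ : F ≃+* F} {c : F}

/-- an injective linear map as an equivalence -/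
noncomputable def mkE (f : V →ₗ[F] V) (hf : Function.Injective f) : V ≃ₗ[F] V := LinearEquiv.ofInjectiveEndo f hf

/-- isometries are injective -/
theorem inj_of_iso (hnd : ∀ u, (∀ v, B u v = 0) → u = 0) (f : V →ₗ[F] V) (hf : ∀ u v, B (f u) (f v) = B u v) :
    Function.Injective f := by
  rw [injective_iff_map_eq_zero]
  intro u hu
  apply hnd
  intro v
  rw [← hf, hu, map_zero, LinearMap.zero_apply]

theorem exists_isom (hnd : ∀ u, (∀ v, B u v = 0) → u = 0)
    (hΓ : ∀ h : V ≃ₗ[F] V, h ∈ Γ ↔ ∀ u v, B (h u) (h v) = B u v) (f : V →ₗ[F] V)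
    (hf : ∀ u v, B (f u) (f v) = B u v) : ∃ h ∈ Γ, ∀ v, h v = f v :=
  ⟨mkE f (inj_of_iso hnd f hf), (hΓ _).2 hf, fun _ => rfl⟩

/-- the long root element for an orthogonal pair -/
def lr (B : LinearMap.BilinForm F V) (u u' : V) : V →ₗ[F] V :=
  LinearMap.id + (B.flip u).smulRight u' + (B.flip u').smulRight u

theorem lr_apply (u u' v : V) : lr B u u' v = v + B v u • u' + B v u' • u := rfl

theorem lr_iso (hA : B.IsAlt) {u u' : V} (h : B u u' = 0) (v w : V) : B (lr B u u' v) (lr B u u' w) = B v w := by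
  have h' := Cfsg.Agent.H952.Alt.eq_zero_swap hA h
  rw [lr_apply, lr_apply]
  simp only [map_add, map_smul, LinearMap.add_apply, LinearMap.smul_apply, smul_eq_mul, hA.self_eq_zero, h, h',
    mul_zero, add_zero]
  rw [Cfsg.Agent.H952.Alt.swap hA u' w, Cfsg.Agent.H952.Alt.swap hA u w]
  ring

theorem isSc_center [Nontrivial V] (hA : B.IsAlt) (hnd : ∀ u, (∀ v, B u v = 0) → u = 0)
    (hΓ : ∀ h : V ≃ₗ[F] V, h ∈ Γ ↔ ∀ u v, B (h u) (h v) = B u v) :
    ∀ z ∈ center ↥Γ, IsSc F (⇑z.1) := by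
  intro z hz
  obtain ⟨k, -, hk⟩ := center_sq hA hnd hΓ hz
  exact ⟨k, hk⟩

/-- totally isotropic subspaces -/
theorem fact_iso [Nontrivial V] (hA : B.IsAlt) (hnd : ∀ u, (∀ v, B u v = 0) → u = 0)
    (hΓ : ∀ h : V ≃ₗ[F] V, h ∈ Γ ↔ ∀ u v, B (h u) (h v) = B u v) {s e : ℕ} (hs : s.Prime) (h3 : 3 ≤ s) (he : 1 ≤ e)
    (hse : s ∣ Nat.card F ^ (2 * e) - 1) {x : MulAut (↥Γ ⧸ center ↥Γ)} (hPC : PC s x) (hg : Semi φ g)
    (hx : Comp x g) (W : Submodule F V) (hW : TI B W) (hgW : ∀ v, g v ∈ W ↔ v ∈ W) (hd : 2 * e ≤ finrank F W) :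
    ∃ b : F, ∀ w ∈ W, g w = b • w := by
  have hVf : Finite V := Module.finite_of_finite F
  have hker : ∀ b b' : W, (b' : V) = g b → (LinearMap.id : W →ₗ[F] W) b = 0 → (LinearMap.id : W →ₗ[F] W) b' = 0 := by
    intro b b' h h0
    rw [LinearMap.id_apply] at h0 ⊢
    apply Subtype.ext
    rw [h, h0, Submodule.coe_zero, hg.zero]
  obtain ⟨w0, hw0, hw00⟩ : ∃ w ∈ W, w ≠ 0 := by
    have : Nontrivial W := Module.nontrivial_of_finrank_pos (R := F) (by omega)
    obtain ⟨w, hw⟩ := exists_ne (0 : W)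
    exact ⟨w, w.2, fun h => hw (Subtype.ext h)⟩
  obtain ⟨z, hz⟩ : ∃ z, B w0 z ≠ 0 := by
    by_contra hcon
    push Not at hcon
    exact hw00 (hnd w0 hcon)
  obtain ⟨b, hb⟩ := section_lemma (B := W) (p := (LinearMap.id : W →ₗ[F] W)) hs hPC (isSc_center hA hnd hΓ) hg hx
    Function.surjective_id (fun v hv => (hgW v).2 hv) hker
    ⟨_, tv_mem hA hΓ z, fun T hT => by
      have h1 := (hT.1 w0).2 hw0
      rw [tv_apply] at h1
      have h2 : B w0 z • z ∈ W := by
        have := W.sub_mem h1 hw0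
        rwa [add_sub_cancel_left] at this
      have h4 : z ∈ W := (W.smul_mem_iff hz).1 h2
      exact hz (hW w0 hw0 z h4)⟩
    (Y := (LinearEquiv.det (R := F) (M := W)).ker)
    (by
      rw [sl_closure]
      apply ind_of_closure
      rintro _ ⟨f, u, hfu, rfl⟩
      obtain ⟨f', hf'⟩ := LinearMap.exists_extend f
      obtain ⟨u', hu'⟩ := exists_rep hA hnd f'
      have hfu' : ∀ w : W, B w u' = f w := by
        intro w
        rw [hu', ← hf']
        rfl
      have hor : B (u : V) u' = 0 := by rw [hfu', hfu]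
      obtain ⟨h, hhΓ, hh⟩ := exists_isom hnd hΓ (lr B u u') (lr_iso hA hor)
      have hhw : ∀ w : W, h w = ((LinearEquiv.transvection hfu w : W) : V) := by
        intro w
        rw [hh, lr_apply, hW w w.2 u u.2, zero_smul, add_zero, hfu', LinearEquiv.transvection.apply]
        rfl
      have hinv : ∀ v, h v ∈ W ↔ v ∈ W := by
        apply Cfsg.Agent.H952.Rc.inv_iff (g := h.toEquiv)
        intro v hv
        have := hhw ⟨v, hv⟩
        change h v ∈ W
        rw [this]
        exact Submodule.coe_mem _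
      refine ⟨h, hhΓ, hinv, fun b b' hb => ?_⟩
      apply Subtype.ext
      exact hb.trans (hhw b))
    (fun h _ T _ y hy => (MonoidHom.normal_ker _).conj_mem y hy T)
    (sgood_sl hs h3 (by omega) (i := 2 * e) (by omega) hd hse)
    (semiGood_sl (by omega) φ)
  refine ⟨b, fun w hw => ?_⟩
  have h1 := hb ⟨w, hw⟩ ⟨g w, (hgW w).2 hw⟩ rfl
  exact congrArg Subtype.val h1

/-- nondegenerate subspaces -/
theorem fact_nd [Nontrivial V] (hA : B.IsAlt) (hnd : ∀ u, (∀ v, B u v = 0) → u = 0)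
    (hΓ : ∀ h : V ≃ₗ[F] V, h ∈ Γ ↔ ∀ u v, B (h u) (h v) = B u v) {s e : ℕ} (hs : s.Prime) (h3 : 3 ≤ s) (he : 1 ≤ e)
    (hse : s ∣ Nat.card F ^ (2 * e) - 1) {x : MulAut (↥Γ ⧸ center ↥Γ)} (hPC : PC s x) (hg : Semi φ g)
    (hx : Comp x g) (W : Submodule F V) (hW : Nd B W) (hWT : W ≠ ⊤) (hgW : ∀ v, g v ∈ W ↔ v ∈ W)
    (hd : 2 * e ≤ finrank F W) : ∃ b : F, ∀ w ∈ W, g w = b • w := by
  have hVf : Finite V := Module.finite_of_finite F
  have hker : ∀ b b' : W, (b' : V) = g b → (LinearMap.id : W →ₗ[F] W) b = 0 → (LinearMap.id : W →ₗ[F] W) b' = 0 := by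
    intro b b' h h0
    rw [LinearMap.id_apply] at h0 ⊢
    apply Subtype.ext
    rw [h, h0, Submodule.coe_zero, hg.zero]
  have hc : IsCompl W (B.orthogonal W) := hW.isCompl hA
  obtain ⟨w0, hw0, hw00⟩ : ∃ w ∈ W, w ≠ 0 := by
    have : Nontrivial W := Module.nontrivial_of_finrank_pos (R := F) (by omega)
    obtain ⟨w, hw⟩ := exists_ne (0 : W)
    exact ⟨w, w.2, fun h => hw (Subtype.ext h)⟩
  obtain ⟨w1, hw1, hw1n⟩ := hW w0 hw0 hw00
  obtain ⟨z, hz, hz0⟩ : ∃ z ∈ B.orthogonal W, z ≠ 0 := by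
    by_contra hcon
    push Not at hcon
    have h1 : B.orthogonal W = ⊥ := by
      rw [eq_bot_iff]
      intro v hv
      exact (Submodule.mem_bot F).2 (hcon v hv)
    apply hWT
    have h2 := hc.sup_eq_top
    rwa [h1, sup_bot_eq] at h2
  have horth : ∀ w ∈ W, ∀ v ∈ B.orthogonal W, B w v = 0 := fun w hw v hv =>
    (LinearMap.BilinForm.mem_orthogonal_iff.1 hv) w hw
  let B' : LinearMap.BilinForm F W := B.restrict W
  have hB' : ∀ u v : W, B' u v = B u v := fun _ _ => rfl
  have hA' : B'.IsAlt := fun u => hA u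
  have hnd' : ∀ u, (∀ v, B' u v = 0) → u = 0 := by
    intro u hu
    by_contra h0
    obtain ⟨v, hv, hne⟩ := hW u u.2 (fun h => h0 (Subtype.ext h))
    exact hne (hu ⟨v, hv⟩)
  obtain ⟨b, hb⟩ := section_lemma (B := W) (p := (LinearMap.id : W →ₗ[F] W)) hs hPC (isSc_center hA hnd hΓ) hg hx
    Function.surjective_id (fun v hv => (hgW v).2 hv) hker
    ⟨_, tv_mem hA hΓ (w1 + z), fun T hT => by
      have h1 := (hT.1 w0).2 hw0
      rw [tv_apply, map_add, horth w0 hw0 z hz, add_zero] at h1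
      have h2 : B w0 w1 • (w1 + z) ∈ W := by
        have := W.sub_mem h1 hw0
        rwa [add_sub_cancel_left] at this
      have h4 : w1 + z ∈ W := (W.smul_mem_iff hw1n).1 h2
      have h5 : z ∈ W := by
        have := W.sub_mem h4 hw1
        rwa [add_sub_cancel_left] at this
      exact hz0 (Submodule.disjoint_def.1 hc.disjoint z h5 hz)⟩
    (Y := Iso fun u v => B' u v)
    (by
      intro y hy
      obtain ⟨h, h1, h2⟩ := Cfsg.Agent.H952.Rc.exists_ext hc.symm y
      have hinv := Cfsg.Agent.H952.Rc.mem_iff_of_ext hc.symm h1 h2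
      refine ⟨h, ?_, hinv, fun b b' hb => Subtype.ext (hb.trans (h2 b))⟩
      rw [hΓ]
      intro v v'
      obtain ⟨s, hs, t, ht, rfl⟩ := Submodule.mem_sup.1
        (show v ∈ B.orthogonal W ⊔ W by rw [hc.symm.sup_eq_top]; exact Submodule.mem_top)
      obtain ⟨s', hs', t', ht', rfl⟩ := Submodule.mem_sup.1
        (show v' ∈ B.orthogonal W ⊔ W by rw [hc.symm.sup_eq_top]; exact Submodule.mem_top)
      have h3 : h t = y ⟨t, ht⟩ := h2 ⟨t, ht⟩
      have h4 : h t' = y ⟨t', ht'⟩ := h2 ⟨t', ht'⟩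
      have h5 : B (y ⟨t, ht⟩ : V) (y ⟨t', ht'⟩ : V) = B t t' := hy ⟨t, ht⟩ ⟨t', ht'⟩
      simp only [map_add, LinearMap.add_apply]
      rw [h1 s hs, h1 s' hs', h3, h4, h5,
        Cfsg.Agent.H952.Alt.eq_zero_swap hA (horth _ (y ⟨t', ht'⟩).2 s hs), horth _ (y ⟨t, ht⟩).2 s' hs',
        Cfsg.Agent.H952.Alt.eq_zero_swap hA (horth t' ht' s hs), horth t ht s' hs'])
    (fun h hh T hT y hy => by
      have hT' : T ∈ Iso fun u v => B' u v := by
        intro u v
        change B (T u) (T v) = B u v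
        have h1 : (T u : V) = h u := (congrArg Subtype.val (hT.2 u ⟨h u, (hT.1 u).2 u.2⟩ rfl)).symm
        have h2 : (T v : V) = h v := (congrArg Subtype.val (hT.2 v ⟨h v, (hT.1 v).2 v.2⟩ rfl)).symm
        rw [h1, h2]
        exact (hΓ h).1 hh u v
      exact Subgroup.mul_mem _ (Subgroup.mul_mem _ hT' hy) (Subgroup.inv_mem _ hT'))
    (sgood_sp hA' hnd' hs h3 (by omega) he hd hse)
    (semiGood_sp hA' hnd' (by omega) φ)
  refine ⟨b, fun w hw => ?_⟩
  have h1 := hb ⟨w, hw⟩ ⟨g w, (hgW w).2 hw⟩ rfl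
  exact congrArg Subtype.val h1

/-- points -/
theorem fact_pt [Nontrivial V] (hA : B.IsAlt) (hnd : ∀ u, (∀ v, B u v = 0) → u = 0)
    (hΓ : ∀ h : V ≃ₗ[F] V, h ∈ Γ ↔ ∀ u v, B (h u) (h v) = B u v) {s e : ℕ} (hs : s.Prime) (h3 : 3 ≤ s) (he : 1 ≤ e)
    (hse : s ∣ Nat.card F ^ (2 * e) - 1) {x : MulAut (↥Γ ⧸ center ↥Γ)} (hPC : PC s x)
    (hg : SemiIso (fun u v => B u v) φ c g)
    (hx : Comp x g) (hd : 2 * e + 2 ≤ finrank F V) {v : V} (hv : v ≠ 0) (hgv : ∃ a : F, g v = a • v) :
    ∃ b : F, ∀ w, B v w = 0 → ∃ k : F, g w = b • w + k • v := by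
  have hVf : Finite V := Module.finite_of_finite F
  obtain ⟨a, ha⟩ := hgv
  obtain ⟨v', hv'⟩ : ∃ v', B v v' = 1 := by
    obtain ⟨z, hz⟩ : ∃ z, B v z ≠ 0 := by
      by_contra hcon
      push Not at hcon
      exact hv (hnd v hcon)
    exact ⟨(B v z)⁻¹ • z, by rw [map_smul, smul_eq_mul, inv_mul_cancel₀ hz]⟩
  have hv'' : B v' v = -1 := by rw [Cfsg.Agent.H952.Alt.swap hA, hv']
  let P : Submodule F V := LinearMap.ker (B v)
  have hP : ∀ w, w ∈ P ↔ B v w = 0 := fun w => LinearMap.mem_ker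
  -- the section
  let W : Submodule F V := LinearMap.ker (B v) ⊓ LinearMap.ker (B v')
  have hW : ∀ w, w ∈ W ↔ B v w = 0 ∧ B v' w = 0 := fun w => by
    rw [Submodule.mem_inf, LinearMap.mem_ker, LinearMap.mem_ker]
  have hproj : ∀ w : P, (w : V) + B v' w • v ∈ W := by
    intro w
    rw [hW]
    refine ⟨?_, ?_⟩
    · rw [map_add, (hP _).1 w.2, map_smul, hA.self_eq_zero, smul_zero, add_zero]
    · rw [map_add, map_smul, hv'', smul_eq_mul, mul_neg, mul_one, add_neg_cancel]
  let p : P →ₗ[F] W :=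
    { toFun := fun w => ⟨(w : V) + B v' w • v, hproj w⟩
      map_add' := fun w z => by
        apply Subtype.ext
        change ((w : V) + z) + B v' ((w : V) + z) • v = ((w : V) + B v' w • v) + ((z : V) + B v' z • v)
        rw [map_add, add_smul]
        abel
      map_smul' := fun k w => by
        apply Subtype.ext
        change k • (w : V) + B v' (k • (w : V)) • v = k • ((w : V) + B v' w • v)
        rw [map_smul, smul_add, smul_eq_mul, mul_smul] }
  have hp : ∀ w : P, (p w : V) = (w : V) + B v' w • v := fun _ => rfl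
  have hWP : ∀ w : W, (w : V) ∈ P := fun w => (hP _).2 ((hW _).1 w.2).1
  have hpW : ∀ w : W, p ⟨w, hWP w⟩ = w := by
    intro w
    apply Subtype.ext
    rw [hp]
    change (w : V) + B v' w • v = w
    rw [((hW _).1 w.2).2, zero_smul, add_zero]
  have hps : Function.Surjective p := fun w => ⟨_, hpW w⟩
  have hpform : ∀ w z : P, B (p w) (p z) = B w z := by
    intro w z
    rw [hp, hp]
    simp only [map_add, map_smul, LinearMap.add_apply, LinearMap.smul_apply, smul_eq_mul, hA.self_eq_zero, (hP _).1 z.2,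
      Cfsg.Agent.H952.Alt.eq_zero_swap hA ((hP _).1 w.2), mul_zero, add_zero]
  have hdim : finrank F W + 2 = finrank F V := by
    have h1 := Submodule.finrank_sup_add_finrank_inf_eq (LinearMap.ker (B v)) (LinearMap.ker (B v'))
    have hr : ∀ u : V, (∃ z, B u z ≠ 0) → finrank F (LinearMap.ker (B u)) + 1 = finrank F V := by
      rintro u ⟨z, hz⟩
      have h4 := LinearMap.finrank_range_add_finrank_ker (B u)
      have h5 : finrank F (LinearMap.range (B u)) = 1 := by
        rw [LinearMap.range_eq_top.2 (LinearMap.surjective_of_ne_zero (by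
          intro h
          rw [h] at hz
          exact hz rfl)), finrank_top, finrank_self]
      omega
    have h2 := hr v ⟨v', by rw [hv']; exact one_ne_zero⟩
    have h3 := hr v' ⟨v, by rw [hv'']; exact neg_ne_zero.2 one_ne_zero⟩
    have h4 : LinearMap.ker (B v) ⊔ LinearMap.ker (B v') = ⊤ := by
      rw [eq_top_iff]
      intro z _
      have h5 : z = (z - B v z • v') + B v z • v' := by abel
      rw [h5]
      refine Submodule.add_mem_sup ?_ ?_
      · rw [LinearMap.mem_ker, map_sub, map_smul, hv', smul_eq_mul, mul_one, sub_self]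
      · rw [LinearMap.mem_ker, map_smul, hA.self_eq_zero, smul_zero]
    rw [h4, finrank_top] at h1
    change finrank F V + finrank F W = _ at h1
    omega
  -- the form
  let B' : LinearMap.BilinForm F W := B.restrict W
  have hB' : ∀ u v : W, B' u v = B u v := fun _ _ => rfl
  have hA' : B'.IsAlt := fun u => hA u
  -- decomposition
  have hdec : ∀ z : V, ∃ w : W, ∃ k l : F, z = w + (k • v + l • v') := by
    intro z
    have h1 : z - B v z • v' + B v' z • v ∈ W := by
      rw [hW]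
      constructor
      · rw [map_add, map_sub, map_smul, map_smul, hv', hA.self_eq_zero, smul_zero, smul_eq_mul, mul_one, sub_self,
          add_zero]
      · rw [map_add, map_sub, map_smul, map_smul, hv'', hA.self_eq_zero, smul_zero, smul_eq_mul, sub_zero, mul_neg,
          mul_one, add_neg_cancel]
    refine ⟨⟨_, h1⟩, -(B v' z), B v z, ?_⟩
    change z = (z - B v z • v' + B v' z • v) + (-(B v' z) • v + B v z • v')
    rw [neg_smul]
    abel
  have hnd' : ∀ u, (∀ v, B' u v = 0) → u = 0 := by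
    intro u hu
    apply Subtype.ext
    apply hnd
    intro z
    obtain ⟨w, k, l, rfl⟩ := hdec z
    have h1 := (hW _).1 u.2
    rw [map_add, map_add, map_smul, map_smul, Cfsg.Agent.H952.Alt.eq_zero_swap hA h1.1,
      Cfsg.Agent.H952.Alt.eq_zero_swap hA h1.2, smul_zero, smul_zero, add_zero, add_zero]
    exact hu w
  have hgB : ∀ u w, B (g u) (g w) = c * φ (B u w) := hg.form
  have hgP : ∀ w ∈ P, g w ∈ P := by
    intro w hw
    rw [hP] at hw ⊢
    have ha0 : a ≠ 0 := by
      rintro rfl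
      apply hv
      apply g.injective
      rw [ha, zero_smul, hg.toSemi.zero]
    have h1 := hgB v w
    rw [hw, map_zero, mul_zero, ha, map_smul, LinearMap.smul_apply, smul_eq_mul] at h1
    exact (mul_eq_zero.1 h1).resolve_left ha0
  have hker0 : ∀ w : P, p w = 0 → ∃ k : F, (w : V) = k • v := by
    intro w h0
    refine ⟨-(B v' w), ?_⟩
    have h1 : (p w : V) = 0 := by rw [h0]; rfl
    rw [hp] at h1
    rw [neg_smul]
    exact eq_neg_of_add_eq_zero_left h1
  have hkerv : ∀ w : P, (∃ k : F, (w : V) = k • v) → p w = 0 := by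
    rintro w ⟨k, hk⟩
    apply Subtype.ext
    rw [hp, hk, map_smul, hv'', smul_eq_mul, mul_neg, mul_one, neg_smul, add_neg_cancel]
    rfl
  have hker : ∀ b b' : P, (b' : V) = g b → p b = 0 → p b' = 0 := by
    intro b b' h h0
    obtain ⟨k, hk⟩ := hker0 b h0
    apply hkerv
    refine ⟨φ k * a, ?_⟩
    rw [h, hk, hg.smul, ha, smul_smul]
  obtain ⟨b, hb⟩ := section_lemma (B := P) (p := p) hs hPC (isSc_center hA hnd hΓ) hg.toSemi hx
    hps hgP hker
    ⟨_, tv_mem hA hΓ v', fun T hT => by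
      have h1 := (hT.1 v).2 ((hP v).2 (hA v))
      rw [tv_apply, hP, hv', one_smul, map_add, hA.self_eq_zero, zero_add, hv'] at h1
      exact one_ne_zero h1⟩
    (Y := Iso fun u v => B' u v)
    (by
      intro y hy
      -- extend by the identity on `⟨v, v'⟩`
      have hc : IsCompl (B.orthogonal W) W := by
        refine (Nd.isCompl hA (W := W) ?_).symm
        intro u hu h0
        by_contra hcon
        push Not at hcon
        have h1 := hnd' ⟨u, hu⟩ (fun w => hcon w w.2)
        exact h0 (congrArg Subtype.val h1)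
      have hvo : ∀ k : F, k • v ∈ B.orthogonal W := by
        intro k
        rw [LinearMap.BilinForm.mem_orthogonal_iff]
        intro w hw
        change B w (k • v) = 0
        rw [map_smul, Cfsg.Agent.H952.Alt.eq_zero_swap hA ((hW w).1 hw).1, smul_zero]
      obtain ⟨h, h1, h2⟩ := Cfsg.Agent.H952.Rc.exists_ext hc y
      have hinv := Cfsg.Agent.H952.Rc.mem_iff_of_ext hc h1 h2
      have horth : ∀ w ∈ W, ∀ v ∈ B.orthogonal W, B w v = 0 := fun w hw v hv =>
        (LinearMap.BilinForm.mem_orthogonal_iff.1 hv) w hw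
      have hhB : ∀ u v, B (h u) (h v) = B u v := by
        intro v v'
        obtain ⟨s, hs, t, ht, rfl⟩ := Submodule.mem_sup.1
          (show v ∈ B.orthogonal W ⊔ W by rw [hc.sup_eq_top]; exact Submodule.mem_top)
        obtain ⟨s', hs', t', ht', rfl⟩ := Submodule.mem_sup.1
          (show v' ∈ B.orthogonal W ⊔ W by rw [hc.sup_eq_top]; exact Submodule.mem_top)
        have h3 : h t = y ⟨t, ht⟩ := h2 ⟨t, ht⟩
        have h4 : h t' = y ⟨t', ht'⟩ := h2 ⟨t', ht'⟩
        have h5 : B (y ⟨t, ht⟩ : V) (y ⟨t', ht'⟩ : V) = B t t' := hy ⟨t, ht⟩ ⟨t', ht'⟩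
        simp only [map_add, LinearMap.add_apply]
        rw [h1 s hs, h1 s' hs', h3, h4, h5,
          Cfsg.Agent.H952.Alt.eq_zero_swap hA (horth _ (y ⟨t', ht'⟩).2 s hs), horth _ (y ⟨t, ht⟩).2 s' hs',
          Cfsg.Agent.H952.Alt.eq_zero_swap hA (horth t' ht' s hs), horth t ht s' hs']
      have hhv : h v = v := by
        have := h1 _ (hvo 1)
        rwa [one_smul] at this
      refine ⟨h, (hΓ h).2 hhB, ?_, fun b b' hb => ?_⟩
      · apply Cfsg.Agent.H952.Rc.inv_iff (g := h.toEquiv)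
        intro w hw
        change h w ∈ P
        rw [hP] at hw ⊢
        have := hhB v w
        rwa [hhv, hw] at this
      · -- `b = w + k v`
        obtain ⟨k, hk⟩ : ∃ k : F, (b : V) = (p b : V) + k • v := ⟨-(B v' b), by rw [hp, neg_smul]; abel⟩
        have h6 : (b' : V) = ((y (p b) : W) : V) + k • v := by
          rw [hb, hk, map_add, h2, h1 _ (hvo k)]
        apply Subtype.ext
        rw [hp, h6, map_add, map_smul, hv'', ((hW _).1 (y (p b)).2).2, zero_add, smul_eq_mul, mul_neg, mul_one,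
          neg_smul]
        abel)
    (fun h hh T hT y hy => by
      have hT' : T ∈ Iso fun u v => B' u v := by
        intro u v
        change B (T u) (T v) = B u v
        obtain ⟨u', rfl⟩ := hps u
        obtain ⟨v', rfl⟩ := hps v
        have h1 := hT.2 u' ⟨h u', (hT.1 u').2 u'.2⟩ rfl
        have h2 := hT.2 v' ⟨h v', (hT.1 v').2 v'.2⟩ rfl
        have h3 := hpform ⟨h u', (hT.1 u').2 u'.2⟩ ⟨h v', (hT.1 v').2 v'.2⟩
        rw [h1, h2] at h3
        refine h3.trans ?_
        rw [hpform]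
        exact (hΓ h).1 hh u' v'
      exact Subgroup.mul_mem _ (Subgroup.mul_mem _ hT' hy) (Subgroup.inv_mem _ hT'))
    (sgood_sp hA' hnd' hs h3 (by omega) he (by omega) hse)
    (semiGood_sp hA' hnd' (by omega) φ)
  refine ⟨b, fun w hw => ?_⟩
  have hw' : w ∈ P := (hP w).2 hw
  have h1 := hb ⟨w, hw'⟩ ⟨g w, hgP w hw'⟩ rfl
  rw [← sub_eq_zero, ← map_smul, ← map_sub] at h1
  obtain ⟨k, hk⟩ := hker0 _ h1
  refine ⟨k, ?_⟩
  have h2 : g w - b • w = k • v := hk
  rw [← h2]
  abel

/-- **the section facts** -/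
theorem facts_of_PC [Nontrivial V] (hA : B.IsAlt) (hnd : ∀ u, (∀ v, B u v = 0) → u = 0)
    (hΓ : ∀ h : V ≃ₗ[F] V, h ∈ Γ ↔ ∀ u v, B (h u) (h v) = B u v) {s e : ℕ} (hs : s.Prime) (h3 : 3 ≤ s) (he : 1 ≤ e)
    (hse : s ∣ Nat.card F ^ (2 * e) - 1) {x : MulAut (↥Γ ⧸ center ↥Γ)} (hPC : PC s x)
    (hg : SemiIso (fun u v => B u v) φ c g)
    (hx : Comp x g) (hd : 2 * e + 2 ≤ finrank F V) : Facts B g e :=
  ⟨fun _ hv hgv => fact_pt hA hnd hΓ hs h3 he hse hPC hg hx hd hv hgv,
    fun W h1 h2 h4 => fact_iso hA hnd hΓ hs h3 he hse hPC hg.toSemi hx W h1 h2 h4,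
    fun W h1 h2 h4 h5 => fact_nd hA hnd hΓ hs h3 he hse hPC hg.toSemi hx W h1 h2 h4 h5⟩

end Cfsg.Agent.H551.PiSp
end

-- part: H551/Pi/SpRow
section
/-!
# S4324, symplectic groups: the row `NR` for the automorphisms induced by semisimilitudes (helper551)
-/

set_option autoImplicit false
set_option linter.unusedSectionVars false

namespace Cfsg.Agent.H551.PiSp

open Subgroup Cfsg Cfsg.Agent.H459.Rad Cfsg.Agent.H216.Pi
open Cfsg.Agent.BpCl (Semi SemiIso Iso)
open Cfsg.Agent.LieClassical.OrthFinite (quotientCenterCongr)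
open Cfsg.Agent.H952.Rc (Comp)
open Cfsg.Agent.ClassicalGeometry.SympBasic Cfsg.Agent.ClassicalGeometry.SympAutSemi
  Cfsg.Agent.ClassicalGeometry.SympGamma

/-- `NR` is invariant under isomorphisms -/
theorem NR_tr {K L : Type*} [Group K] [Group L] [Finite K] [Finite L] (e : K ≃* L) {t : ℕ} (h : NR t L) : NR t K := by
  intro s r x hs hr hr3 hrs hrK hst hsK hcyc hx hxs hxr hPC hFC
  have hcard : Nat.card K = Nat.card L := Nat.card_congr e.toEquiv
  have ho : orderOf (tr e x) = orderOf x := orderOf_tr e x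
  rw [hcard] at hrK hsK
  have : Fact s.Prime := ⟨hs⟩
  refine h s r (tr e x) hs hr hr3 hrs hrK hst hsK ?_ (by rw [ho]; exact hx) (by rw [ho]; exact hxs)
    (by rw [ho]; exact hxr) (hPC.tr e) (hFC.tr e)
  intro P hP
  obtain ⟨Q⟩ : Nonempty (Sylow s K) := inferInstance
  apply hcyc Q
  have hf : Function.Surjective (e.symm.toMonoidHom : L →* K) := e.symm.surjective
  exact Cfsg.Agent.H952.Rc.isCyclic_sylow_of_surjective e.symm.toMonoidHom hf
    (fun P' => ((Sylow.equiv P P').isCyclic).1 hP) Q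

/-- **automorphisms induced by semisimilitudes** -/
theorem nr_of_mem_range {F : Type} [Field F] [Finite F] {m t : ℕ} [CharP F t] (ht : t.Prime) (hm : 2 ≤ m)
    (h22 : m = 2 → 3 ≤ Nat.card F) {s n : ℕ} {x : MulAut (PSp m F)} (hs : s.Prime) (h3 : 3 ≤ s) (hst : s ≠ t)
    (hsK : s ∣ Nat.card (PSp m F)) (hcyc : ∀ P : Sylow s (PSp m F), ¬ IsCyclic (P : Subgroup (PSp m F)))
    (hx : (orderOf x).Prime) (hPC : PC s x) (hn : 2 ≤ n) (hFC : FC s n x) (hmem : x ∈ (Psi m F).range) : False := by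
  have := Fintype.ofFinite F
  have : Fact s.Prime := ⟨hs⟩
  obtain ⟨g, rfl⟩ := hmem
  obtain ⟨φ, l, hl, hg⟩ := g.2
  set p := orderOf (Psi m F g) with hp
  have h1 : Psi m F (g ^ p) = 1 := by rw [map_pow, pow_orderOf_eq_one]
  obtain ⟨a, ha⟩ := exists_scal_of_Psi_eq_one (by omega) (g ^ p) h1
  have hga : ∀ v, (g.1 ^ p) v = (a : F) • v := by
    intro v
    have h2 : (g ^ p).1 = g.1 ^ p := rfl
    rw [← h2, ha, scal_apply]
  have hsi : SemiIso (fun u v => sympBilin m F u v) φ l g.1 :=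
    { add := hg.1, smul := hg.2.1, form := hg.2.2 }
  have hV : Nontrivial (Fin m ⊕ Fin m → F) := by
    refine ⟨Pi.single (Sum.inl ⟨0, by omega⟩) 1, 0, fun h => ?_⟩
    have := congrFun h (Sum.inl ⟨0, by omega⟩)
    rw [Pi.single_eq_same] at this
    exact one_ne_zero this
  let Γ : Subgroup ((Fin m ⊕ Fin m → F) ≃ₗ[F] (Fin m ⊕ Fin m → F)) := Iso (fun u v => sympBilin m F u v)
  have hΓ : ∀ h : (Fin m ⊕ Fin m → F) ≃ₗ[F] (Fin m ⊕ Fin m → F),
      h ∈ Γ ↔ ∀ u v, sympBilin m F (h u) (h v) = sympBilin m F u v := fun h => Iff.rfl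
  -- the group of linear automorphisms
  have hrange : (Cfsg.Agent.BpCl.spLin m F).range = Γ := by
    apply le_antisymm
    · rintro _ ⟨A, rfl⟩ u v
      exact sympForm_rho A u v
    · intro h hh
      obtain ⟨A, hA⟩ := exists_rho_eq h.toEquiv (fun u v => map_add h u v) (fun a v => map_smul h a v)
        (fun u v => hh u v)
      refine ⟨A, ?_⟩
      apply LinearEquiv.ext
      intro v
      rw [Cfsg.Agent.BpCl.spLin_apply, hA]
      rfl
  let e0 : ↥(Matrix.symplecticGroup (Fin m) F) ≃* ↥Γ :=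
    (MonoidHom.ofInjective Cfsg.Agent.BpCl.spLin_injective).trans (MulEquiv.subgroupCongr hrange)
  have he0 : ∀ A v, (e0 A).1 v = rho m F A v := fun _ _ => rfl
  let e : PSp m F ≃* ↥Γ ⧸ center ↥Γ := quotientCenterCongr e0
  have he : ∀ A : ↥(Matrix.symplecticGroup (Fin m) F), e (QuotientGroup.mk A) = QuotientGroup.mk (e0 A) := fun _ => rfl
  have hcomp : Comp (tr e (Psi m F g)) g.1 := by
    intro h
    obtain ⟨A, rfl⟩ := e0.surjective h
    refine ⟨e0 (conjHom m F g A), fun v => ?_, ?_⟩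
    · rw [he0, he0, rho_conjHom, Equiv.Perm.mul_apply, Equiv.Perm.mul_apply]
      congr 2
      exact g.1.symm_apply_apply v
    · rw [tr_apply, QuotientGroup.mk'_apply, ← he, e.symm_apply_apply, Psi_mk, he]
      rfl
  have hx1 : tr e (Psi m F g) ≠ 1 := by
    apply Cfsg.Agent.H952.Rc.ne_one_of_orderOf hx
    rw [orderOf_tr]
  have hfinΓ : Finite ↥Γ := Finite.of_equiv _ e0.toEquiv
  have hA : (sympBilin m F).IsAlt := fun v => sympForm_self v
  have hnd : ∀ u, (∀ v, sympBilin m F u v = 0) → u = 0 := fun u hu => eq_zero_of_forall_sympForm_right hu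
  have hd : Module.finrank F (Fin m ⊕ Fin m → F) = 2 * m := by
    rw [Module.finrank_fintype_fun_eq_card, Fintype.card_sum, Fintype.card_fin, two_mul]
  obtain ⟨Q⟩ : Nonempty (Sylow s (PSp m F)) := inferInstance
  have hsF : (s : F) ≠ 0 := by
    intro h0
    have h2 : t ∣ s := (CharP.cast_eq_zero_iff F t s).1 h0
    exact hst ((Nat.prime_dvd_prime_iff_eq ht hs).1 h2).symm
  obtain ⟨ε, he1, he2, he3⟩ := exists_exponent (by omega) hsF Q (hcyc Q)
  have hF := facts_of_PC hA hnd hΓ hs h3 he1 he3 (hPC.tr e) hsi hcomp (by omega)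
  have hL' : IsLieTypeChar t (↥Γ ⧸ center ↥Γ) :=
    Or.inr (Or.inl ⟨F, inferInstance, inferInstance, inferInstance, m, hm,
      fun h => by rw [← Nat.card_eq_fintype_card]; exact h22 h, ⟨e.symm⟩⟩)
  refine false_of_comp hm hd ht hA hnd hΓ hL' hs hst ?_ hx1 hsi hl he1 he2 hF hcomp hx a.ne_zero hga hn (hFC.tr e)
  rw [← Nat.card_congr e.toEquiv]
  exact hsK

end Cfsg.Agent.H551.PiSp
end

-- part: H551/Pi/SpTri
section
/-!
# S4324: triangular elements of `Sp_4(2^a)` and the graph automorphism (helper551)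

* `Tri a b A` : `A e₁ = a e₁`, `A e₂ ∈ b e₂ + ⟨e₁⟩`;
* `Tri.graphHom` : the graph automorphism;
* `Tri.not_dvd` : the centraliser of a regular element has odd order.
-/

set_option autoImplicit false
set_option linter.unusedSectionVars false

namespace Cfsg.Agent.H551.PiSp

open Matrix Cfsg Module
open Cfsg.Agent.ClassicalGeometry.Sp4Graph Cfsg.Agent.ClassicalGeometry.Sp4GraphAut
  Cfsg.Agent.ClassicalGeometry.SympBasic Cfsg.Agent.ClassicalGeometry.SympAutSemi

variable {F : Type*} [Field F] [CharP F 2]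

/-- upper triangular with the diagonal entries `a, b, ...` -/
structure Tri (a b : F) (A : Matrix I4 I4 F) : Prop where
  h00 : A (.inl 0) (.inl 0) = a
  h10 : A (.inl 1) (.inl 0) = 0
  h20 : A (.inr 0) (.inl 0) = 0
  h30 : A (.inr 1) (.inl 0) = 0
  h11 : A (.inl 1) (.inl 1) = b
  h21 : A (.inr 0) (.inl 1) = 0
  h31 : A (.inr 1) (.inl 1) = 0

theorem Tri.h2 {a b : F} {A : Matrix I4 I4 F} (hA : A ∈ Matrix.symplecticGroup (Fin 2) F) (h : Tri a b A) :
    a * A (.inr 0) (.inr 0) = 1 := by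
  have h1 := col_rel hA (.inl 0) (.inr 0)
  rw [h.h00, h.h10, h.h20, h.h30, if_pos (show (Sum.inl 0 : I4) = (Sum.inr 0 : I4).swap from rfl)] at h1
  linear_combination h1

theorem Tri.ha {a b : F} {A : Matrix I4 I4 F} (hA : A ∈ Matrix.symplecticGroup (Fin 2) F) (h : Tri a b A) :
    a ≠ 0 := left_ne_zero_of_mul_eq_one (h.h2 hA)

theorem Tri.h23 {a b : F} {A : Matrix I4 I4 F} (hA : A ∈ Matrix.symplecticGroup (Fin 2) F) (h : Tri a b A) :
    A (.inr 0) (.inr 1) = 0 := by
  have h1 := col_rel hA (.inl 0) (.inr 1)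
  rw [h.h00, h.h10, h.h20, h.h30, if_neg (by decide)] at h1
  have h2 : a * A (.inr 0) (.inr 1) = 0 := by linear_combination h1
  exact (mul_eq_zero.1 h2).resolve_left (h.ha hA)

theorem Tri.h3 {a b : F} {A : Matrix I4 I4 F} (hA : A ∈ Matrix.symplecticGroup (Fin 2) F) (h : Tri a b A) :
    b * A (.inr 1) (.inr 1) = 1 := by
  have h1 := col_rel hA (.inl 1) (.inr 1)
  rw [h.h21, h.h11, h.h31, h.h23 hA, if_pos (show (Sum.inl 1 : I4) = (Sum.inr 1 : I4).swap from rfl)] at h1
  linear_combination h1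

theorem Tri.hb {a b : F} {A : Matrix I4 I4 F} (hA : A ∈ Matrix.symplecticGroup (Fin 2) F) (h : Tri a b A) :
    b ≠ 0 := left_ne_zero_of_mul_eq_one (h.h3 hA)

/-- the graph automorphism -/
theorem Tri.mn {a b : F} {A : Matrix I4 I4 F} (hA : A ∈ Matrix.symplecticGroup (Fin 2) F) (h : Tri a b A) :
    Tri (a * b) (a * b⁻¹) (mn A) := by
  have h3 : A (.inr 1) (.inr 1) = b⁻¹ := eq_inv_of_mul_eq_one_right (h.h3 hA)
  constructor
  all_goals rw [mn_apply]
  all_goals simp only [pa_inl, pa_inr, pb_inl0, pb_inl1, pb_inr0, pb_inr1, h.h00, h.h10, h.h20, h.h30, h.h11, h.h21,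
    h.h31, h.h23 hA, h3]
  all_goals ring

theorem Tri.graphHom {a b : F} {A : Matrix.symplecticGroup (Fin 2) F} (h : Tri a b A.1) :
    Tri (a * b) (a * b⁻¹) (graphHom F A).1 := h.mn A.2

/-- the action on the basis -/
theorem tri_iff {a b : F} {A : Matrix.symplecticGroup (Fin 2) F} :
    Tri a b A.1 ↔ rho 2 F A (e1 F) = a • e1 F ∧ ∃ c : F, rho 2 F A (e2 F) = b • e2 F + c • e1 F := by
  have k1 : ∀ i, rho 2 F A (e1 F) i = A.1 i (.inl 0) := by
    intro i
    rw [rho_apply, mulVec_eq]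
    simp [e1]
  have k2 : ∀ i, rho 2 F A (e2 F) i = A.1 i (.inl 1) := by
    intro i
    rw [rho_apply, mulVec_eq]
    simp [e2]
  constructor
  · intro h
    refine ⟨?_, A.1 (.inl 0) (.inl 1), ?_⟩
    · ext i
      rw [k1]
      rcases i with i | i <;> fin_cases i
      · simp [e1, h.h00]
      · simp [e1, h.h10]
      · simp [e1, h.h20]
      · simp [e1, h.h30]
    · ext i
      rw [k2]
      rcases i with i | i <;> fin_cases i
      · simp [e1, e2]
      · simp [e1, e2, h.h11]
      · simp [e1, e2, h.h21]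
      · simp [e1, e2, h.h31]
  · rintro ⟨h1, c, h2⟩
    constructor
    · rw [← k1, h1]; simp [e1]
    · rw [← k1, h1]; simp [e1]
    · rw [← k1, h1]; simp [e1]
    · rw [← k1, h1]; simp [e1]
    · rw [← k2, h2]; simp [e1, e2]
    · rw [← k2, h2]; simp [e1, e2]
    · rw [← k2, h2]; simp [e1, e2]

theorem Tri.mul {a b a' b' : F} {A A' : Matrix.symplecticGroup (Fin 2) F} (h : Tri a b A.1) (h' : Tri a' b' A'.1) :
    Tri (a * a') (b * b') (A * A').1 := by
  rw [tri_iff] at *
  obtain ⟨h1, c, h2⟩ := h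
  obtain ⟨h1', c', h2'⟩ := h'
  have hadd := (isSemi_rho A).1
  have hsm : ∀ (k : F) v, rho 2 F A (k • v) = k • rho 2 F A v := (isSemi_rho A).2.1
  refine ⟨?_, b' * c + c' * a, ?_⟩
  · rw [map_mul, Equiv.Perm.mul_apply, h1', hsm, h1, smul_smul, mul_comm]
  · rw [map_mul, Equiv.Perm.mul_apply, h2', hadd, hsm, hsm, h1, h2]
    module

theorem Tri.inv {a b : F} {A : Matrix.symplecticGroup (Fin 2) F} (h : Tri a b A.1) : Tri a⁻¹ b⁻¹ (A⁻¹).1 := by
  have ha := h.ha A.2
  have hb := h.hb A.2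
  rw [tri_iff] at *
  obtain ⟨h1, c, h2⟩ := h
  have hi : ∀ v, rho 2 F A⁻¹ (rho 2 F A v) = v := fun v => by
    rw [← Equiv.Perm.mul_apply, ← map_mul, inv_mul_cancel, map_one, Equiv.Perm.one_apply]
  have hadd := (isSemi_rho A⁻¹).1
  have hsm : ∀ (k : F) v, rho 2 F A⁻¹ (k • v) = k • rho 2 F A⁻¹ v := (isSemi_rho A⁻¹).2.1
  have h3 : rho 2 F A⁻¹ (e1 F) = a⁻¹ • e1 F := by
    have := hi (e1 F)
    rw [h1, hsm] at this
    rw [eq_inv_smul_iff₀ ha, this]
  refine ⟨h3, -(b⁻¹ * c * a⁻¹), ?_⟩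
  have h4 := hi (e2 F)
  rw [h2, hadd, hsm, hsm, h3] at h4
  have h5 : b • rho 2 F A⁻¹ (e2 F) = e2 F - c • a⁻¹ • e1 F := eq_sub_of_add_eq h4
  rw [← eq_inv_smul_iff₀ hb] at h5
  rw [h5]
  module

theorem Tri.unique {a b a' b' : F} {A : Matrix I4 I4 F} (h : Tri a b A) (h' : Tri a' b' A) : a = a' ∧ b = b' :=
  ⟨h.h00.symm.trans h'.h00, h.h11.symm.trans h'.h11⟩

/-! ### regular elements -/

/-- the inverse of an eigenvalue is an eigenvalue -/
theorem exists_inv_eigen {A : Matrix.symplecticGroup (Fin 2) F} {l : F} (hl : l ≠ 0) {v : I4 → F} (hv : v ≠ 0)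
    (h : rho 2 F A v = l • v) : ∃ w : I4 → F, w ≠ 0 ∧ rho 2 F A w = l⁻¹ • w := by
  let T : (I4 → F) →ₗ[F] (I4 → F) := (A.1 : Matrix I4 I4 F).mulVecLin - l⁻¹ • LinearMap.id
  have hT : ∀ w, T w = rho 2 F A w - l⁻¹ • w := fun _ => rfl
  by_contra hcon
  push Not at hcon
  have hinj : Function.Injective T := by
    rw [injective_iff_map_eq_zero]
    intro w hw
    by_contra h0
    rw [hT, sub_eq_zero] at hw
    exact hcon w h0 hw
  have hsurj := LinearMap.injective_iff_surjective.1 hinj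
  have hvw : ∀ w, sympForm 2 F v w = 0 := by
    intro w
    obtain ⟨u, rfl⟩ := hsurj w
    have h1 := sympForm_rho A v u
    rw [h, sympForm_smul_left] at h1
    rw [hT, sub_eq_add_neg, ← neg_smul, sympForm_add_right, sympForm_smul_right, ← h1]
    have h2 : l⁻¹ * l = 1 := inv_mul_cancel₀ hl
    linear_combination (-(sympForm 2 F v (rho 2 F A u))) * h2
  exact hv (eq_zero_of_forall_sympForm_right hvw)

/-- **regular elements** -/
theorem Tri.not_dvd [Finite F] {a b : F} {A : Matrix.symplecticGroup (Fin 2) F} (h : Tri a b A.1) (ha1 : a ≠ 1)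
    (hb1 : b ≠ 1) (hab : a ≠ b) (hab1 : a * b ≠ 1) :
    ¬ 2 ∣ Nat.card (Subgroup.centralizer ({A} : Set (Matrix.symplecticGroup (Fin 2) F))) := by
  have ha := h.ha A.2
  have hb := h.hb A.2
  intro hdvd
  have : Fact (Nat.Prime 2) := ⟨Nat.prime_two⟩
  obtain ⟨⟨w, hw'⟩, hw⟩ := exists_prime_orderOf_dvd_card' 2 hdvd
  rw [Subgroup.orderOf_mk] at hw
  have hcomm := Subgroup.mem_centralizer_singleton_iff.1 hw'
  have hw2 : w * w = 1 := by
    have h0 := pow_orderOf_eq_one w
    rwa [hw, pow_two] at h0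
  -- eigenvectors
  obtain ⟨h1, c, h2⟩ := tri_iff.1 h
  have hadd := (isSemi_rho A).1
  have hsm : ∀ (k : F) v, rho 2 F A (k • v) = k • rho 2 F A v := (isSemi_rho A).2.1
  have hv1 : e1 F ≠ 0 := e1_ne_zero
  have hba : b - a ≠ 0 := sub_ne_zero.2 hab.symm
  have hv2 : e2 F + (c * (b - a)⁻¹) • e1 F ≠ 0 := by
    intro h0
    have := congrFun h0 (.inl 1)
    simp [e1, e2] at this
  have hv2e : rho 2 F A (e2 F + (c * (b - a)⁻¹) • e1 F) = b • (e2 F + (c * (b - a)⁻¹) • e1 F) := by
    rw [hadd, hsm, h1, h2]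
    have h3 : c + c * (b - a)⁻¹ * a = b * (c * (b - a)⁻¹) := by
      field_simp
      ring
    rw [smul_add, smul_smul, smul_smul, ← h3, add_smul, add_assoc]
  obtain ⟨v3, hv3, hv3e⟩ := exists_inv_eigen hb hv2 hv2e
  obtain ⟨v4, hv4, hv4e⟩ := exists_inv_eigen ha hv1 h1
  let Z : Module.End F (I4 → F) := (A.1 : Matrix I4 I4 F).mulVecLin
  have hZ : ∀ v, Z v = rho 2 F A v := fun _ => rfl
  let μ : Fin 4 → F := ![a, b, b⁻¹, a⁻¹]
  let v : Fin 4 → (I4 → F) := ![e1 F, e2 F + (c * (b - a)⁻¹) • e1 F, v3, v4]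
  have hsq : ∀ k : F, k ≠ 0 → k ≠ 1 → k ≠ k⁻¹ := by
    intro k hk hk1 h0
    apply hk1
    have h3 : k ^ 2 = 1 ^ 2 := by
      rw [pow_two, one_pow]
      nth_rewrite 2 [h0]
      exact mul_inv_cancel₀ hk
    exact CharTwo.sq_injective h3
  have hμ : Function.Injective μ := by
    have e01 : a ≠ b := hab
    have e02 : a ≠ b⁻¹ := fun h0 => hab1 (by rw [h0, inv_mul_cancel₀ hb])
    have e03 := hsq a ha ha1
    have e12 := hsq b hb hb1
    have e13 : b ≠ a⁻¹ := fun h0 => hab1 (by rw [h0, mul_inv_cancel₀ ha])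
    have e23 : b⁻¹ ≠ a⁻¹ := fun h0 => hab (inv_injective h0).symm
    intro i j hij
    fin_cases i <;> fin_cases j <;> simp [μ] at hij ⊢
    all_goals first | exact e01 hij | exact e01 hij.symm | exact e02 hij | exact e02 hij.symm | exact e03 hij | exact e03 hij.symm | exact e12 hij | exact e12 hij.symm | exact e13 hij | exact e13 hij.symm
  have hev : ∀ i, Z.HasEigenvector (μ i) (v i) := by
    intro i
    rw [Module.End.hasEigenvector_iff, Module.End.mem_eigenspace_iff]
    fin_cases i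
    · exact ⟨h1, hv1⟩
    · exact ⟨hv2e, hv2⟩
    · exact ⟨hv3e, hv3⟩
    · exact ⟨hv4e, hv4⟩
  have hli := Module.End.eigenvectors_linearIndependent' Z μ hμ v hev
  have hcard : Fintype.card (Fin 4) = finrank F (I4 → F) := by
    rw [Module.finrank_fintype_fun_eq_card]
    rfl
  let bs := basisOfLinearIndependentOfCardEqFinrank hli hcard
  have hbs : ∀ i, bs i = v i := fun i => by
    rw [coe_basisOfLinearIndependentOfCardEqFinrank]
  -- `w` is diagonal
  have hwadd := (isSemi_rho w).1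
  have hwsm : ∀ (k : F) v, rho 2 F w (k • v) = k • rho 2 F w v := (isSemi_rho w).2.1
  have hwv : ∀ i, rho 2 F w (v i) = v i := by
    intro i
    have h3 : Z (rho 2 F w (v i)) = μ i • rho 2 F w (v i) := by
      rw [hZ, ← Equiv.Perm.mul_apply, ← map_mul, ← hcomm, map_mul, Equiv.Perm.mul_apply]
      have h4 : rho 2 F A (v i) = μ i • v i := (hev i).apply_eq_smul
      rw [h4, hwsm]
    have h4 : ∀ j, j ≠ i → bs.repr (rho 2 F w (v i)) j = 0 := by
      intro j hj
      have h5 : ∀ u : I4 → F, bs.repr (Z u) j = μ j * bs.repr u j := by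
        intro u
        have h6 : (bs.coord j) ∘ₗ Z = μ j • bs.coord j := by
          apply bs.ext
          intro k
          rw [LinearMap.comp_apply, hbs, (hev k).apply_eq_smul, map_smul, LinearMap.smul_apply, ← hbs,
            Basis.coord_apply, Basis.repr_self, Finsupp.single_apply]
          by_cases hkj : k = j
          · rw [if_pos hkj, hkj]
          · rw [if_neg hkj, smul_zero, smul_zero]
        have h7 := LinearMap.congr_fun h6 u
        exact h7
      have h6 := h5 (rho 2 F w (v i))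
      rw [h3, map_smul, Finsupp.smul_apply, smul_eq_mul] at h6
      have h7 : (μ i - μ j) * bs.repr (rho 2 F w (v i)) j = 0 := by rw [sub_mul, h6, sub_self]
      exact (mul_eq_zero.1 h7).resolve_left (sub_ne_zero.2 fun h0 => hj (hμ h0).symm)
    have h5 : rho 2 F w (v i) = (bs.repr (rho 2 F w (v i)) i) • v i := by
      conv_lhs => rw [← bs.sum_repr (rho 2 F w (v i))]
      rw [Finset.sum_eq_single i, hbs]
      · intro j _ hj
        rw [h4 j hj, zero_smul]
      · intro h0
        exact absurd (Finset.mem_univ i) h0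
    generalize bs.repr (rho 2 F w (v i)) i = k at h5
    have h6 : rho 2 F w (rho 2 F w (v i)) = v i := by
      rw [← Equiv.Perm.mul_apply, ← map_mul, hw2, map_one, Equiv.Perm.one_apply]
    rw [h5, hwsm, h5, smul_smul] at h6
    have h7 : k * k = 1 := by
      have h8 : (k * k) • v i = (1 : F) • v i := by rw [h6, one_smul]
      exact smul_left_injective F (hev i).2 h8
    have h8 : k = 1 := CharTwo.sq_injective (by
      change k ^ 2 = 1 ^ 2
      rw [pow_two, h7, one_pow])
    rw [h5, h8, one_smul]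
  have hw1 : w = 1 := by
    apply rho_injective
    rw [map_one]
    ext1 u
    have h3 : (w.1 : Matrix I4 I4 F).mulVecLin = LinearMap.id := by
      apply bs.ext
      intro i
      rw [hbs]
      exact hwv i
    have h4 := LinearMap.congr_fun h3 u
    exact h4
  rw [hw1, orderOf_one] at hw
  omega

end Cfsg.Agent.H551.PiSp
end

-- part: H551/Pi/SpUnip
section
/-!
# S4324: the Sylow `2`-subgroup of `Sp_4(2^a)` and automorphisms normalising it (helper551)

* `exists_sylow` : `unip 2 F` is a Sylow `2`-subgroup;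
* `graphHom_unip` : the graph automorphism normalises it;
* `flag_of_unip` : a semisimilitude normalising it stabilises the flag.
-/

set_option autoImplicit false
set_option linter.unusedSectionVars false

namespace Cfsg.Agent.H551.PiSp

open Matrix Cfsg Module
open Cfsg.Agent.ClassicalGeometry.Sp4Graph Cfsg.Agent.ClassicalGeometry.Sp4GraphAut
  Cfsg.Agent.ClassicalGeometry.SympBasic Cfsg.Agent.ClassicalGeometry.SympAutSemi
  Cfsg.Agent.ClassicalGeometry.SympAutSylow Cfsg.Agent.ClassicalGeometry.SympAutCentral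
  Cfsg.Agent.ClassicalGeometry.SympSiegel

variable {F : Type*} [Field F] [CharP F 2] [Finite F]

/-- the entries of an element of `unip` -/
theorem unip_iff {A : Matrix.symplecticGroup (Fin 2) F} : A ∈ unip 2 F ↔
    (A.1 (.inl 0) (.inl 0) = 1 ∧ A.1 (.inl 1) (.inl 1) = 1 ∧ A.1 (.inr 1) (.inr 1) = 1 ∧ A.1 (.inr 0) (.inr 0) = 1) ∧
    A.1 (.inl 1) (.inl 0) = 0 ∧ A.1 (.inr 1) (.inl 0) = 0 ∧ A.1 (.inr 0) (.inl 0) = 0 ∧
    A.1 (.inr 1) (.inl 1) = 0 ∧ A.1 (.inr 0) (.inl 1) = 0 ∧ A.1 (.inr 0) (.inr 1) = 0 := by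
  rw [mem_unip]
  have hht : ∀ a b : I4, ht 2 a < ht 2 b ↔ ((a = .inl 0 ∧ b ≠ .inl 0) ∨ (a = .inl 1 ∧ (b = .inr 1 ∨ b = .inr 0)) ∨
      (a = .inr 1 ∧ b = .inr 0)) := by decide
  have hdiag : ∀ a : I4, ¬ ht 2 a < ht 2 a := fun a => lt_irrefl _
  constructor
  · intro h
    have key : ∀ a b : I4, ¬ ht 2 a < ht 2 b → A.1 a b = (1 : Matrix I4 I4 F) a b := by
      intro a b hab
      by_contra hne
      apply hab
      apply h
      rw [Matrix.sub_apply]
      exact sub_ne_zero.2 hne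
    refine ⟨⟨?_, ?_, ?_, ?_⟩, ?_, ?_, ?_, ?_, ?_, ?_⟩
    all_goals
      rw [key _ _ (by decide)]
      simp
  · rintro ⟨⟨h1, h2, h3, h4⟩, h5, h6, h7, h8, h9, h10⟩ a b hab
    by_contra hn
    apply hab
    rw [Matrix.sub_apply]
    rcases a with a | a <;> rcases b with b | b <;> fin_cases a <;> fin_cases b
    all_goals first | (exfalso; revert hn; decide) | simp [h1, h2, h3, h4, h5, h6, h7, h8, h9, h10]

/-- the graph automorphism normalises `unip` -/
theorem graphHom_unip {A : Matrix.symplecticGroup (Fin 2) F} (h : A ∈ unip 2 F) : graphHom F A ∈ unip 2 F := by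
  rw [unip_iff] at *
  obtain ⟨⟨h1, h2, h3, h4⟩, h5, h6, h7, h8, h9, h10⟩ := h
  rw [graphHom_coe]
  simp only [mn_apply, pa_inl, pa_inr, pb_inl0, pb_inl1, pb_inr0, pb_inr1, h1, h2, h3, h4, h5, h6, h7, h8, h9, h10]
  simp

/-! ### `unip` is a Sylow subgroup -/

/-- the elements of `unip` -/
def Mx (a b c d : F) : Matrix I4 I4 F :=
  Matrix.fromBlocks !![1, d; 0, 1] !![a, c; b * d + c, b] 0 !![1, 0; d, 1]

theorem Mx_mem (a b c d : F) : Mx a b c d ∈ Matrix.symplecticGroup (Fin 2) F := by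
  have h2 : (2 : F) = 0 := CharTwo.two_eq_zero
  apply mem_of_row_rel
  intro i j
  rcases i with i | i <;> rcases j with j | j <;> (revert i j; simp only [Mx, _root_.Fin.forall_fin_succ, Fin.isValue, _root_.Matrix.fromBlocks_apply₁₁, _root_.Matrix.of_apply, _root_.Matrix.cons_val', _root_.Matrix.cons_val_zero, _root_.Matrix.cons_val_fin_one, _root_.Matrix.fromBlocks_apply₁₂, _root_.Matrix.cons_val_one, _root_.Sum.swap_inl, reduceCtorEq, ↓reduceIte, _root_.mul_one, _root_.Matrix.cons_val_succ, _root_.MulZeroClass.mul_zero, _root_.add_zero, _root_.forall_const, _root_.one_mul, _root_.MulZeroClass.zero_mul, _root_.zero_add, _root_.Matrix.fromBlocks_apply₂₂, _root_.Matrix.fromBlocks_apply₂₁, _root_.Matrix.zero_apply, _root_.Sum.swap_inr, _root_.Sum.inl.injEq, _root_.Fin.succ_zero_eq_one, _root_.IsEmpty.forall_iff, _root_.zero_ne_one, _root_.Fin.succ_ne_zero, _root_.left_eq_ite_iff, _root_.one_ne_zero, _root_.imp_false, _root_.Decidable.not_not, _root_.Sum.inr.injEq,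 _root_.and_true, _root_.true_and]) <;> (repeat' with_reducible apply And.intro)
  all_goals first | (linear_combination (a + c * d) * h2) | (linear_combination (b * d + c) * h2) |
    (linear_combination d * h2) | (linear_combination b * h2)

theorem le_card_unip : Nat.card F ^ 4 ≤ Nat.card (unip 2 F) := by
  let f : F × F × F × F → unip 2 F := fun x => ⟨⟨Mx x.1 x.2.1 x.2.2.1 x.2.2.2, Mx_mem _ _ _ _⟩, by
    rw [unip_iff]
    simp [Mx]⟩
  have hf : Function.Injective f := by
    rintro ⟨a, b, c, d⟩ ⟨a', b', c', d'⟩ h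
    have h1 : Mx a b c d = Mx a' b' c' d' := congrArg (fun u : unip 2 F => u.1.1) h
    have e1 := congrFun (congrFun h1 (.inl 0)) (.inl 1)
    have e2 := congrFun (congrFun h1 (.inl 0)) (.inr 0)
    have e3 := congrFun (congrFun h1 (.inl 0)) (.inr 1)
    have e4 := congrFun (congrFun h1 (.inl 1)) (.inr 1)
    simp [Mx] at e1 e2 e3 e4
    rw [e1, e2, e3, e4]
  have h1 := Nat.card_le_card_of_injective f hf
  rw [Nat.card_prod, Nat.card_prod, Nat.card_prod] at h1
  have h2 : Nat.card F ^ 4 = Nat.card F * (Nat.card F * (Nat.card F * Nat.card F)) := by ring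
  rw [h2]
  exact h1

theorem odd_sub {q : ℕ} (hq : 2 ∣ q) (h0 : 0 < q) {k : ℕ} (hk : k ≠ 0) : ¬ 2 ∣ q ^ k - 1 := by
  have h1 : 2 ∣ q ^ k := hq.trans (dvd_pow_self q hk)
  have h2 : 0 < q ^ k := Nat.pow_pos h0
  omega

/-- **`unip` is a Sylow `2`-subgroup** -/
theorem exists_sylow [Fact (Nat.Prime 2)] : ∃ P : Sylow 2 (Matrix.symplecticGroup (Fin 2) F), (P : Subgroup _) = unip 2 F := by
  have := Fintype.ofFinite F
  obtain ⟨P, hP⟩ := (isPGroup_unip (m := 2) (F := F) (p := 2)).exists_le_sylow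
  refine ⟨P, (Subgroup.eq_of_le_of_card_ge hP ?_).symm⟩
  refine le_trans ?_ le_card_unip
  have h1 := LieClassical.SympCount.card_symplecticGroup (F := F) 2
  rw [Finset.prod_range_succ, Finset.prod_range_succ, Finset.prod_range_zero, one_mul, ← Nat.card_eq_fintype_card] at h1
  have hq : 2 ∣ Nat.card F := by
    obtain ⟨n, -, hn⟩ := FiniteField.card F 2
    rw [Nat.card_eq_fintype_card, hn]
    exact dvd_pow_self 2 n.ne_zero
  obtain ⟨k, hk⟩ := IsPGroup.iff_card.1 P.isPGroup'
  have h2 : Nat.card (P : Subgroup (Matrix.symplecticGroup (Fin 2) F)) ∣ Nat.card F ^ 4 := by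
    have h3 := Subgroup.card_subgroup_dvd_card (P : Subgroup (Matrix.symplecticGroup (Fin 2) F))
    rw [hk, h1] at h3
    rw [hk]
    have h4 : Nat.Coprime (2 ^ k) ((Nat.card F ^ (2 * (0 + 1)) - 1) * (Nat.card F ^ (2 * (1 + 1)) - 1)) := by
      apply Nat.Coprime.pow_left
      rw [Nat.Prime.coprime_iff_not_dvd Nat.prime_two, Nat.prime_two.dvd_mul, not_or]
      exact ⟨odd_sub hq Nat.card_pos (by norm_num), odd_sub hq Nat.card_pos (by norm_num)⟩
    exact h4.dvd_of_dvd_mul_right h3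
  exact Nat.le_of_dvd (Nat.pow_pos Nat.card_pos) h2

/-! ### semisimilitudes normalising `unip` -/

theorem unip_e1 {A : Matrix.symplecticGroup (Fin 2) F} (h : A ∈ unip 2 F) :
    rho 2 F A (e1 F) = e1 F ∧ ∃ c : F, rho 2 F A (e2 F) = e2 F + c • e1 F := by
  have h1 := unip_iff.1 h
  have h2 : Tri 1 1 A.1 := ⟨h1.1.1, h1.2.1, h1.2.2.2.1, h1.2.2.1, h1.1.2.1, h1.2.2.2.2.2.1, h1.2.2.2.2.1⟩
  obtain ⟨h3, c, h4⟩ := tri_iff.1 h2
  rw [one_smul] at h3 h4
  exact ⟨h3, c, h4⟩

/-- the elements of `unip` -/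
def Me (a b c d : F) : Matrix.symplecticGroup (Fin 2) F := ⟨Mx a b c d, Mx_mem a b c d⟩

theorem Me_mem (a b c d : F) : Me a b c d ∈ unip 2 F := by
  rw [unip_iff]
  simp only [Me, Mx, _root_.Fin.isValue, _root_.Matrix.fromBlocks_apply₁₁, _root_.Matrix.of_apply, _root_.Matrix.cons_val', _root_.Matrix.cons_val_zero, _root_.Matrix.cons_val_fin_one, _root_.Matrix.cons_val_one, _root_.Matrix.fromBlocks_apply₂₂, _root_.and_self, _root_.Matrix.fromBlocks_apply₂₁, _root_.Matrix.zero_apply]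

theorem Me_apply (a b c d : F) (v : I4 → F) : rho 2 F (Me a b c d) v - v =
    (d * v (.inl 1) + a * v (.inr 0) + c * v (.inr 1)) • e1 F +
    ((b * d + c) * v (.inr 0) + b * v (.inr 1)) • e2 F + (d * v (.inr 0)) • Pi.single (Sum.inr 1) 1 := by
  ext i
  rw [Pi.sub_apply, rho_apply, mulVec_eq]
  rcases i with i | i <;> (revert i; simp only [Me, Mx, e1, e2, _root_.Fin.forall_fin_succ, Fin.isValue, _root_.Matrix.fromBlocks_apply₁₁, _root_.Matrix.of_apply, _root_.Matrix.cons_val', _root_.Matrix.cons_val_zero, _root_.Matrix.cons_val_fin_one, _root_.Matrix.cons_val_one, _root_.Matrix.fromBlocks_apply₁₂, _root_.Pi.add_apply, _root_.Pi.smul_apply, _root_.smul_eq_mul, _root_.ne_eq, reduceCtorEq, _root_.not_false_eq_true, _root_.Pi.single_eq_of_ne, _root_.MulZeroClass.mul_zero, _root_.add_zero, _root_.one_mul, _root_.Pi.single_eq_same, _root_.mul_one, _root_.Sum.inl.injEq, _root_.zero_ne_one, _root_.Matrix.cons_val_succ, _root_.MulZeroClass.zero_mul, _root_.zero_add,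 _root_.Fin.succ_ne_zero, _root_.Fin.succ_zero_eq_one, _root_.IsEmpty.forall_iff, _root_.and_true, _root_.Matrix.fromBlocks_apply₂₁, _root_.Matrix.zero_apply, _root_.Matrix.fromBlocks_apply₂₂, _root_.sub_self, _root_.Sum.inr.injEq, _root_.add_sub_cancel_right, _root_.and_self]) <;> (repeat' with_reducible apply And.intro) <;> ring

/-- **a semisimilitude normalising `unip` stabilises the flag** -/
theorem flag_of_unip {g : semiSim 2 F} (h : ∀ u ∈ unip 2 F, conjHom 2 F g u ∈ unip 2 F) :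
    (∃ a : F, a ≠ 0 ∧ g.1 (e1 F) = a • e1 F) ∧ ∃ b c : F, b ≠ 0 ∧ g.1 (e2 F) = b • e2 F + c • e1 F := by
  have hsurj : ∀ u ∈ unip 2 F, ∃ u' ∈ unip 2 F, conjHom 2 F g u' = u := by
    have hfin : Finite (unip 2 F) := inferInstance
    let f : unip 2 F → unip 2 F := fun u => ⟨conjHom 2 F g u, h u u.2⟩
    have hf : Function.Injective f := by
      intro u v huv
      apply Subtype.ext
      exact (conjHom 2 F g).injective (congrArg Subtype.val huv)
    intro u hu
    obtain ⟨w, hw⟩ := (Finite.injective_iff_surjective.1 hf) ⟨u, hu⟩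
    exact ⟨w, w.2, congrArg Subtype.val hw⟩
  obtain ⟨φ, l, hl, hg⟩ := g.2
  have hg0 : g.1 0 = 0 := by
    have := hg.1 0 0
    rw [add_zero] at this
    exact left_eq_add.mp this
  have hconj : ∀ u ∈ unip 2 F, ∃ u' ∈ unip 2 F, ∀ v, rho 2 F u (g.1 v) = g.1 (rho 2 F u' v) := by
    intro u hu
    obtain ⟨u', hu', rfl⟩ := hsurj u hu
    refine ⟨u', hu', fun v => ?_⟩
    rw [rho_conjHom, Equiv.Perm.mul_apply, Equiv.Perm.mul_apply, perm_inv_apply_self]
  have he1 : ∃ a : F, a ≠ 0 ∧ g.1 (e1 F) = a • e1 F := by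
    have hfix : ∀ u ∈ unip 2 F, rho 2 F u (g.1 (e1 F)) - g.1 (e1 F) = 0 := by
      intro u hu
      obtain ⟨u', hu', h1⟩ := hconj u hu
      rw [h1, (unip_e1 hu').1, sub_self]
    set v := g.1 (e1 F) with hv
    have h1 := hfix _ (Me_mem 1 0 0 0)
    have h2 := hfix _ (Me_mem 0 0 1 0)
    have h3 := hfix _ (Me_mem 0 0 0 1)
    rw [Me_apply] at h1 h2 h3
    have k1 := congrFun h1 (.inl 0)
    have k2 := congrFun h2 (.inl 0)
    have k3 := congrFun h3 (.inl 0)
    simp [e1, e2] at k1 k2 k3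
    refine ⟨v (.inl 0), ?_, ?_⟩
    · intro h0
      have hv0 : v = 0 := by
        ext i
        rcases i with i | i <;> fin_cases i
        · exact h0
        · exact k3
        · exact k1
        · exact k2
      have h4 : e1 F = 0 := g.1.injective (by rw [← hv, hv0, hg0])
      exact e1_ne_zero h4
    · ext i
      rcases i with i | i <;> fin_cases i
      · simp [e1]
      · simp [e1]; exact k3
      · simp [e1]; exact k1
      · simp [e1]; exact k2
  refine ⟨he1, ?_⟩
  obtain ⟨a, ha, hga⟩ := he1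
  have hfix : ∀ u ∈ unip 2 F, ∃ k : F, rho 2 F u (g.1 (e2 F)) - g.1 (e2 F) = k • e1 F := by
    intro u hu
    obtain ⟨u', hu', h1⟩ := hconj u hu
    obtain ⟨c, hc⟩ := (unip_e1 hu').2
    refine ⟨φ c * a, ?_⟩
    rw [h1, hc, hg.1, add_sub_cancel_left, hg.2.1, hga, smul_smul]
  set v := g.1 (e2 F) with hv
  obtain ⟨_, h1⟩ := hfix _ (Me_mem 0 0 1 0)
  obtain ⟨_, h2⟩ := hfix _ (Me_mem 0 1 0 0)
  rw [Me_apply] at h1 h2
  have k1 := congrFun h1 (.inl 1)
  have k2 := congrFun h2 (.inl 1)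
  simp [e1, e2] at k1 k2
  refine ⟨v (.inl 1), v (.inl 0), ?_, ?_⟩
  · intro h0
    have hv0 : v = v (.inl 0) • e1 F := by
      ext i
      rcases i with i | i <;> fin_cases i
      · simp [e1]
      · simp [e1]; exact h0
      · simp [e1]; exact k1
      · simp [e1]; exact k2
    -- `g e₂` is a multiple of `g e₁`
    have h4 : g.1 (e2 F) = g.1 (φ.symm (v (.inl 0) * a⁻¹) • e1 F) := by
      rw [hg.2.1, φ.apply_symm_apply, hga, smul_smul, mul_assoc, inv_mul_cancel₀ ha, mul_one, ← hv]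
      exact hv0
    have h5 := congrFun (g.1.injective h4) (.inl 1)
    simp [e1, e2] at h5
  · ext i
    rcases i with i | i <;> fin_cases i
    · simp [e1, e2]
    · simp [e1, e2]
    · simp [e1, e2]; exact k1
    · simp [e1, e2]; exact k2

end Cfsg.Agent.H551.PiSp
end

-- part: H551/Pi/SpExo
section
/-!
# S4324: the exotic involutions of `Sp_4(2^a)` (helper551)
-/

set_option autoImplicit false
set_option linter.unusedSectionVars false

namespace Cfsg.Agent.H551.PiSp

open Matrix Cfsg Module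
open Cfsg.Agent.ClassicalGeometry.Sp4Graph Cfsg.Agent.ClassicalGeometry.Sp4GraphAut
  Cfsg.Agent.ClassicalGeometry.SympBasic Cfsg.Agent.ClassicalGeometry.SympAutSemi
  Cfsg.Agent.ClassicalGeometry.SympAutSylow
open Cfsg.Agent.H216.Pi Cfsg.Agent.H459.Rad

section Tri

variable {F : Type*} [Field F] [CharP F 2]

/-- conjugation by a semisimilitude stabilising the flag -/
theorem Tri.conj {g : semiSim 2 F} {φ : F ≃+* F} {l : F} (hg : IsSemi g.1 φ l)
    (h1 : ∃ a : F, a ≠ 0 ∧ g.1 (e1 F) = a • e1 F) (h2 : ∃ b c : F, b ≠ 0 ∧ g.1 (e2 F) = b • e2 F + c • e1 F)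
    {a b : F} {A : Matrix.symplecticGroup (Fin 2) F} (h : Tri a b A.1) :
    Tri (φ a) (φ b) (conjHom 2 F g A).1 := by
  obtain ⟨α, hα, h1⟩ := h1
  obtain ⟨β, γ, hβ, h2⟩ := h2
  rw [tri_iff] at *
  obtain ⟨k1, c, k2⟩ := h
  set C := conjHom 2 F g A with hC
  have hc : ∀ v, rho 2 F C (g.1 v) = g.1 (rho 2 F A v) := by
    intro v
    rw [hC, rho_conjHom, Equiv.Perm.mul_apply, Equiv.Perm.mul_apply, perm_inv_apply_self]
  have hadd := (isSemi_rho C).1
  have hsm : ∀ (k : F) v, rho 2 F C (k • v) = k • rho 2 F C v := (isSemi_rho C).2.1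
  have m1 : rho 2 F C (e1 F) = φ a • e1 F := by
    have := hc (e1 F)
    rw [k1, h1, hsm, hg.2.1, h1, smul_comm] at this
    exact smul_right_injective _ hα this
  refine ⟨m1, ?_⟩
  have m2 := hc (e2 F)
  rw [k2, h2, hadd, hsm, hsm, m1, hg.1, hg.2.1, hg.2.1, h1, h2] at m2
  refine ⟨β⁻¹ * (φ b * γ + φ c * α - γ * φ a), ?_⟩
  have m3 : β • rho 2 F C (e2 F) = β • (φ b • e2 F) + (φ b * γ + φ c * α - γ * φ a) • e1 F := by
    have m4 := eq_sub_of_add_eq m2
    rw [m4]
    module
  have m5 := congrArg (fun v => β⁻¹ • v) m3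
  simp only [smul_add, smul_smul, inv_mul_cancel₀ hβ, one_smul] at m5
  rw [m5, ← mul_assoc, inv_mul_cancel₀ hβ, one_mul]

/-- the standard torus -/
def Dg (a b : Fˣ) : Matrix.symplecticGroup (Fin 2) F :=
  ⟨Matrix.diagonal (Sum.elim ![(a : F), b] ![((a⁻¹ : Fˣ) : F), ((b⁻¹ : Fˣ) : F)]), by
    apply mem_of_row_rel
    intro i j
    rcases i with i | i <;> rcases j with j | j <;> (revert i j; simp only [_root_.Fin.forall_fin_succ, _root_.Units.val_inv_eq_inv_val, Fin.isValue, _root_.ne_eq, reduceCtorEq, _root_.not_false_eq_true, _root_.Matrix.diagonal_apply_ne, _root_.MulZeroClass.mul_zero, _root_.add_zero, _root_.Sum.swap_inr, _root_.Sum.inl.injEq, _root_.Matrix.diagonal_apply_eq, _root_.Sum.elim_inr, _root_.Matrix.cons_val_zero, _root_.Sum.inr.injEq, _root_.zero_ne_one, _root_.Fin.succ_ne_zero, _root_.zero_add, _root_.Fin.succ_zero_eq_one, _root_.Matrix.cons_val_one, _root_.Matrix.cons_val_fin_one, _root_.IsEmpty.forall_iff, _root_.and_true, _root_.Sum.elim_inl,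 _root_.Units.ne_zero, _root_.mul_inv_cancel₀, ↓reduceIte, _root_.MulZeroClass.zero_mul, _root_.and_self, _root_.true_and, _root_.Sum.swap_inl, _root_.inv_mul_cancel₀])⟩

theorem Dg_tri (a b : Fˣ) : Tri (a : F) (b : F) (Dg a b).1 := by
  constructor <;> simp [Dg]

/-- **the regular element** -/
theorem exists_regular [Finite F] (hq : ∃ b : F, b ≠ 0 ∧ b ≠ 1) {x : MulAut (Matrix.symplecticGroup (Fin 2) F)}
    (hx2 : ∀ a, x (x a) = a) {g : semiSim 2 F} (hx : x = graphEquiv F * conjHom 2 F g)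
    (hU : ∀ u ∈ unip 2 F, x u ∈ unip 2 F) :
    ∃ a : Matrix.symplecticGroup (Fin 2) F,
      ¬ 2 ∣ Nat.card (Subgroup.centralizer ({a * x a⁻¹} : Set (Matrix.symplecticGroup (Fin 2) F))) := by
  have hxa : ∀ A, x A = graphHom F (conjHom 2 F g A) := by
    intro A
    rw [hx, MulAut.mul_apply]
    rfl
  -- `g` normalises `unip`
  have hgU : ∀ u ∈ unip 2 F, conjHom 2 F g u ∈ unip 2 F := by
    have hfin : Finite (unip 2 F) := inferInstance
    let f : unip 2 F → unip 2 F := fun u => ⟨graphHom F u, graphHom_unip u.2⟩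
    have hf : Function.Injective f := by
      intro u v huv
      apply Subtype.ext
      exact graphHom_injective F (congrArg Subtype.val huv)
    intro u hu
    obtain ⟨w, hw⟩ := (Finite.injective_iff_surjective.1 hf) ⟨x u, hU u hu⟩
    have h1 : graphHom F w = graphHom F (conjHom 2 F g u) := by
      rw [← hxa]
      exact congrArg Subtype.val hw
    rw [← graphHom_injective F h1]
    exact w.2
  obtain ⟨f1, f2⟩ := flag_of_unip hgU
  obtain ⟨φ, l, hl, hg⟩ := g.2
  have key : ∀ {a b : F} {A : Matrix.symplecticGroup (Fin 2) F}, Tri a b A.1 →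
      Tri (φ a * φ b) (φ a * (φ b)⁻¹) (x A).1 := by
    intro a b A hA
    rw [hxa]
    exact (hA.conj hg f1 f2).graphHom
  obtain ⟨b, hb0, hb1⟩ := hq
  refine ⟨Dg 1 (Units.mk0 b hb0), ?_⟩
  set h := Dg 1 (Units.mk0 b hb0) with hh
  have t1 : Tri 1 b h.1 := Dg_tri 1 (Units.mk0 b hb0)
  have t2 := (key t1).inv
  have t3 := t1.mul t2
  have hz : x h⁻¹ = (x h)⁻¹ := map_inv x h
  rw [hz]
  -- `x z = z⁻¹`
  have hxz : x (h * (x h)⁻¹) = (h * (x h)⁻¹)⁻¹ := by
    rw [map_mul, map_inv, hx2, _root_.mul_inv_rev, inv_inv]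
  have t4 := key t3
  rw [hxz] at t4
  have t5 := t3.inv
  obtain ⟨u1, u2⟩ := t4.unique t5
  have ha1 : 1 * (φ 1 * φ b)⁻¹ ≠ 1 := by
    rw [one_mul, map_one, one_mul]
    intro h0
    apply hb1
    rw [inv_eq_one] at h0
    exact φ.injective (by rw [h0, map_one])
  generalize 1 * (φ 1 * φ b)⁻¹ = a1 at *
  generalize b * (φ 1 * (φ b)⁻¹)⁻¹ = b1 at *
  have hb1' : b1 ≠ 1 := by
    rintro rfl
    rw [map_one, inv_one, mul_one] at u2
    exact ha1 (φ.injective (by rw [u2, map_one]))
  have ha0 : a1 ≠ 0 := t3.ha (h * (x h)⁻¹).2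
  refine t3.not_dvd ha1 hb1' ?_ ?_
  · rintro rfl
    rw [mul_inv_cancel₀ (by simpa using ha0)] at u2
    apply hb1'
    rw [← _root_.inv_inj, ← u2, inv_one]
  · intro h0
    rw [← map_mul, h0, map_one] at u1
    apply ha1
    rw [← _root_.inv_inj, ← u1, inv_one]

end Tri

/-- an automorphism of `2`-power order stabilises a Sylow `2`-subgroup -/
theorem exists_fixed_sylow {G : Type*} [Group G] [Finite G] [Fact (Nat.Prime 2)] {x : MulAut G} (hx : orderOf x = 2) :
    ∃ P : Sylow 2 G, ∀ u ∈ (P : Subgroup G), x u ∈ (P : Subgroup G) := by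
  have hfin : Finite (MulAut G) := inferInstance
  have hp : IsPGroup 2 (Subgroup.zpowers x) := by
    apply IsPGroup.of_card (n := 1)
    rw [Nat.card_zpowers, hx, pow_one]
  have hnd : ¬ 2 ∣ Nat.card (Sylow 2 G) := by
    intro h
    have h1 := card_sylow_modEq_one 2 G
    have h2 : (0 : ℕ) ≡ 1 [MOD 2] := ((Nat.modEq_zero_iff_dvd.mpr h).symm.trans h1)
    exact absurd h2 (by decide)
  obtain ⟨P, hP⟩ := hp.nonempty_fixed_point_of_prime_not_dvd_card (Sylow 2 G) hnd
  refine ⟨P, fun u hu => ?_⟩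
  have h1 : (⟨x, Subgroup.mem_zpowers x⟩ : Subgroup.zpowers x) • P = P := hP ⟨x, Subgroup.mem_zpowers x⟩
  have h2 : ((⟨x, Subgroup.mem_zpowers x⟩ : Subgroup.zpowers x) • P : Sylow 2 G) = x • P := rfl
  have h3 : x • u ∈ ((x • P : Sylow 2 G) : Subgroup G) := by
    rw [Sylow.pointwise_smul_def]
    exact Subgroup.smul_mem_pointwise_smul u x (P : Subgroup G) hu
  rw [← h2, h1] at h3
  exact h3

section Main

variable {F : Type} [Field F] [Finite F] [CharP F 2]

/-- `Sp_4 ≅ PSp_4` -/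
noncomputable def spE (F : Type) [Field F] [CharP F 2] : Matrix.symplecticGroup (Fin 2) F ≃* PSp 2 F :=
  MulEquiv.ofBijective (QuotientGroup.mk' (Subgroup.center (Matrix.symplecticGroup (Fin 2) F)))
    ⟨fun _ _ h => mk_injective (by norm_num) h, QuotientGroup.mk'_surjective _⟩

theorem spE_apply (A : Matrix.symplecticGroup (Fin 2) F) : spE F A = QuotientGroup.mk A := rfl

/-- the automorphisms outside `PΓSp` -/
theorem exists_gamma (hq : 3 ≤ Nat.card F) {x : MulAut (PSp 2 F)} (hx : x ∉ (Psi 2 F).range) :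
    ∃ g, x = gamma F * Psi 2 F g := by
  obtain ⟨h0, h2⟩ := Cfsg.Agent.BpCl.index_Psi_le (F := F) (m := 2) le_rfl (fun _ => hq)
  have hne : (Psi 2 F).range ≠ ⊤ := fun h => hx (by rw [h]; exact Subgroup.mem_top _)
  have hi : (Psi 2 F).range.index = 2 := by
    have h1 : (Psi 2 F).range.index ≠ 1 := fun h => hne (Subgroup.index_eq_one.1 h)
    omega
  have hγ : gamma F ∉ (Psi 2 F).range := by
    intro h
    have h1 := Cfsg.Agent.ClassicalGeometry.AutPSpCount.pres_of_mem_range h
    obtain ⟨w, -, d, -, h2⟩ := h1 (e1 F) e1_ne_zero 1 one_ne_zero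
    exact gamma_transv_ne one_ne_zero w d h2
  have h1 : (gamma F)⁻¹ * x ∈ (Psi 2 F).range := by
    rw [Subgroup.mul_mem_iff_of_index_two hi]
    constructor
    · intro h
      exact absurd ((Subgroup.inv_mem_iff _).1 h) hγ
    · intro h
      exact absurd h hx
  obtain ⟨g, hg⟩ := h1
  exact ⟨g, by rw [hg, mul_inv_cancel_left]⟩

/-- **the exotic involutions** -/
theorem false_of_exotic (hq : 3 ≤ Nat.card F) {s n : ℕ} {x : MulAut (PSp 2 F)} (hs : s.Prime)
    (hst : s ≠ 2) (hsK : s ∣ Nat.card (PSp 2 F)) (hx : (orderOf x).Prime) (hn : 4 ≤ n) (hFC : FC s n x)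
    (hmem : x ∉ (Psi 2 F).range) : False := by
  have h2F : Fact (Nat.Prime 2) := ⟨Nat.prime_two⟩
  have := Fintype.ofFinite F
  obtain ⟨h0, h2⟩ := Cfsg.Agent.BpCl.index_Psi_le (F := F) (m := 2) le_rfl (fun _ => hq)
  -- `x` is an involution
  have ho : orderOf x = 2 := by
    by_contra hne
    have h3 : 3 ≤ orderOf x := by
      have := hx.two_le
      omega
    obtain ⟨g, hg⟩ := Cfsg.Agent.BpCl.mem_of_index_lt h0 hx (by omega) rfl
    exact hmem ⟨g, hg⟩
  set y : MulAut (Matrix.symplecticGroup (Fin 2) F) := tr (spE F).symm x with hy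
  have hoy : orderOf y = 2 := by rw [hy, orderOf_tr, ho]
  obtain ⟨P, hP⟩ := exists_fixed_sylow hoy
  obtain ⟨Q, hQ⟩ := exists_sylow (F := F)
  obtain ⟨k, hk⟩ := MulAction.exists_smul_eq (Matrix.symplecticGroup (Fin 2) F) P Q
  -- conjugation
  set z : MulAut (Matrix.symplecticGroup (Fin 2) F) := cj y k with hz
  have hoz : orderOf z = 2 := by rw [hz, orderOf_cj, hoy]
  have hmemQ : ∀ u : Matrix.symplecticGroup (Fin 2) F, u ∈ unip 2 F ↔ k⁻¹ * u * k ∈ (P : Subgroup (Matrix.symplecticGroup (Fin 2) F)) := by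
    intro u
    rw [← hQ, ← hk, Sylow.coe_subgroup_smul, Subgroup.mem_pointwise_smul_iff_inv_smul_mem, ← map_inv]
    change k⁻¹ * u * k⁻¹⁻¹ ∈ _ ↔ _
    rw [inv_inv]
  have hzU : ∀ u ∈ unip 2 F, z u ∈ unip 2 F := by
    intro u hu
    rw [hmemQ] at hu ⊢
    have h3 := hP _ hu
    rw [hz, cj_apply]
    have h4 : k⁻¹ * (k * y k⁻¹ * y u * (k * y k⁻¹)⁻¹) * k = y (k⁻¹ * u * k) := by
      rw [map_mul, map_mul, map_inv]
      group
    rw [h4]
    exact h3
  -- the shape of `z`
  have hzmem : tr (spE F) z ∉ (Psi 2 F).range := by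
    have h3 : tr (spE F) z = cj x (spE F k) := by
      ext a
      rw [tr_apply, hz, cj_apply, cj_apply, hy, tr_apply, tr_apply, MulEquiv.symm_symm]
      simp only [map_mul, map_inv, MulEquiv.apply_symm_apply]
    rw [h3]
    have h4 : MulAut.conj (spE F k) ∈ (Psi 2 F).range := by
      refine ⟨⟨rho 2 F k, _, 1, one_ne_zero, isSemi_rho k⟩, ?_⟩
      ext a
      obtain ⟨A, rfl⟩ := QuotientGroup.mk_surjective a
      rw [Psi_mk, MulAut.conj_apply, spE_apply, ← QuotientGroup.mk_mul, ← QuotientGroup.mk_inv, ← QuotientGroup.mk_mul]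
      congr 1
      apply rho_injective
      rw [rho_conjHom, map_mul, map_mul, map_inv]
    intro h5
    apply hmem
    have h6 := mul_mem (mul_mem (inv_mem h4) h5) h4
    have h7 : (MulAut.conj (spE F k))⁻¹ * cj x (spE F k) * MulAut.conj (spE F k) = x := by
      unfold cj
      group
    rwa [h7] at h6
  obtain ⟨g, hg⟩ := exists_gamma hq hzmem
  have hzg : z = graphEquiv F * conjHom 2 F g := by
    ext1 A
    apply (spE F).injective
    have h3 : tr (spE F) z (spE F A) = spE F (z A) := by rw [tr_apply, MulEquiv.symm_apply_apply]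
    rw [← h3, hg, MulAut.mul_apply, spE_apply, Psi_mk, gamma_mk, MulAut.mul_apply, spE_apply]
    rfl
  have hz2 : ∀ a, z (z a) = a := by
    intro a
    rw [← MulAut.mul_apply, ← pow_two]
    have h3 := pow_orderOf_eq_one z
    rw [hoz] at h3
    rw [h3]
    rfl
  obtain ⟨a, ha⟩ := exists_regular (by
    by_contra hcon
    push Not at hcon
    have h3 : Nat.card F ≤ 2 := by
      rw [Nat.card_eq_fintype_card]
      classical
      have : (Finset.univ : Finset F) ⊆ {0, 1} := by
        intro t _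
        by_cases h0 : t = 0
        · simp only [h0, _root_.Finset.mem_insert, _root_.Finset.mem_singleton, _root_.zero_ne_one, _root_.or_false]
        · simp only [hcon t h0, _root_.Finset.mem_insert, _root_.one_ne_zero, _root_.Finset.mem_singleton, _root_.or_true]
      exact (Finset.card_le_card this).trans (Finset.card_le_two)
    omega) hz2 hzg hzU
  have hL : IsLieTypeChar 2 (Matrix.symplecticGroup (Fin 2) F) :=
    Or.inr (Or.inl ⟨F, inferInstance, inferInstance, inferInstance, 2, le_rfl,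
      fun _ => by rw [← Nat.card_eq_fintype_card]; exact hq, ⟨spE F⟩⟩)
  refine Cfsg.Agent.H955.PiG.false_of_regular Nat.prime_two hL hs ?_ (k := 2) (m := n) (x := z)
    (InC.commutator z a) ha (by omega) (fun h => absurd h hst) ((hFC.tr (spE F).symm).conj k)
  rw [Nat.card_congr (spE F).toEquiv]
  exact hsK

end Main

end Cfsg.Agent.H551.PiSp
end

-- part: H551/Pi/NrPsp
section
/-!
# S4324: the row `NR` of the symplectic groups (helper551)
-/

set_option autoImplicit false
set_option linter.unusedSectionVars false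

namespace Cfsg.Agent.H551.PiSp

open Subgroup Cfsg Cfsg.Agent.H216.Pi
open Cfsg.Agent.ClassicalGeometry.SympAutSemi

/-- **`NR` for `PSp_{2m}(q)`** -/
theorem nr_PSp {F : Type} [Field F] [Finite F] {m t : ℕ} [CharP F t] (ht : t.Prime) (hm : 2 ≤ m)
    (h22 : m = 2 → 3 ≤ Nat.card F) : NR t (PSp m F) := by
  intro s r x hs hr hr3 hrs hrK hst hsK hcyc hx hxs hxr hPC hFC
  by_cases hmem : x ∈ (Psi m F).range
  · exact nr_of_mem_range ht hm h22 hs (hr3.trans hrs) hst hsK hcyc hx hPC (by norm_num) hFC.eleven hmem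
  -- the exotic case
  have := Fintype.ofFinite F
  by_cases hcase : m = 2 ∧ (2 : F) = 0
  · obtain ⟨rfl, h2⟩ := hcase
    have hchar : CharP F 2 := CharTwo.of_one_ne_zero_of_two_eq_zero one_ne_zero h2
    exact false_of_exotic (h22 rfl) hs (by omega) hsK hx (by norm_num) hFC.eleven hmem
  · exfalso
    apply hmem
    obtain ⟨g, hg⟩ := Cfsg.Agent.ClassicalGeometry.SympAutExists.exists_semi hm x (by
      refine Cfsg.Agent.ClassicalGeometry.SympAutOddA.recog hm ?_ x
      by_cases hm2 : m = 2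
      · right
        intro h2
        exact hcase ⟨hm2, h2⟩
      · left; omega)
    exact ⟨g, hg⟩

theorem nr_psp (t : ℕ) (K : Type) [Group K] [Finite K] [IsSimpleGroup K] (_ : ¬ IsMulCommutative K) (ht : t.Prime)
    (h : IsPSpChar t K) : NR t K := by
  obtain ⟨F, _, _, _, m, hm, h22, ⟨e⟩⟩ := h
  have hfin : Finite (PSp m F) := Finite.of_equiv _ e.toEquiv
  exact NR_tr e (nr_PSp ht hm fun h => by rw [Nat.card_eq_fintype_card]; exact h22 h)

end Cfsg.Agent.H551.PiSp
end

-- part: H566/Pi/SgPow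
section
/-!
# S4324: products of two conjugate Siegel transformations (helper566)

`sg u w`, `Q w ≠ 0`: for every odd prime `s ∣ q⁴ - 1` some product `sg u w * (sg u w)^g` has order divisible by `s`
modulo scalars.
-/

set_option autoImplicit false
set_option linter.unusedSectionVars false
set_option linter.unusedSimpArgs false

namespace Cfsg.Agent.H566.Pi.Sg

open QuadraticMap Cfsg.Agent.LieClassical.OrthCore Cfsg.Agent.LieClassical.OrthTrans
  Cfsg.Agent.LieClassical.OrthSimple Cfsg.Agent.ClassicalGeometry.OrthAut1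
  Cfsg.Agent.ClassicalGeometry.OrthAut2 Cfsg.Agent.ClassicalGeometry.OrthAutBasic

/-! ### the field elements -/

theorem exists_data {F : Type*} [Field F] [Finite F] {s : ℕ} (hs : s.Prime) (h3 : 3 ≤ s) (hsF : (s : F) ≠ 0)
    (hd : s ∣ Nat.card F ^ 4 - 1) : ∃ (m n : F) (ν : AlgebraicClosure F), n ≠ 0 ∧ ν ≠ 0 ∧ orderOf ν = s ∧
      (ν + ν⁻¹) ^ 2 - algebraMap F _ n * (ν + ν⁻¹) + (algebraMap F _ m - 4) = 0 := by
  classical
  have hF : Fintype F := Fintype.ofFinite F
  set K := AlgebraicClosure F with hK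
  rw [Nat.card_eq_fintype_card] at hd
  set q := Fintype.card F with hq
  have hq1 : 1 < q := Fintype.one_lt_card
  have hsK : NeZero (s : K) := by
    constructor
    rw [← map_natCast (algebraMap F K)]
    exact fun h => hsF ((map_eq_zero _).1 h)
  obtain ⟨ν, hν⟩ := HasEnoughRootsOfUnity.exists_primitiveRoot K s
  have hν0 : ν ≠ 0 := hν.ne_zero (by omega)
  have hνs : ν ^ s = 1 := hν.pow_eq_one
  let φ : K →ₐ[F] K := FiniteField.frobeniusAlgHom F K
  have hφ : ∀ a, φ a = a ^ q := fun a => rfl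
  have hdvd : s ∣ q ^ 2 - 1 ∨ s ∣ q ^ 2 + 1 := by
    have h1 : q ^ 4 - 1 = (q ^ 2 - 1) * (q ^ 2 + 1) := by
      have h2 : 1 ≤ q ^ 2 := Nat.one_le_pow _ _ (by omega)
      zify [h2, Nat.one_le_pow 4 q (by omega)]
      ring
    rw [h1] at hd
    exact (Nat.Prime.dvd_mul hs).1 hd
  set y := ν + ν⁻¹ with hy
  have hφν : φ (φ ν) = ν ∨ φ (φ ν) = ν⁻¹ := by
    have h0 : φ (φ ν) = ν ^ q ^ 2 := by rw [hφ, hφ, ← pow_mul, pow_two]
    rw [h0]
    rcases hdvd with ⟨k, hk⟩ | ⟨k, hk⟩
    · left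
      have h2 : q ^ 2 = s * k + 1 := by
        have : 1 ≤ q ^ 2 := Nat.one_le_pow _ _ (by omega)
        omega
      rw [h2, pow_succ, pow_mul, hνs, one_pow, one_mul]
    · right
      apply eq_inv_of_mul_eq_one_left
      rw [← pow_succ, hk, pow_mul, hνs, one_pow]
  have hφy : φ (φ y) = y := by
    rw [hy, map_add, map_add, map_inv₀, map_inv₀]
    rcases hφν with h | h <;> rw [h]
    rw [inv_inv, add_comm]
  have hback : ∀ a : K, φ a = a → ∃ b : F, algebraMap F K b = a := fun a ha =>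
    Cfsg.Agent.BenderMod.Arith.exists_algebraMap_eq ha
  by_cases hn0 : y + φ y = 0
  · -- then `y` is in `F`
    have hφy' : φ y = y := by
      have h1 : (ν ^ (q + 1) + 1) * (ν ^ q + ν) = 0 := by
        have h2 : (ν ^ (q + 1) + 1) * (ν ^ q + ν) = (y + φ y) * ν ^ (q + 1) := by
          rw [hφ, hy]
          have h3 : (ν + ν⁻¹) ^ q = ν ^ q + (ν ^ q)⁻¹ := by
            rw [← hφ, map_add, map_inv₀, hφ]
          have e1 : ν⁻¹ * ν = 1 := inv_mul_cancel₀ hν0
          have e2 : (ν ^ q)⁻¹ * ν ^ q = 1 := inv_mul_cancel₀ (pow_ne_zero _ hν0)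
          rw [h3, pow_succ]
          linear_combination (-(ν ^ q)) * e1 + (-ν) * e2
        rw [h2, hn0, zero_mul]
      have hodd : Odd s := hs.odd_of_ne_two (by omega)
      have hc2 : ∀ j : ℕ, ν ^ j = -1 → (-1 : K) = 1 := by
        intro j hj
        have h4 : (ν ^ j) ^ s = 1 := by rw [← pow_mul, mul_comm, pow_mul, hνs, one_pow]
        rw [hj, hodd.neg_one_pow] at h4
        exact h4
      rcases mul_eq_zero.1 h1 with h2 | h2
      · have h4 : ν ^ (q + 1) = -1 := eq_neg_of_add_eq_zero_left h2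
        rw [hc2 _ h4] at h4
        have h5 : φ ν = ν⁻¹ := by
          rw [hφ]
          apply eq_inv_of_mul_eq_one_left
          rw [← pow_succ, h4]
        rw [hy, map_add, map_inv₀, h5, inv_inv, add_comm]
      · have h4 : ν ^ (q - 1) = -1 := by
          have h5 : ν ^ q = ν ^ (q - 1) * ν := by rw [← pow_succ, Nat.sub_add_cancel hq1.le]
          rw [h5] at h2
          have h6 : (ν ^ (q - 1) + 1) * ν = 0 := by rw [add_mul, one_mul]; exact h2
          exact eq_neg_of_add_eq_zero_left ((mul_eq_zero.1 h6).resolve_right hν0)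
        rw [hc2 _ h4] at h4
        have h5 : φ ν = ν := by
          rw [hφ, ← Nat.sub_add_cancel hq1.le, pow_succ, h4, one_mul]
        rw [hy, map_add, map_inv₀, h5]
    obtain ⟨b, hb⟩ := hback y hφy'
    refine ⟨4 - b ^ 2 + b, 1, ν, one_ne_zero, hν0, hν.eq_orderOf.symm, ?_⟩
    rw [show (ν + ν⁻¹ : AlgebraicClosure F) = algebraMap F _ b from hb.symm]
    simp only [map_add, map_sub, map_pow, map_one, map_ofNat]
    ring
  · obtain ⟨n, hn⟩ := hback (y + φ y) (by rw [map_add, hφy, add_comm])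
    obtain ⟨N, hN⟩ := hback (y * φ y) (by rw [map_mul, hφy, mul_comm])
    refine ⟨N + 4, n, ν, ?_, hν0, hν.eq_orderOf.symm, ?_⟩
    · rintro rfl
      rw [map_zero] at hn
      exact hn0 hn.symm
    · rw [map_add, hn, hN]
      simp only [map_ofNat]
      ring

/-! ### the eigenfunctional -/

section

variable {F V : Type*} [Field F] [AddCommGroup V] [Module F V] {Q : QuadraticForm F V}

theorem dvd_of_functional (hG : Good Q) {K : Type*} [Field K] [Algebra F K] {f : ↥(E Q)} {μ : K} {l : V → K} {s : ℕ}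
    (hs : s.Prime) (h3 : 3 ≤ s) (hμ : orderOf μ = s) (hl0 : ∃ v, l v ≠ 0)
    (hls : ∀ (a : F) v, l (a • v) = algebraMap F K a * l v)
    (hl : ∀ v, l v = μ * l ((f : V ≃ₗ[F] V) v)) {k : ℕ} (hk : ((f : ↥(E Q)) : P Q) ^ k = 1) : s ∣ k := by
  have h1 : f ^ k ∈ Subgroup.center ↥(E Q) := by
    rw [← QuotientGroup.eq_one_iff, QuotientGroup.mk_pow]
    exact hk
  obtain ⟨c, hc⟩ := center_scalar hG h1
  have hpow : ∀ (j : ℕ) v, l v = μ ^ j * l (((f ^ j : ↥(E Q)) : V ≃ₗ[F] V) v) := by
    intro j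
    induction j with
    | zero =>
      intro v
      rw [pow_zero, pow_zero, one_mul]
      rfl
    | succ j ih =>
      intro v
      rw [ih v, hl (((f ^ j : ↥(E Q)) : V ≃ₗ[F] V) v), pow_succ, pow_succ', mul_assoc]
      rfl
  -- `c² = 1`
  have hc2 : c * c = 1 := by
    obtain ⟨x, y, h⟩ := hG.exists_hyp
    have h2 : polar Q (((f ^ k : ↥(E Q)) : V ≃ₗ[F] V) x) (((f ^ k : ↥(E Q)) : V ≃ₗ[F] V) y) = polar Q x y :=
      polar_apply _ _ _
    rw [hc, hc, polar_smul_left, polar_smul_right, h.pair, smul_eq_mul, smul_eq_mul, mul_one] at h2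
    exact h2
  obtain ⟨v, hv⟩ := hl0
  have h4 := hpow k v
  rw [hc, hls] at h4
  have h5 : μ ^ k * algebraMap F K c = 1 := by
    have h6 : (μ ^ k * algebraMap F K c - 1) * l v = 0 := by
      rw [sub_mul, one_mul, mul_assoc, ← h4, sub_self]
    exact sub_eq_zero.1 ((mul_eq_zero.1 h6).resolve_right hv)
  have h6 : μ ^ (k * 2) = 1 := by
    have h7 : algebraMap F K c * algebraMap F K c = 1 := by rw [← map_mul, hc2, map_one]
    rw [pow_mul, pow_two]
    have h8 : μ ^ k * μ ^ k = (μ ^ k * algebraMap F K c) * (μ ^ k * algebraMap F K c) * (algebraMap F K c * algebraMap F K c) := by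
      have h9 : (μ ^ k * algebraMap F K c) * (μ ^ k * algebraMap F K c) * (algebraMap F K c * algebraMap F K c) =
        μ ^ k * μ ^ k * ((algebraMap F K c * algebraMap F K c) * (algebraMap F K c * algebraMap F K c)) := by ring
      rw [h9, h7, mul_one, mul_one]
    rw [h8, h5, h7, one_mul, mul_one]
  have h7 : s ∣ k * 2 := by
    rw [← hμ]
    exact orderOf_dvd_of_pow_eq_one h6
  exact (Nat.Coprime.dvd_of_dvd_mul_right ((Nat.coprime_primes hs Nat.prime_two).2 (by omega)) h7)

/-- the order of the product of two opposite Siegel transformations -/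
theorem dvd_of_sg_mul_sg (hG : Good Q) {s : ℕ} (hs : s.Prime) (h3 : 3 ≤ s) {u y w w' : V} (hy : Hyp Q u y)
    (hw : polar Q u w = 0) (hyw : polar Q y w = 0) (hw' : polar Q u w' = 0) (hyw' : polar Q y w' = 0) {m n : F}
    (hn : n ≠ 0) (hc : Q w * Q w' = n ^ 2) (hm : polar Q w w' = m) {K : Type*} [Field K] [Algebra F K] {ν : K}
    (hν0 : ν ≠ 0) (hν : orderOf ν = s)
    (hν2 : (ν + ν⁻¹) ^ 2 - algebraMap F _ n * (ν + ν⁻¹) + (algebraMap F _ m - 4) = 0) {k : ℕ}
    (hk : ((sg u w hy.left hw * sg y w' hy.right hyw' : ↥(E Q)) : P Q) ^ k = 1) : s ∣ k := by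
  set f : ↥(E Q) := sg u w hy.left hw * sg y w' hy.right hyw' with hf
  set c := Q w with hcdef
  set c' := Q w' with hcdef'
  set i := algebraMap F K with hi
  -- the order of `μ = ν²`
  set μ := ν ^ 2 with hμdef
  have hμ : orderOf μ = s := by
    rw [hμdef, Nat.Coprime.orderOf_pow (by rw [hν]; exact (Nat.coprime_primes hs Nat.prime_two).2 (by omega)), hν]
  have hμ0 : μ ≠ 0 := pow_ne_zero _ hν0
  have hμ1 : μ ≠ 1 := by
    intro h
    rw [h, orderOf_one] at hμ
    omega
  have hμn : μ + 1 ≠ 0 := by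
    intro h
    have h4 : μ = -1 := eq_neg_of_add_eq_zero_left h
    have h5 : μ ^ 2 = 1 := by rw [h4]; ring
    have h6 := orderOf_dvd_of_pow_eq_one h5
    rw [hμ] at h6
    have := Nat.le_of_dvd (by norm_num) h6
    omega
  have hc'0 : c' ≠ 0 := by
    intro h
    rw [h, mul_zero] at hc
    exact hn (pow_eq_zero_iff (two_ne_zero)|>.1 hc.symm)
  have hi0 : i c' ≠ 0 := (map_ne_zero i).2 hc'0
  -- the relation
  have hrel : ((μ - 1) ^ 2 + i m * μ) ^ 2 = i n ^ 2 * μ * (μ + 1) ^ 2 := by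
    have h4 : (μ - 1) ^ 2 + i m * μ = i n * ν * (μ + 1) := by
      have e1 : ν⁻¹ * ν = 1 := inv_mul_cancel₀ hν0
      have h5 : ((ν + ν⁻¹) ^ 2 - i n * (ν + ν⁻¹) + (i m - 4)) * ν ^ 2 = 0 := by rw [hν2, zero_mul]
      have h6 : ((ν + ν⁻¹) ^ 2 - i n * (ν + ν⁻¹) + (i m - 4)) * ν ^ 2 =
          (ν ^ 2 + ν⁻¹ * ν) ^ 2 - i n * ν * (ν ^ 2 + ν⁻¹ * ν) + (i m - 4) * ν ^ 2 := by ring
      rw [h6, e1] at h5
      rw [hμdef]
      linear_combination h5
    rw [h4, hμdef]
    ring
  set t4 := (μ - 1) ^ 2 + i m * μ with ht4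
  set t3 := -(i c') * (μ + 1) with ht3
  have hcK : i c * i c' = i n ^ 2 := by rw [← map_mul, hc, map_pow]
  let l : V → K := fun v => (μ - 1) * t4 * i (polar Q u v) + (μ - 1) * t3 * i (polar Q y v) +
    μ * t3 * i (polar Q w v) + t4 * i (polar Q w' v)
  have hpu := hy.polar_left
  have hpy := hy.polar_right
  have huy := hy.pair
  have hyu := hy.pair'
  have hww : polar Q w w = 2 * c := polar_self' w
  have hww' : polar Q w' w' = 2 * c' := polar_self' w'
  have hm' : polar Q w' w = m := by rw [polar_comm]; exact hm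
  have hwu : polar Q w u = 0 := by rw [polar_comm]; exact hw
  have hwy : polar Q w y = 0 := by rw [polar_comm]; exact hyw
  have hw'u : polar Q w' u = 0 := by rw [polar_comm]; exact hw'
  have hw'y : polar Q w' y = 0 := by rw [polar_comm]; exact hyw'
  have hfv : ∀ v, (f : V ≃ₗ[F] V) v = ((sg u w hy.left hw : ↥(E Q)) : V ≃ₗ[F] V)
    (((sg y w' hy.right hyw' : ↥(E Q)) : V ≃ₗ[F] V) v) := fun v => rfl
  have fu : (f : V ≃ₗ[F] V) u = (1 - m + c * c') • u - c' • y - c' • w + w' := by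
    rw [hfv, sg_apply, sg_apply, hyu, hw'u]
    simp only [one_smul, zero_smul, sub_zero, mul_one, polar_sub_right, polar_add_right, polar_smul_right, hpu, hw',
      huy, hwu, hm, hwy, smul_eq_mul, ← hcdef, ← hcdef', zero_add, mul_zero]
    module
  have fy : (f : V ≃ₗ[F] V) y = -c • u + y + w := by
    rw [hfv, sg_apply, sg_apply, hpy, hw'y]
    simp only [one_smul, zero_smul, sub_zero, mul_one, polar_sub_right, polar_add_right, polar_smul_right, hpu, hw',
      huy, hwu, hm, hwy, smul_eq_mul, ← hcdef, ← hcdef', zero_add, mul_zero, add_zero]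
    module
  have fw : (f : V ≃ₗ[F] V) w = (-2 * c + m * c) • u - m • y + (1 - m) • w := by
    rw [hfv, sg_apply, sg_apply, hyw, hm']
    simp only [one_smul, zero_smul, sub_zero, mul_one, polar_sub_right, polar_add_right, polar_smul_right, hpu, hw,
      huy, hwu, hww, hwy, smul_eq_mul, ← hcdef, ← hcdef', zero_add, mul_zero, add_zero, zero_sub]
    module
  have fw' : (f : V ≃ₗ[F] V) w' = (-m + 2 * c * c') • u - (2 * c') • y - (2 * c') • w + w' := by
    rw [hfv, sg_apply, sg_apply, hyw', hww']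
    simp only [one_smul, zero_smul, sub_zero, mul_one, polar_sub_right, polar_add_right, polar_smul_right, hpu, hw',
      huy, hwu, hm, hwy, smul_eq_mul, ← hcdef, ← hcdef', zero_add, mul_zero, add_zero, zero_sub]
    module
  refine dvd_of_functional hG (K := K) (f := f) (μ := μ) (l := l) hs h3 hμ ⟨u, ?_⟩ ?_ ?_ hk
  · simp only [l, hpu, hyu, hwu, hw'u, map_zero, map_one, mul_zero, mul_one, add_zero, zero_add]
    refine mul_ne_zero (sub_ne_zero.2 hμ1) ?_
    rw [ht3]
    exact mul_ne_zero (neg_ne_zero.2 hi0) hμn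
  · intro a v
    simp only [l, polar_smul_right, smul_eq_mul, map_mul]
    ring
  · intro v
    set x := (f : V ≃ₗ[F] V) v with hx
    have e1 : polar Q u v = polar Q ((1 - m + c * c') • u - c' • y - c' • w + w') x := by
      rw [← fu, hx, polar_apply]
    have e2 : polar Q y v = polar Q (-c • u + y + w) x := by rw [← fy, hx, polar_apply]
    have e3 : polar Q w v = polar Q ((-2 * c + m * c) • u - m • y + (1 - m) • w) x := by
      rw [← fw, hx, polar_apply]
    have e4 : polar Q w' v = polar Q ((-m + 2 * c * c') • u - (2 * c') • y - (2 * c') • w + w') x := by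
      rw [← fw', hx, polar_apply]
    simp only [l, e1, e2, e3, e4, polar_add_left, polar_sub_left, polar_smul_left, smul_eq_mul, map_add, map_sub,
      map_mul, map_neg, map_one, map_ofNat]
    generalize i (polar Q u x) = A
    generalize i (polar Q y x) = B
    generalize i (polar Q w x) = C
    generalize i (polar Q w' x) = D
    have hrel' : t4 ^ 2 = i c * i c' * μ * (μ + 1) ^ 2 := by rw [hcK]; exact hrel
    rw [ht4] at hrel'
    rw [ht3, ht4]
    linear_combination (-A) * hrel'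

/-- **A product of two conjugates of `sg u w`, `Q w ≠ 0`, of order divisible by `s ∣ q⁴ - 1`.** -/
theorem exists_conj_dvd [Finite F] [FiniteDimensional F V] (hB : Big Q) {u w : V} (hu : Q u = 0)
    (hw : polar Q u w = 0) (hu0 : u ≠ 0) (hQw : Q w ≠ 0) {s : ℕ} (hs : s.Prime) (h3 : 3 ≤ s) (hsF : (s : F) ≠ 0)
    (hd : s ∣ Nat.card F ^ 4 - 1) : ∃ g : ↥(E Q), ∀ k : ℕ,
      ((sg u w hu hw * (g * sg u w hu hw * g⁻¹) : ↥(E Q)) : P Q) ^ k = 1 → s ∣ k := by
  obtain ⟨y, hy⟩ := exists_hyp hB.nondeg hu hu0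
  obtain ⟨m, n, ν, hn, hν0, hν, hrel⟩ := exists_data hs h3 hsF hd
  -- make `w` orthogonal to `y`
  set w1 := w - polar Q y w • u with hw1
  have huw1 : polar Q u w1 = 0 := by rw [hw1, polar_sub_right, polar_smul_right, hw, hy.polar_left]; simp
  have hyw1 : polar Q y w1 = 0 := by rw [hw1, polar_sub_right, polar_smul_right, hy.pair']; simp
  have hQw1 : Q w1 = Q w := by
    rw [hw1, sub_eq_add_neg, Q_add, QuadraticMap.map_neg, QuadraticMap.map_smul, polar_neg_right, polar_smul_right,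
      polar_comm Q w u, hw, hu]
    simp
  have hsg : (sg u w hu hw : ↥(E Q)) = sg u w1 hu huw1 := by
    apply Subtype.ext
    apply LinearEquiv.ext
    intro v
    rw [sg_apply, sg_apply, hQw1, hw1, polar_sub_left, polar_smul_left, smul_eq_mul]
    module
  have hR := hB.good_res hy
  set c := Q w with hc
  have hw1m : w1 ∈ perp2 Q u y := mem_perp2.2 ⟨huw1, hyw1⟩
  have hw10 : (⟨w1, hw1m⟩ : perp2 Q u y) ≠ 0 := by
    intro h
    have h1 : w1 = 0 := congrArg Subtype.val h
    rw [h1, QuadraticMap.map_zero] at hQw1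
    exact hQw hQw1.symm
  obtain ⟨x0, y0, h0⟩ := hR.exists_hyp
  obtain ⟨a, b, hab, hwab⟩ := exists_hyp_decomp hR.nondeg h0 hw10
  obtain ⟨d, e, hde, had, hae, hbd, hbe⟩ := hR.exists_hyp2 hab
  -- in `V`
  have hwab' : w1 = (a : V) + c • (b : V) := by
    have := congrArg Subtype.val hwab
    have h1 : resQ Q u y ⟨w1, hw1m⟩ = c := by rw [resQ_apply]; exact hQw1
    rw [h1] at this
    exact this
  have ha := mem_perp2.1 a.2
  have hb := mem_perp2.1 b.2
  have hdd := mem_perp2.1 d.2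
  have hee := mem_perp2.1 e.2
  have Hab : Hyp Q (a : V) (b : V) := ⟨hab.left, hab.right, hab.pair⟩
  have Hde : Hyp Q (d : V) (e : V) := ⟨hde.left, hde.right, hde.pair⟩
  have had' : polar Q (a : V) (d : V) = 0 := had
  have hae' : polar Q (a : V) (e : V) = 0 := hae
  have hbd' : polar Q (b : V) (d : V) = 0 := hbd
  have hbe' : polar Q (b : V) (e : V) = 0 := hbe
  generalize (a : V) = a at *
  generalize (b : V) = b at *
  generalize (d : V) = d at *
  generalize (e : V) = e at *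
  set κ := n / c with hκ
  have hκ0 : κ ≠ 0 := div_ne_zero hn hQw
  have hκc : κ * c = n := by rw [hκ]; exact div_mul_cancel₀ n hQw
  set w' := m • b + d + (c * κ ^ 2) • e with hw'
  have hew : polar Q d e = 1 := Hde.pair
  have hQw' : Q w' = c * κ ^ 2 := by
    rw [hw', Q_add, Q_add, QuadraticMap.map_smul, QuadraticMap.map_smul, Hab.right, Hde.left, Hde.right,
      polar_smul_left, hbd', polar_smul_right, polar_add_left, polar_smul_left, hbe', hew]
    simp
  have hpw : polar Q w1 w' = m := by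
    rw [hwab', hw']
    simp only [polar_add_left, polar_add_right, polar_smul_left, polar_smul_right, Hab.pair, Hab.polar_right, had',
      hae', hbd', hbe', smul_eq_mul]
    ring
  have huw' : polar Q u w' = 0 := by
    rw [hw']
    simp only [polar_add_right, polar_smul_right, hb.1, hdd.1, hee.1, smul_eq_mul]
    ring
  have hyw' : polar Q y w' = 0 := by
    rw [hw']
    simp only [polar_add_right, polar_smul_right, hb.2, hdd.2, hee.2, smul_eq_mul]
    ring
  -- the conjugating element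
  have H2 : Hyp Q ((κ⁻¹ * m) • b + κ⁻¹ • d) (κ • e) := by
    refine ⟨?_, ?_, ?_⟩
    · rw [Q_add, QuadraticMap.map_smul, QuadraticMap.map_smul, Hab.right, Hde.left, polar_smul_left,
        polar_smul_right, hbd']
      simp
    · rw [QuadraticMap.map_smul, Hde.right, smul_zero]
    · rw [polar_add_left, polar_smul_left, polar_smul_left, polar_smul_right, polar_smul_right, hbe', hew]
      simp only [smul_eq_mul]
      field_simp
      ring
  obtain ⟨g, hg, gu, ga, gb⟩ := hB.trans_triple (x' := κ • y) hu hu0 Hab ha.1 hb.1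
    (by rw [QuadraticMap.map_smul, hy.right, smul_zero]) (smul_ne_zero hκ0 hy.right_ne) H2
    (by
      rw [polar_smul_left, polar_add_right, polar_smul_right, polar_smul_right, hb.2, hdd.2]
      simp)
    (by
      rw [polar_smul_left, polar_smul_right, hee.2]
      simp)
  have gw : g w1 = κ⁻¹ • w' := by
    rw [hwab', map_add, map_smul, ga, gb, hw']
    have : κ⁻¹ * (c * κ ^ 2) = c * κ := by field_simp
    simp only [smul_add, smul_smul, this]
  refine ⟨⟨g, hg⟩, fun k hk => ?_⟩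
  have hQ1 : Q (((⟨g, hg⟩ : ↥(E Q)) : V ≃ₗ[F] V) u) = 0 := by rw [Q_apply]; exact hu
  have hp1 : polar Q (((⟨g, hg⟩ : ↥(E Q)) : V ≃ₗ[F] V) u) (((⟨g, hg⟩ : ↥(E Q)) : V ≃ₗ[F] V) w1) = 0 := by
    rw [polar_apply]; exact huw1
  have hconj : (⟨g, hg⟩ : ↥(E Q)) * sg u w hu hw * (⟨g, hg⟩ : ↥(E Q))⁻¹ = sg y w' hy.right hyw' := by
    rw [hsg, sg_conj _ hu huw1 hQ1 hp1]
    apply Subtype.ext
    apply LinearEquiv.ext
    intro v
    rw [sg_apply, sg_apply]
    change v + polar Q (g u) v • g w1 - polar Q (g w1) v • g u - (Q (g w1) * polar Q (g u) v) • g u = _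
    rw [gu, gw, QuadraticMap.map_smul, polar_smul_left, polar_smul_left, hQw', smul_eq_mul, smul_eq_mul, smul_eq_mul]
    have e1 : κ * polar Q y v * κ⁻¹ = polar Q y v := by field_simp
    have e2 : κ⁻¹ * polar Q w' v * κ = polar Q w' v := by field_simp
    have e3 : κ⁻¹ * κ⁻¹ * (c * κ ^ 2) * (κ * polar Q y v) * κ = c * κ ^ 2 * polar Q y v := by field_simp
    simp only [smul_smul, e1, e2, e3]
  rw [hconj, hsg] at hk
  refine dvd_of_sg_mul_sg hB.good hs h3 hy huw1 hyw1 huw' hyw' hn ?_ hpw hν0 hν hrel hk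
  rw [hQw1, hQw', ← hκc]
  ring

end

end Cfsg.Agent.H566.Pi.Sg
end

-- part: H566/Pi/TriD
section
/-!
# S4324, triality automorphisms of order three, part 4 (helper566)

Four conjugates of a triality automorphism of order three without a point stabiliser mapped to a point stabiliser
generate an element of order divisible by a given prime divisor `s ≥ 3` of `q⁴ - 1`.
-/

set_option autoImplicit false
set_option linter.unusedSectionVars false

namespace Cfsg.Agent.H566.Pi.Tri

open QuadraticMap Subgroup Cfsg.Agent.LieClassical.OrthCore Cfsg.Agent.LieClassical.OrthTrans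
  Cfsg.Agent.LieClassical.OrthSimple Cfsg.Agent.ClassicalGeometry.OrthAut1
  Cfsg.Agent.ClassicalGeometry.OrthAut2 Cfsg.Agent.ClassicalGeometry.OrthAut2b
  Cfsg.Agent.ClassicalGeometry.OrthAut3 Cfsg.Agent.ClassicalGeometry.OrthAutCard
  Cfsg.Agent.LieClassical.QuadForms Cfsg.Agent.ClassicalGeometry.TrialityOct
  Cfsg.Agent.ClassicalGeometry.TrialitySpaces Cfsg.Agent.ClassicalGeometry.TrialityIndex

theorem center_P {F V : Type*} [Field F] [AddCommGroup V] [Module F V] {Q : QuadraticForm F V} (hG : Good Q) :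
    Subgroup.center (P Q) = ⊥ := by
  have : IsSimpleGroup (P Q) := good_isSimpleGroup hG
  rcases Subgroup.Normal.eq_bot_or_eq_top (H := Subgroup.center (P Q)) inferInstance with h | h
  · exact h
  · exfalso
    have h1 : commutator ↥(E Q) ≤ Subgroup.center ↥(E Q) := by
      rw [commutator_def, Subgroup.commutator_le]
      intro a _ b _
      have h2 : (a : P Q) ∈ Subgroup.center (P Q) := by rw [h]; exact mem_top _
      have h3 := (mem_center_iff.1 h2 (b : P Q)).symm
      rw [← QuotientGroup.eq_one_iff]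
      change ((a * b * a⁻¹ * b⁻¹ : ↥(E Q)) : P Q) = 1
      rw [QuotientGroup.mk_mul, QuotientGroup.mk_mul, QuotientGroup.mk_mul, QuotientGroup.mk_inv, QuotientGroup.mk_inv,
        h3]
      group
    rw [ClassicalGeometry.OrthSemi.commutator_E hG] at h1
    obtain ⟨a, ha⟩ := exists_ne (1 : P Q)
    obtain ⟨a, rfl⟩ := QuotientGroup.mk_surjective a
    exact ha ((QuotientGroup.eq_one_iff _).2 (h1 (mem_top a)))

section Tri

variable {F : Type*} [Field F] [Finite F] {hG : Good (plusForm 4 F)} {α : MulAut (P (plusForm 4 F))}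

/-- **Triality automorphisms of order three: four conjugates suffice.** -/
theorem false_of_tri {t : ℕ} [CharP F t] (ht : t.Prime) (h : IsTri hG α) {s : ℕ} (hs : s.Prime) (h3 : 3 ≤ s)
    (hst : s ≠ t) (hd : s ∣ Nat.card F ^ 4 - 1) {m : ℕ} (hm : 4 ≤ m) (hFC : H216.Pi.FC s m α) : False := by
  have hsF : (s : F) ≠ 0 := by
    intro h0
    rw [CharP.cast_eq_zero_iff F t] at h0
    exact hst ((Nat.prime_dvd_prime_iff_eq ht hs).1 h0).symm
  have : Finite ((Fin 4 ⊕ Fin 4 → F) ≃ₗ[F] (Fin 4 ⊕ Fin 4 → F)) := DFunLike.finite _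
  have : Finite ↥(E (plusForm 4 F)) := Subtype.finite
  have : Finite (P (plusForm 4 F)) := Quotient.finite _
  obtain ⟨a, u, w, hu, hw, hu0, hQw, hz⟩ := h.exists_sg
  have hB : Cfsg.Agent.ClassicalGeometry.OrthAutBasic.Big (plusForm 4 F) := ⟨hG.nondeg, by rw [finrank8]; norm_num⟩
  obtain ⟨g, hg⟩ := Sg.exists_conj_dvd hB hu hw hu0 hQw hs h3 hsF hd
  have h1 : H216.Pi.InC 2 (α ^ 2) (MulAut.conj ((sg u w hu hw : ↥(E (plusForm 4 F))) : P (plusForm 4 F))) := by
    rw [← hz]; exact H216.Pi.InC.commutator (α ^ 2) a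
  have h2 : H216.Pi.InC 2 α (MulAut.conj ((sg u w hu hw : ↥(E (plusForm 4 F))) : P (plusForm 4 F))) := by
    obtain ⟨f, hf⟩ := h1
    refine ⟨f, (Subgroup.closure_le _).2 ?_ hf⟩
    rintro _ ⟨i, rfl⟩
    simp only [H216.Pi.cj_pow]
    exact Subgroup.pow_mem _ (Subgroup.subset_closure (Set.mem_range_self i)) 2
  have h4 := h2.mul (h2.cj (g : P (plusForm 4 F)))
  rw [H216.Pi.cj_conj, ← map_mul] at h4
  apply hFC _ (h4.mono hm)
  rw [H955.PiG.orderOf_conj (center_P hG)]
  exact hg _ (pow_orderOf_eq_one _)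

end Tri

end Cfsg.Agent.H566.Pi.Tri
end

-- part: H566/Pi/RowO8
section
/-!
# S4324: the row `NR` of `PΩ⁺_{2m}(q)`, `m ≥ 4` (helper566, helper621)
-/

set_option autoImplicit false

namespace Cfsg.Agent.H566.Pi

open Cfsg Cfsg.Agent.H216.Pi

universe u

theorem triFalse : H621.Pi.TriFalse := by
  intro F _ _ t ht _ hG α hα _ s hs h5 hst hd hFC
  exact Tri.false_of_tri ht.out hα hs (by omega) hst hd (by norm_num : 4 ≤ 11) hFC

/-- **The row of `PΩ⁺_{2m}(q)`, `m ≥ 4`.** -/
theorem nr_oplus {t : ℕ} (ht : t.Prime) {K : Type u} [Group K] [Finite K] (h : IsPOmegaPlusChar t K) : NR t K :=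
  H621.Pi.nr_oplus_of triFalse ht h

end Cfsg.Agent.H566.Pi
end

private theorem dce_a5204a16fe63 : _root_.True := by
  try have : _root_.True := by simp only [_root_.Cfsg.Agent.H551.PiSp.Me.eq_1]
  try have : _root_.True := by simp only [_root_.Cfsg.Agent.H551.PiSp.Dg.eq_1]
  try have : _root_.True := by simp only [_root_.Cfsg.Agent.H551.PiSp.spE.congr_simp]
  try have : _root_.True := by simp only [_root_.Cfsg.Agent.H551.PiSp.Mx.eq_1]
  exact _root_.True.intro
end

-- part: H294/PiSpor/He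
section
set_option linter.all false
open scoped Cfsg.Agent.FastGrp

/-!
# S4324: the Held group and the primes 5, 7 (helper294)

Elements of order 2 and 3: explicit products of two or three conjugates of order divisible by 5, 7. Elements of order 5, 7, 17:
tool (V). Outer involutions: they fix a conjugate of `a`, so centralise `2^2.L3(4)`, contradicting `H287.OutHe.not_dvd`.
-/

set_option autoImplicit false
set_option maxRecDepth 100000

universe u

open Subgroup Cfsg Cfsg.Agent.H216.Pi Cfsg.Agent.H209.PiSpor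
open Cfsg.Spor.He (Gen)
open Cfsg.Agent.SporadicB.HePerm (act wd phi phi_wd_apply)
open Cfsg.Agent.FixBN.HeStab Cfsg.Agent.KFacts.He.Lv Cfsg.Agent.CpAutHe.Cnt
open Cfsg.Agent.H587.NR.He (ne_of_chkB wd_reverse)

namespace Cfsg.Agent.H294.PiSpor.He

theorem finHe : Finite Cfsg.Spor.He := Nat.finite_of_card_ne_zero (by rw [KFacts.He.Classes.card_he]; norm_num)

theorem center_he : center Cfsg.Spor.He = ⊥ := Cfsg.Agent.H587.NR.He.center_bot

/-- the word of the product of conjugates -/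
def cw (X : List Gen) (ws : List (List Gen)) : List Gen := (ws.map fun w => w ++ (X ++ w.reverse)).flatten

theorem inC_nil {K : Type*} [Group K] (x : MulAut K) : H216.Pi.InC 0 x 1 := ⟨Fin.elim0, one_mem _⟩

theorem inC_cw (X : List Gen) (ws : List (List Gen)) :
    H216.Pi.InC ws.length (MulAut.conj (wd X)) (MulAut.conj (wd (cw X ws))) := by
  induction ws with
  | nil =>
    have h : wd (cw X []) = 1 := wd_nil
    rw [h, map_one]
    exact inC_nil _
  | cons w ws ih =>
    have h1 : cw X (w :: ws) = (w ++ (X ++ w.reverse)) ++ cw X ws := rfl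
    have h2 : wd (w ++ (X ++ w.reverse)) = wd w * wd X * (wd w)⁻¹ := by
      rw [wd_append, wd_append, wd_reverse, mul_assoc]
    rw [h1, wd_append, map_mul, h2, ← cj_conj, List.length_cons, add_comm]
    exact (H216.Pi.InC.cj_self _ _).mul ih

/-- the certificate -/
def chk (X : List Gen) (ws : List (List Gen)) (s k : ℕ) : Bool :=
  and (and (chkB (pw (cw X ws) (k * s)) []) (not (chkB (pw (cw X ws) k) []))) (Nat.ble ws.length 11)

/-- the predicate -/
def S (s : ℕ) (x : Cfsg.Spor.He) : Prop := FC s (mm s) (MulAut.conj x)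

theorem S.pow {s : ℕ} (x : Cfsg.Spor.He) (k : ℕ) (h : S s x) : S s (x ^ k) := by
  intro y hy
  apply h y
  obtain ⟨f, hf⟩ := hy
  refine ⟨f, ?_⟩
  have h1 : closure (Set.range fun i => H216.Pi.cj (MulAut.conj (x ^ k)) (f i)) ≤
      closure (Set.range fun i => H216.Pi.cj (MulAut.conj x) (f i)) := by
    rw [closure_le]
    rintro _ ⟨i, rfl⟩
    show H216.Pi.cj (MulAut.conj (x ^ k)) (f i) ∈ _
    rw [map_pow, cj_pow]
    exact Subgroup.pow_mem _ (Subgroup.subset_closure (Set.mem_range_self i)) k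
  exact h1 hf

theorem S.conj {s : ℕ} (x u : Cfsg.Spor.He) (h : S s x) : S s (u * x * u⁻¹) := by
  have h1 := FC.conj h u
  rwa [cj_conj] at h1

theorem S.false {s : ℕ} (hs : s.Prime) {X : List Gen} {ws : List (List Gen)} {k : ℕ} (h : chk X ws s k = true)
    (hS : S s (wd X)) : False := by
  unfold chk at h
  simp only [Bool.and_eq_true, Bool.not_eq_true'] at h
  obtain ⟨⟨h1, h2⟩, h3⟩ := h
  have e1 := eq_of_chkB h1
  have e2 := ne_of_chkB h2
  rw [wd_pw, wd_nil] at e1 e2
  have hf : Fact s.Prime := ⟨hs⟩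
  have h4 : s ∣ orderOf (wd (cw X ws)) := by
    have h5 : orderOf (wd (cw X ws) ^ k) = s := orderOf_eq_prime (by rw [← pow_mul, e1]) e2
    rw [← h5]
    exact orderOf_pow_dvd k
  have h6 := hS _ ((inC_cw X ws).mono ((Nat.le_of_ble_eq_true h3).trans (mm_ge s)))
  rw [orderOf_injective _ (conj_inj center_he)] at h6
  exact h6 h4

/-! ### elements of order 2 -/

theorem ad {s : ℕ} (hs : s.Prime) {wc wd' : List (List Gen)} {kc kd : ℕ} (hc : chk [.c] wc s kc = true)
    (hd : chk [.d] wd' s kd = true) : NI s 2 Cfsg.Spor.He := by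
  intro g hg _ hFC
  have hgg : g * g = 1 := by rw [← pow_two, ← hg, pow_orderOf_eq_one]
  have hg1 : g ≠ 1 := by rintro rfl; rw [orderOf_one] at hg; norm_num at hg
  have hS : S s g := hFC
  rcases KFacts.He.Classes.two_classes_ad hgg hg1 with ⟨u, hu⟩ | ⟨u, hu⟩
  · have h1 : S s (wd [.d]) := by
      have h2 := S.conj g u⁻¹ hS
      rw [← hu] at h2
      have h3 : u⁻¹ * (u * PresentedGroup.of Gen.d * u⁻¹) * u⁻¹⁻¹ = wd [.d] := by
        rw [wd_one]
        group
        rfl
      rwa [h3] at h2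
    exact S.false hs hd h1
  · obtain ⟨v, hv⟩ := isConj_iff.1 Cfsg.Agent.H815.Row2He.conj_ac
    have h1 : S s (wd [.c]) := by
      have h2 := S.conj g (v * u⁻¹) hS
      rw [← hu] at h2
      have h3 : v * u⁻¹ * (u * PresentedGroup.of Gen.a * u⁻¹) * (v * u⁻¹)⁻¹ = wd [.c] := by
        rw [← hv, wd_one]
        group
        rfl
      rwa [h3] at h2
    exact S.false hs hc h1

/-! ### elements of order 3 -/

open Cfsg.Agent.H51.Rad3.He (A B C)

theorem three {s : ℕ} (hs : s.Prime) {w1 w2 w3 w4 w5 : List (List Gen)} {k1 k2 k3 k4 k5 : ℕ}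
    (c1 : chk C w1 s k1 = true) (c2 : chk A w2 s k2 = true) (c3 : chk (B ++ pw A 0) w3 s k3 = true)
    (c4 : chk (B ++ pw A 1) w4 s k4 = true) (c5 : chk (B ++ pw A 2) w5 s k5 = true) : NI s 3 Cfsg.Spor.He := by
  have := finHe
  have h3 : Fact (Nat.Prime 3) := ⟨by norm_num⟩
  intro x hx _ hFC
  have hS : S s x := hFC
  have r1 : wd A * wd C = wd C * wd A := by
    have h1 := eq_of_chkB (show chkB (A ++ C) (C ++ A) = true by decide +kernel)
    rwa [wd_append, wd_append] at h1
  have r2 : wd B * wd C = wd C * wd B := by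
    have h1 := eq_of_chkB (show chkB (B ++ C) (C ++ B) = true by decide +kernel)
    rwa [wd_append, wd_append] at h1
  have r3 : wd A * wd B = wd C * (wd B * wd A) := by
    have h1 := eq_of_chkB (show chkB (A ++ B) (C ++ (B ++ A)) = true by decide +kernel)
    rwa [wd_append, wd_append, wd_append] at h1
  have r4 : wd A ^ 3 = 1 := by
    have h1 := eq_of_chkB (show chkB (pw A 3) [] = true by decide +kernel)
    rwa [wd_pw, wd_nil] at h1
  have r5 : wd B ^ 3 = 1 := by
    have h1 := eq_of_chkB (show chkB (pw B 3) [] = true by decide +kernel)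
    rwa [wd_pw, wd_nil] at h1
  have r6 : wd C ^ 3 = 1 := by
    have h1 := eq_of_chkB (show chkB (pw C 3) [] = true by decide +kernel)
    rwa [wd_pw, wd_nil] at h1
  have r7 : wd C ≠ 1 := by
    rw [← wd_nil]
    exact ne_of_chkB (by decide +kernel)
  rcases Cfsg.Agent.H587.NR.exists_extra (p := 3) r3 r2 r1 r5 r4 r6 r7
    (by rw [KFacts.He.Classes.card_he]; norm_num) (S := S s) (fun x k h => h.pow x k)
    (fun x u h => h.conj x u) hx hS with h | h | ⟨j, hj, h⟩
  · exact S.false hs c1 h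
  · exact S.false hs c2 h
  · rw [← wd_pw, ← wd_append] at h
    interval_cases j
    · exact S.false hs c3 h
    · exact S.false hs c4 h
    · exact S.false hs c5 h

/-! ### the primes 5, 7, 17 -/

theorem no_comm {p q : ℕ} (n : ℕ) (hn : ∀ w : Cfsg.Spor.He, orderOf w = p → Nat.card ↥(centralizer ({w} : Set Cfsg.Spor.He)) ∣ n)
    (hq : ¬ q ∣ n) {h y : Cfsg.Spor.He} (hh : orderOf h = p) (hy : orderOf y = q) : h * y ≠ y * h := by
  intro hc
  apply hq
  have hyC : y ∈ centralizer ({h} : Set Cfsg.Spor.He) := mem_centralizer_singleton_iff.2 hc.symm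
  refine Dvd.dvd.trans ?_ (hn h hh)
  have := orderOf_dvd_natCard (⟨y, hyC⟩ : centralizer ({h} : Set Cfsg.Spor.He))
  rwa [← orderOf_coe, hy] at this

theorem exists_order {s : ℕ} (hs : s.Prime) (hd : s ∣ 4030387200) : ∃ y : Cfsg.Spor.He, orderOf y = s := by
  have := finHe
  have hf : Fact s.Prime := ⟨hs⟩
  exact exists_prime_orderOf_dvd_card' s (by rw [KFacts.He.Classes.card_he]; exact hd)

/-- exponents of the prime powers dividing the order -/
theorem exp_le {p m b : ℕ} (hb : p ^ b ∣ Nat.card Cfsg.Spor.He) (hm : ¬ p ^ (m + 1) ∣ 4030387200) : b ≤ m := by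
  by_contra h
  apply hm
  rw [KFacts.He.Classes.card_he] at hb
  exact (pow_dvd_pow p (by omega)).trans hb

theorem ni5_7 : NI 5 7 Cfsg.Spor.He := by
  have := finHe
  obtain ⟨y, hy⟩ := exists_order (s := 5) (by norm_num) (by norm_num)
  refine NI.of_V (by norm_num) (by norm_num) center_he hy (fun h hh => ?_) ?_
  · exact (no_comm 300 (fun w hw => H436.HeFive.cent5 w hw) (by norm_num) hy hh).symm
  · intro b hb hd
    have := exp_le (m := 3) hd (by norm_num)
    interval_cases b <;> norm_num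

theorem ni5_17 : NI 5 17 Cfsg.Spor.He := by
  have := finHe
  obtain ⟨y, hy⟩ := exists_order (s := 5) (by norm_num) (by norm_num)
  refine NI.of_V (by norm_num) (by norm_num) center_he hy (fun h hh => ?_) ?_
  · exact (no_comm 300 (fun w hw => H436.HeFive.cent5 w hw) (by norm_num) hy hh).symm
  · intro b hb hd
    have := exp_le (m := 1) hd (by norm_num)
    interval_cases b; norm_num

theorem ni7_5 : NI 7 5 Cfsg.Spor.He := by
  have := finHe
  obtain ⟨y, hy⟩ := exists_order (s := 7) (by norm_num) (by norm_num)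
  refine NI.of_V (by norm_num) (by norm_num) center_he hy (fun h hh => ?_) ?_
  · exact no_comm 300 (fun w hw => H436.HeFive.cent5 w hw) (by norm_num) hh hy
  · intro b hb hd
    have := exp_le (m := 2) hd (by norm_num)
    interval_cases b <;> norm_num

theorem ni7_17 : NI 7 17 Cfsg.Spor.He := by
  have := finHe
  obtain ⟨y, hy⟩ := exists_order (s := 7) (by norm_num) (by norm_num)
  refine NI.of_V (by norm_num) (by norm_num) center_he hy (fun h hh => ?_) ?_
  · exact no_comm 17 (fun w hw => H436.HeFive.cent17 w hw) (by norm_num) hh hy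
  · intro b hb hd
    have := exp_le (m := 1) hd (by norm_num)
    interval_cases b; norm_num

theorem primes {p : ℕ} (hp : p.Prime) {g : Cfsg.Spor.He} (hg : orderOf g = p) :
    p = 2 ∨ p = 3 ∨ p = 5 ∨ p = 7 ∨ p = 17 := by
  have h1 : p ∣ Nat.card Cfsg.Spor.He := by rw [← hg]; exact orderOf_dvd_natCard g
  rw [KFacts.He.Classes.card_he, show (4030387200 : ℕ) = 2 ^ 10 * 3 ^ 3 * 5 ^ 2 * 7 ^ 3 * 17 by norm_num] at h1
  have key : ∀ {q m : ℕ}, q.Prime → p ∣ q ^ m → p = q := fun hq h =>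
    (Nat.prime_dvd_prime_iff_eq hp hq).1 (hp.dvd_of_dvd_pow h)
  rcases hp.dvd_mul.1 h1 with h1 | h1
  · rcases hp.dvd_mul.1 h1 with h1 | h1
    · rcases hp.dvd_mul.1 h1 with h1 | h1
      · rcases hp.dvd_mul.1 h1 with h1 | h1
        · exact Or.inl (key Nat.prime_two h1)
        · exact Or.inr (Or.inl (key Nat.prime_three h1))
      · exact Or.inr (Or.inr (Or.inl (key (by norm_num) h1)))
    · exact Or.inr (Or.inr (Or.inr (Or.inl (key (by norm_num) h1))))
  · exact Or.inr (Or.inr (Or.inr (Or.inr ((Nat.prime_dvd_prime_iff_eq hp (by norm_num)).1 h1))))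

/-! ### outer involutions -/

theorem no_he {s : ℕ} (hs : s.Prime) (hd : s ∣ 20160) : NO s Cfsg.Spor.He := by
  have := finHe
  have hsim : IsSimpleGroup Cfsg.Spor.He := Cfsg.Agent.S1695.result.1
  intro x hx hxo hPC _
  have hxx : x * x = 1 := by rw [← pow_two, ← hx, pow_orderOf_eq_one]
  obtain ⟨g, hg⟩ := KFacts.He.InvolAut.fix_a x hxx
  -- move the fixed involution to `a`
  set y := H216.Pi.cj x g⁻¹ with hy
  have hya : y (gn .a) = gn .a := by
    rw [hy]
    show (MulAut.conj g⁻¹ * x * (MulAut.conj g⁻¹)⁻¹) (gn .a) = gn .a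
    rw [← map_inv, inv_inv, MulAut.mul_apply, MulAut.mul_apply, MulAut.conj_apply, MulAut.conj_apply]
    have h1 : x (g * gn .a * g⁻¹) = g * gn .a * g⁻¹ := hg
    rw [h1]
    group
  have hPy : PC s y := hPC.conj g⁻¹
  have hyy : y * y = 1 := by
    rw [hy, ← cj_mul, hxx]
    unfold H216.Pi.cj
    group
  have T : H291.RowsE.TopP Spor.He (gn .a) KFacts.He.TwoACent.L :=
    ⟨CTwoTab.He.L_le_cent, KFacts.He.TwoACent.perf, CTwoTab.He.perfect_le_L⟩
  have hcardL : Nat.card ↥KFacts.He.TwoACent.L = 4 * 20160 := CTwoTab.He.card_L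
  have hne : KFacts.He.TwoACent.L ≠ ⊤ := by
    intro h
    have h1 : Nat.card ↥KFacts.He.TwoACent.L = Nat.card Spor.He := by rw [h]; exact Subgroup.card_top
    rw [hcardL, KFacts.He.Classes.card_he] at h1
    norm_num at h1
  have hq := KFacts.He.TwoA.isQuasisimple_L
  have hquo : s ∣ Nat.card (↥KFacts.He.TwoACent.L ⧸ center ↥KFacts.He.TwoACent.L) := by
    have h1 := (center ↥KFacts.He.TwoACent.L).card_mul_index
    rw [hcardL, CTwoTab.He.card_center_L] at h1
    have h2 : (center ↥KFacts.He.TwoACent.L).index = 20160 := by omega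
    have h3 : Nat.card (↥KFacts.He.TwoACent.L ⧸ center ↥KFacts.He.TwoACent.L) = 20160 := h2
    rw [h3]
    exact hd
  have hfix : KFacts.He.TwoACent.L ≤ fixedSubgroup y := by
    intro m hm
    exact hPy.eq_of_quasisimple hs hne (fun _ h => H291.RowsE.map_mem hya T h) hq hquo hm
  have h3 := card_dvd_of_le hfix
  rw [hcardL] at h3
  refine H287.OutHe.not_dvd KFacts.He.Hyp.hyp hyy ?_ ((by norm_num : 2 ^ 7 ∣ 4 * 20160).trans h3)
  rintro ⟨k, hk⟩
  apply hxo
  refine ⟨g * k * g⁻¹, ?_⟩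
  have h4 : x = MulAut.conj g * y * (MulAut.conj g)⁻¹ := by
    rw [hy]
    unfold H216.Pi.cj
    rw [map_inv]
    group
  rw [h4, hk, map_mul, map_mul, map_inv]

/-! ### the rows -/

theorem out_two (x : MulAut Cfsg.Spor.He) (hp : (orderOf x).Prime)
    (hx : x ∉ (MulAut.conj : Cfsg.Spor.He →* MulAut Cfsg.Spor.He).range) : orderOf x = 2 := by
  by_contra h
  apply hx
  refine KFacts.He.Outer.inner_of_odd KFacts.He.Outer.isoHe_refl x (hp.odd_of_ne_two h) ?_
  rw [pow_orderOf_eq_one]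
  exact one_mem _

theorem c5_c : chk [.c] [[], [.d]] 5 1 = true := by
  delta chk chkB
  rw [Cfsg.Agent.KFacts.He.Fast.act_fast]
  decide +kernel
theorem c5_d : chk [.d] [[], [.c]] 5 1 = true := by
  delta chk chkB
  rw [Cfsg.Agent.KFacts.He.Fast.act_fast]
  decide +kernel
theorem c5_1 : chk C [[], [.c]] 5 1 = true := by
  delta chk chkB
  rw [Cfsg.Agent.KFacts.He.Fast.act_fast]
  decide +kernel
theorem c5_2 : chk A [[], [.c]] 5 1 = true := by
  delta chk chkB
  rw [Cfsg.Agent.KFacts.He.Fast.act_fast]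
  decide +kernel
theorem c5_3 : chk (B ++ pw A 0) [[], [.c]] 5 3 = true := by
  delta chk chkB
  rw [Cfsg.Agent.KFacts.He.Fast.act_fast]
  decide +kernel
theorem c5_4 : chk (B ++ pw A 1) [[], [.c, .f]] 5 3 = true := by
  delta chk chkB
  rw [Cfsg.Agent.KFacts.He.Fast.act_fast]
  decide +kernel
theorem c5_5 : chk (B ++ pw A 2) [[], [.f]] 5 3 = true := by
  delta chk chkB
  rw [Cfsg.Agent.KFacts.He.Fast.act_fast]
  decide +kernel

theorem c7_c : chk [.c] [[], [.b], [.d]] 7 3 = true := by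
  delta chk chkB
  rw [Cfsg.Agent.KFacts.He.Fast.act_fast]
  decide +kernel
theorem c7_d : chk [.d] [[], [.c, .b, .d, .c]] 7 3 = true := by
  delta chk chkB
  rw [Cfsg.Agent.KFacts.He.Fast.act_fast]
  decide +kernel
theorem c7_1 : chk C [[], [.c, .d, .f, .g]] 7 2 = true := by
  delta chk chkB
  rw [Cfsg.Agent.KFacts.He.Fast.act_fast]
  decide +kernel
theorem c7_2 : chk A [[], [.c, .d, .c]] 7 1 = true := by
  delta chk chkB
  rw [Cfsg.Agent.KFacts.He.Fast.act_fast]
  decide +kernel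
theorem c7_3 : chk (B ++ pw A 0) [[], [.c, .d, .f, .g]] 7 3 = true := by
  delta chk chkB
  rw [Cfsg.Agent.KFacts.He.Fast.act_fast]
  decide +kernel
theorem c7_4 : chk (B ++ pw A 1) [[], [.c]] 7 3 = true := by
  delta chk chkB
  rw [Cfsg.Agent.KFacts.He.Fast.act_fast]
  decide +kernel
theorem c7_5 : chk (B ++ pw A 2) [[], [.c]] 7 3 = true := by
  delta chk chkB
  rw [Cfsg.Agent.KFacts.He.Fast.act_fast]
  decide +kernel

/-- **`He`, `s = 5`** -/
theorem ncs_He_5 {K : Type u} [Group K] [Finite K] (h : Spor.IsoHe K) : NCs 5 K := by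
  have := finHe
  obtain ⟨e⟩ := h
  refine ncs_congr e.symm (ncs_of center_he (fun p hp hp5 g hg => ?_) out_two (no_he (by norm_num) (by norm_num)))
  rcases primes hp hg with rfl | rfl | rfl | rfl | rfl
  · exact ad (by norm_num) c5_c c5_d g hg
  · exact three (by norm_num) c5_1 c5_2 c5_3 c5_4 c5_5 g hg
  · exact absurd rfl hp5
  · exact ni5_7 g hg
  · exact ni5_17 g hg

/-- **`He`, `s = 7`** -/
theorem ncs_He_7 {K : Type u} [Group K] [Finite K] (h : Spor.IsoHe K) : NCs 7 K := by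
  have := finHe
  obtain ⟨e⟩ := h
  refine ncs_congr e.symm (ncs_of center_he (fun p hp hp7 g hg => ?_) out_two (no_he (by norm_num) (by norm_num)))
  rcases primes hp hg with rfl | rfl | rfl | rfl | rfl
  · exact ad (by norm_num) c7_c c7_d g hg
  · exact three (by norm_num) c7_1 c7_2 c7_3 c7_4 c7_5 g hg
  · exact ni7_5 g hg
  · exact absurd rfl hp7
  · exact ni7_17 g hg

end Cfsg.Agent.H294.PiSpor.He
end
end
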